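import Mathlib

/-!
# An involution normalizing a group of even order commutes with one of its involutions
-/

set_option autoImplicit false

namespace CfsgLib.Spor.UFourType

/-- An involution normalizing a subgroup of even order centralizes an involution of it. -/
theorem exists_fixed_invol {G : Type*} [Group G] [Finite G] {t : G} (ht : t * t = 1) (X : Subgroup G)
    (hX : ∀ x ∈ X, t * x * t ∈ X) (heven : 2 ∣ Nat.card X) :
    ∃ w ∈ X, w * w = 1 ∧ w ≠ 1 ∧ w * t = t * w := by
  classical
  haveI : Fact (Nat.Prime 2) := ⟨Nat.prime_two⟩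
  haveI := Fintype.ofFinite X
  let I := {x : X // x * x = 1 ∧ x ≠ 1}
  haveI := Fintype.ofFinite I
  let f : Function.End X := fun x => x⁻¹
  have hf : f ^ 2 ^ 1 = 1 := funext fun x => inv_inv x
  have h1 := Equiv.Perm.card_fixedPoints_modEq hf
  have hfix : Nat.card (Function.fixedPoints f) = Nat.card I + 1 := by
    rw [← Finite.card_option]
    refine (Nat.card_eq_of_bijective (fun o : Option I => o.elim
      (⟨1, (inv_one : (1 : X)⁻¹ = 1)⟩ : Function.fixedPoints f)
      fun x => ⟨x.1, (inv_eq_of_mul_eq_one_right x.2.1 : (x.1 : X)⁻¹ = x.1)⟩) ⟨?_, ?_⟩).symm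
    · rintro (_ | x) (_ | y) e
      · rfl
      · exact absurd (congrArg Subtype.val e).symm y.2.2
      · exact absurd (congrArg Subtype.val e) x.2.2
      · exact congrArg some (Subtype.ext (congrArg Subtype.val e :))
    · rintro ⟨x, hx⟩
      by_cases h1 : x = 1
      · exact ⟨none, Subtype.ext h1.symm⟩
      · exact ⟨some ⟨x, mul_eq_one_iff_eq_inv.2 (hx : x⁻¹ = x).symm, h1⟩, rfl⟩
  have hodd : ¬ 2 ∣ Nat.card I := by
    intro h
    rw [Nat.ModEq, ← Nat.card_eq_fintype_card, ← Nat.card_eq_fintype_card] at h1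
    omega
  let c : Function.End I := fun x => ⟨⟨t * x.1 * t, hX _ x.1.2⟩, Subtype.ext (by
      show t * x.1 * t * (t * x.1 * t) = 1
      rw [show t * (x.1 : G) * t * (t * x.1 * t) = t * x.1 * (t * t) * x.1 * t by group, ht, mul_one, mul_assoc t,
        show (x.1 : G) * x.1 = 1 from congrArg Subtype.val x.2.1, mul_one, ht]), fun e => x.2.2 (Subtype.ext (by
      have e' : t * (x.1 : G) * t = 1 := congrArg Subtype.val e
      calc (x.1 : G) = t * t * x.1 * (t * t) := by rw [ht]; group
        _ = t * (t * x.1 * t) * t := by group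
        _ = 1 := by rw [e', mul_one, ht]))⟩
  have hc : c ^ 2 ^ 1 = 1 := funext fun x => Subtype.ext (Subtype.ext (by
    show t * (t * (x.1 : G) * t) * t = x.1
    rw [show t * (t * (x.1 : G) * t) * t = t * t * x.1 * (t * t) by group, ht]; group))
  have h2 := Equiv.Perm.card_fixedPoints_modEq hc
  rw [Nat.ModEq, ← Nat.card_eq_fintype_card, ← Nat.card_eq_fintype_card] at h2
  obtain ⟨x, hx⟩ : Nonempty (Function.fixedPoints c) := by
    refine (Nat.card_pos_iff.1 ?_).1
    omega
  have e : t * (x.1 : G) * t = x.1 := congrArg (fun i : I => (i.1 : G)) (hx : c x = x)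
  refine ⟨x.1, x.1.2, congrArg Subtype.val x.2.1, fun e => x.2.2 (Subtype.ext e), ?_⟩
  calc (x.1 : G) * t = t * x.1 * t * t := by rw [e]
    _ = t * x.1 := by rw [mul_assoc, ht, mul_one]

end CfsgLib.Spor.UFourType
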