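import Mathlib

/-!
# Automorphisms of 3-groups inverted by an involution with few fixed points
-/

set_option autoImplicit false

namespace CfsgLib.Spor.UFourType

open Subgroup

/-- An automorphism of order prime to six is trivial on an invariant subgroup of order dividing nine. -/
theorem small_trivial {V : Type*} [Group V] [Finite V] (X : MulAut V) (W : Subgroup V)
    (hW : ∀ w ∈ W, X w ∈ W) (hcard : Nat.card W ∣ 9) {m : ℕ} (hm : X ^ m = 1) (h2 : ¬ 2 ∣ m) (h3 : ¬ 3 ∣ m) :
    ∀ w ∈ W, X w = w := by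
  classical
  haveI := Fintype.ofFinite W
  let f : Function.End W := fun w => ⟨X w, hW w w.2⟩
  have hf : ∀ (n : ℕ) (w : W), (((f ^ n : Function.End W) w : W) : V) = (X ^ n) w := fun n => by
    induction n with
    | zero => exact fun w => rfl
    | succ n ih =>
      intro w
      rw [pow_succ' f, pow_succ' X]
      show X ((f ^ n) w : V) = X ((X ^ n) w)
      rw [ih]
  suffices h : orderOf f = 1 from fun w hw => congrArg (fun g : Function.End W => (g ⟨w, hw⟩ : V)) (orderOf_eq_one_iff.1 h)
  by_contra h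
  have hd : orderOf f ∣ m := orderOf_dvd_of_pow_eq_one (funext fun w => Subtype.ext (by rw [hf, hm]; rfl))
  have ho : orderOf f ≠ 0 := fun e => by
    rw [e, zero_dvd_iff] at hd
    exact h2 (hd ▸ dvd_zero 2)
  set p := (orderOf f).minFac with hp
  have hpp : p.Prime := Nat.minFac_prime h
  haveI : Fact p.Prime := ⟨hpp⟩
  have hpd : p ∣ orderOf f := Nat.minFac_dvd _
  obtain ⟨q, hq⟩ := hpd
  have hg : (f ^ q) ^ p ^ 1 = 1 := by rw [pow_one, ← pow_mul, mul_comm, ← hq, pow_orderOf_eq_one]
  have hg1 : f ^ q ≠ 1 := fun e => by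
    have hq0 : 0 < q := Nat.pos_of_ne_zero fun z => ho (by rw [hq, z, mul_zero])
    have h1 := Nat.le_of_dvd hq0 (orderOf_dvd_of_pow_eq_one e)
    rw [hq] at h1
    have := Nat.mul_le_mul_right q hpp.two_le
    omega
  let S : Subgroup W := ((X ^ q).toMonoidHom.eqLocus (MonoidHom.id V)).subgroupOf W
  have hfix : Nat.card (Function.fixedPoints (f ^ q)) = Nat.card S :=
    Nat.card_congr (Equiv.subtypeEquivRight fun w => by
      show (f ^ q) w = w ↔ (X ^ q) (w : V) = w
      rw [← hf, Subtype.ext_iff])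
  have hmod := Equiv.Perm.card_fixedPoints_modEq hg
  rw [← Nat.card_eq_fintype_card, ← Nat.card_eq_fintype_card, hfix] at hmod
  have hle := Subgroup.card_subgroup_dvd_card S
  have hne : Nat.card S ≠ Nat.card W := fun e => hg1 (funext fun w => Subtype.ext (by
    have hw : w ∈ S := by rw [Subgroup.eq_top_of_card_eq S e]; exact mem_top w
    rw [hf]
    exact hw))
  have key : ∀ a ∈ Nat.divisors 9, ∀ b ∈ Nat.divisors 9, b ∣ a → b ≠ a → b ≤ a ∧ a - b ∈ [2, 6, 8] := by decide
  obtain ⟨hlt, hab⟩ := key _ (Nat.mem_divisors.2 ⟨hcard, by norm_num⟩) _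
    (Nat.mem_divisors.2 ⟨hle.trans hcard, by norm_num⟩) hle hne
  have hdiv := (Nat.modEq_iff_dvd' hlt).1 hmod.symm
  have h23 : p = 2 ∨ p = 3 := by
    simp only [List.mem_cons, List.not_mem_nil, or_false] at hab
    rcases hab with e | e | e <;> rw [e] at hdiv
    · exact Or.inl ((Nat.prime_dvd_prime_iff_eq hpp Nat.prime_two).1 hdiv)
    · rcases (Nat.Prime.dvd_mul hpp).1 (show p ∣ 2 * 3 from hdiv) with d | d
      exacts [Or.inl ((Nat.prime_dvd_prime_iff_eq hpp Nat.prime_two).1 d),
        Or.inr ((Nat.prime_dvd_prime_iff_eq hpp Nat.prime_three).1 d)]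
    · exact Or.inl ((Nat.prime_dvd_prime_iff_eq hpp Nat.prime_two).1 (hpp.dvd_of_dvd_pow (show p ∣ 2 ^ 3 from hdiv)))
  rcases h23 with e | e
  · exact h2 (e ▸ (hq ▸ dvd_mul_right p q).trans hd)
  · exact h3 (e ▸ (hq ▸ dvd_mul_right p q).trans hd)

/-- Iterates of an automorphism moving an element by a fixed one. -/
theorem pow_move {V : Type*} [Group V] (X : MulAut V) {v c : V} (hv : X v = v * c) (hc : X c = c) (n : ℕ) :
    (X ^ n) v = v * c ^ n := by
  induction n with
  | zero => simp
  | succ n ih =>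
    rw [pow_succ', MulAut.mul_apply, ih, map_mul, map_pow, hv, hc, pow_succ']
    group

/-- In a 3-group an automorphism of order prime to three cannot move an element by a fixed one. -/
theorem no_move {V : Type*} [Group V] [Finite V] (hV : IsPGroup 3 V) (X : MulAut V) {m : ℕ} (hm : X ^ m = 1)
    (h3 : ¬ 3 ∣ m) {v c : V} (hv : X v = v * c) (hc : X c = c) : c = 1 := by
  have h := pow_move X hv hc m
  rw [hm, MulAut.one_apply, eq_comm, mul_eq_left] at h
  obtain ⟨k, hk⟩ := hV c
  refine orderOf_eq_one_iff.1 (Nat.eq_one_of_dvd_coprimes ?_ (orderOf_dvd_of_pow_eq_one hk) (orderOf_dvd_of_pow_eq_one h))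
  exact Nat.Coprime.pow_left k (Nat.prime_three.coprime_iff_not_dvd.2 h3)

/-- A fixed element times an inverted one. -/
theorem split_aut {V : Type*} [Group V] [Finite V] (hV : IsPGroup 3 V) {Z : MulAut V} (hZ : ∀ v, Z (Z v) = v)
    (v : V) : ∃ p d, v = p * d ∧ Z p = p ∧ Z d = d⁻¹ := by
  set e := (Z v)⁻¹ * v with he
  have hei : Z e = e⁻¹ := by rw [he, map_mul, map_inv, hZ, mul_inv_rev, inv_inv]
  obtain ⟨n, hn⟩ := hV e
  obtain ⟨k, hk⟩ := (Odd.pow (n := n) (by decide : Odd 3))
  set d := e ^ (k + 1) with hd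
  have hd2 : d * d = e := by
    rw [hd, ← pow_add, show k + 1 + (k + 1) = (2 * k + 1) + 1 by ring, ← hk, pow_succ, hn, one_mul]
  have hdi : Z d = d⁻¹ := by rw [hd, map_pow, hei, inv_pow]
  refine ⟨v * d⁻¹, d, by group, ?_, hdi⟩
  rw [map_mul, map_inv, hdi, inv_inv, eq_mul_inv_iff_mul_eq, mul_assoc, hd2, he]
  group

/-- The abelian case. -/
theorem trivial_abelian {V : Type*} [CommGroup V] [Finite V] (hV : IsPGroup 3 V) (X Z : MulAut V)
    (hZ : ∀ v, Z (Z v) = v) (hXZ : ∀ v, Z (X v) = X⁻¹ (Z v)) {m : ℕ} (hm : X ^ m = 1) (h2 : ¬ 2 ∣ m)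
    (h3 : ¬ 3 ∣ m) (hfix : Nat.card {v : V // Z v = v} ≤ 3) : ∀ v, X v = v := by
  let E : V →* V := MonoidHom.mk' (fun v => X v * (X⁻¹ v)⁻¹) fun a b => by
    simp only [map_mul, mul_inv]
    exact mul_mul_mul_comm _ _ _ _
  have hinv : ∀ d, Z d = d⁻¹ → Z (E d) = E d := fun d hd => by
    have h' : Z (X⁻¹ d) = X (Z d) := by
      have := hXZ (X⁻¹ d)
      rw [MulAut.apply_inv_self] at this
      rw [this, MulAut.apply_inv_self]
    show Z (X d * (X⁻¹ d)⁻¹) = X d * (X⁻¹ d)⁻¹
    rw [map_mul, map_inv, hXZ, h', hd, map_inv, map_inv, inv_inv, mul_comm]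
  have hr : Nat.card E.range ≤ 9 := by
    let g : {v : V // Z v = v} × {v : V // Z v = v} → V := fun x => E x.1 * x.2
    have hsub : (E.range : Set V) ⊆ Set.range g := by
      rintro _ ⟨v, rfl⟩
      obtain ⟨p, d, rfl, hp, hd⟩ := split_aut hV hZ v
      exact ⟨(⟨p, hp⟩, ⟨E d, hinv d hd⟩), (map_mul E p d).symm⟩
    calc Nat.card E.range ≤ Nat.card (Set.range g) := Nat.card_mono (Set.toFinite _) hsub
      _ ≤ _ := Finite.card_range_le g
      _ ≤ 9 := by rw [Nat.card_prod]; nlinarith
  have hd9 : Nat.card E.range ∣ 9 := by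
    haveI : Fact (Nat.Prime 3) := ⟨Nat.prime_three⟩
    obtain ⟨k, hk⟩ := (hV.to_subgroup E.range).exists_card_eq
    rw [hk] at hr ⊢
    have : k ≤ 2 := by
      by_contra hh
      have := Nat.pow_le_pow_right (show 0 < 3 by norm_num) (show 3 ≤ k by omega)
      omega
    exact (show (3 : ℕ) ^ k ∣ 3 ^ 2 from pow_dvd_pow 3 this)
  have hEX : ∀ v, E (X v) = X (E v) := fun v => by
    show X (X v) * (X⁻¹ (X v))⁻¹ = X (X v * (X⁻¹ v)⁻¹)
    rw [map_mul, map_inv, MulAut.apply_inv_self, MulAut.inv_apply_self]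
  have htriv := small_trivial X E.range (by rintro _ ⟨v, rfl⟩; exact ⟨X v, hEX v⟩) hd9 hm h2 h3
  intro v
  set c := v⁻¹ * X v with hc
  have hEc : E c = 1 := by rw [hc, map_mul, hEX, htriv _ ⟨v, rfl⟩, map_inv, inv_mul_cancel]
  have hXX : (X ^ 2) c = c := by
    have e : X c = X⁻¹ c := mul_inv_eq_one.1 hEc
    rw [pow_two, MulAut.mul_apply, e, MulAut.apply_inv_self]
  have hXc : X c = c := by
    obtain ⟨k, hk⟩ := Nat.odd_iff.2 (by omega : m % 2 = 1)
    have h : (X ^ (2 * (k + 1))) c = c := by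
      rw [pow_mul]
      generalize k + 1 = i
      induction i with
      | zero => rfl
      | succ i ih => rw [pow_succ, MulAut.mul_apply, hXX, ih]
    rwa [show 2 * (k + 1) = m + 1 by omega, pow_succ, hm, one_mul] at h
  have := no_move hV X hm h3 (v := v) (c := c) (by rw [hc]; group) hXc
  rw [hc, inv_mul_eq_one] at this
  exact this.symm

/-- An automorphism of order prime to six inverted by an involution with at most three fixed points is trivial. -/
theorem trivial_of_few_fixed {V : Type*} [Group V] [Finite V] (hV : IsPGroup 3 V) (X Z : MulAut V)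
    (hZ : ∀ v, Z (Z v) = v) (hXZ : ∀ v, Z (X v) = X⁻¹ (Z v)) {m : ℕ} (hm : X ^ m = 1) (h2 : ¬ 2 ∣ m)
    (h3 : ¬ 3 ∣ m) (hfix : Nat.card {v : V // Z v = v} ≤ 3) : ∀ v, X v = v := by
  induction h : Nat.card V using Nat.strong_induction_on generalizing V with
  | _ N ih =>
    haveI : Fact (Nat.Prime 3) := ⟨Nat.prime_three⟩
    intro v
    rcases subsingleton_or_nontrivial V with hs | hs
    · exact Subsingleton.elim _ _
    haveI := hV.center_nontrivial
    have hmap : ∀ e : MulAut V, (center V).map (e : V ≃* V).toMonoidHom = center V :=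
      characteristic_iff_map_eq.1 inferInstance
    have hc' : ∀ (e : MulAut V) (c : center V), e (c : V) ∈ center V := fun e c =>
      (hmap e).le (mem_map_of_mem _ c.2)
    let res : MulAut V →* MulAut (center V) := MonoidHom.mk' (fun e =>
      { toFun := fun c => ⟨e c, hc' e c⟩
        invFun := fun c => ⟨e⁻¹ (c : V), hc' e⁻¹ c⟩
        left_inv := fun c => Subtype.ext (MulAut.inv_apply_self V e c)
        right_inv := fun c => Subtype.ext (MulAut.apply_inv_self V e c)
        map_mul' := fun c d => Subtype.ext (map_mul e (c : V) d) }) fun _ _ => rfl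
    letI : CommGroup (center V) := { (inferInstance : Group (center V)) with
      mul_comm := fun c d => Subtype.ext (mem_center_iff.1 d.2 c) }
    have hcen : ∀ c : center V, res X c = c := by
      refine trivial_abelian (hV.to_subgroup _) (res X) (res Z) (fun c => Subtype.ext (hZ c)) (fun c => ?_)
        (m := m) (by rw [← map_pow, hm, map_one]) h2 h3 (le_trans ?_ hfix)
      · rw [← map_inv]
        exact Subtype.ext (hXZ c)
      · exact Nat.card_le_card_of_injective (fun c => ⟨(c.1 : V), congrArg Subtype.val c.2⟩)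
          fun a b e => Subtype.ext (Subtype.ext (congrArg Subtype.val e :))
    let qt : MulAut V →* MulAut (V ⧸ center V) := MonoidHom.mk'
      (fun e => QuotientGroup.congr (center V) (center V) e (hmap e))
      fun a b => MulEquiv.ext fun x => QuotientGroup.induction_on x fun v => rfl
    have hlt : Nat.card (V ⧸ center V) < N := by
      rw [← h, ← (center V).card_mul_index, ← Subgroup.index_eq_card]
      exact lt_mul_left (Nat.pos_of_ne_zero Subgroup.index_ne_zero_of_finite) Finite.one_lt_card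
    have hquo := ih _ hlt (hV.to_quotient _) (qt X) (qt Z)
      (fun x => QuotientGroup.induction_on x fun w => congrArg QuotientGroup.mk (hZ w))
      (fun x => by
        rw [← map_inv]
        exact QuotientGroup.induction_on x fun w => congrArg QuotientGroup.mk (hXZ w))
      (by rw [← map_pow, hm, map_one]) (le_trans (Nat.card_le_card_of_surjective
        (fun p : {v : V // Z v = v} => (⟨(p.1 : V ⧸ center V), congrArg QuotientGroup.mk p.2⟩ :
          {x : V ⧸ center V // qt Z x = x})) ?_) hfix) rfl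
    · have hq := hquo (v : V ⧸ center V)
      have hmem : v⁻¹ * X v ∈ center V := QuotientGroup.eq.1 (hq : ((X v : V) : V ⧸ center V) = v).symm
      have hfx : X (v⁻¹ * X v) = v⁻¹ * X v := congrArg Subtype.val (hcen ⟨_, hmem⟩)
      have := no_move hV X hm h3 (v := v) (c := v⁻¹ * X v) (by group) hfx
      rw [inv_mul_eq_one] at this
      exact this.symm
    · rintro ⟨x, hx⟩
      obtain ⟨w, rfl⟩ := QuotientGroup.mk_surjective x
      obtain ⟨p, d, rfl, hp, hd⟩ := split_aut hV hZ w
      refine ⟨⟨p, hp⟩, Subtype.ext ?_⟩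
      have hx' : ((Z (p * d) : V) : V ⧸ center V) = ((p * d : V) : V ⧸ center V) := hx
      rw [map_mul, hp, hd, QuotientGroup.mk_mul, QuotientGroup.mk_mul, mul_left_cancel_iff, QuotientGroup.mk_inv] at hx'
      have h1 : ((d : V) : V ⧸ center V) = 1 := by
        obtain ⟨n, hn⟩ := (hV.to_quotient (center V)) (d : V ⧸ center V)
        obtain ⟨k, hk⟩ := (Odd.pow (n := n) (by decide : Odd 3))
        have h2' : (d : V ⧸ center V) * d = 1 := by
          nth_rw 1 [← hx']
          exact inv_mul_cancel _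
        rwa [hk, pow_succ, pow_mul, pow_two, h2', one_pow, one_mul] at hn
      show ((p : V) : V ⧸ center V) = ((p * d : V) : V ⧸ center V)
      rw [QuotientGroup.mk_mul, h1, mul_one]

end CfsgLib.Spor.UFourType
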