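import Mathlib

/-!
# A model of the centralizer of an involution in groups of `U₄(3)` type

The group of order 1152: two special linear groups of degree two over three elements glued at their centres, extended
by an involution exchanging them and by an element inducing the outer automorphism on both. An element is coded by a
number below 1152. The two parameters describe the possible extensions; `mC` is the one occurring.
-/

set_option autoImplicit false

namespace CfsgLib.Spor.UFourType

/-- The entries of the matrices. -/
def entries : List (ℕ × ℕ × ℕ × ℕ) :=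
  [(1, 0, 0, 1), (0, 2, 1, 0), (1, 1, 1, 2), (2, 1, 1, 1), (1, 1, 0, 1), (1, 2, 0, 1), (0, 1, 2, 1), (0, 1, 2, 2), (1, 0, 1, 1), (1, 0, 2, 1), (1, 1, 2, 0), (1, 2, 1, 0), (2, 0, 0, 2), (0, 1, 2, 0), (2, 2, 2, 1), (1, 2, 2, 2), (2, 2, 0, 2), (2, 1, 0, 2), (0, 2, 1, 2), (0, 2, 1, 1), (2, 0, 2, 2), (2, 0, 1, 2), (2, 2, 1, 0), (2, 1, 2, 0)]

/-- The multiplication table, packed. -/
def mulTbl : ℕ := 523940942804685450083395157465830405736012696006329912259246231657634563459577001529085273855158152305863922741246045320382814305977666449631829292647665470042019031220390921980720006976825836237277284510088945926215376176713563809134112476777616390708703365788614971252686868124195448016091813668784353175527998697126027010171415092630070427090299072611047317201115461154900842975841627515928377605000818917099728969759617971750837659663010135068739326117889570628654491599071830511315889380397171301390079177587958551400555873788796467292484939620669700538845100923926258656093783052744382743456122436145255407521948480965065971774929228467300344753952881670986704680426986417410554406817752845500190355469270724033478722786400035599647741725972791578041355049351979103012942933952961201150825833447747183899676957204888845022753640436548680249539912524184751802400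

/-- The inverse table, packed. -/
def invTbl : ℕ := 757615609431272968899515812421286304

/-- The table of the outer automorphism, packed. -/
def gamTbl : ℕ := 337929714372411274869638718568872992

/-- An entry of a packed table. -/
def tget (t k : ℕ) : ℕ := (t >>> (5 * k)) &&& 31

/-- The product of two matrices, by number. -/
def sMul (a b : ℕ) : ℕ := tget mulTbl (24 * a + b)

/-- The inverse, by number. -/
def sInv (a : ℕ) : ℕ := tget invTbl a

/-- The outer automorphism, by number. -/
def sGam (a : ℕ) : ℕ := tget gamTbl a

/-- Multiplication by the central involution, by number. -/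
def sNeg (a : ℕ) : ℕ := (a + 12) % 24

/-- The code of an element. -/
def code (a b : ℕ) (e f : Bool) : ℕ :=
  (if a < 12 then a * 24 + b else (a - 12) * 24 + sNeg b) * 4 + (2 * e.toNat + f.toNat)

/-- The first matrix of a code. -/
def cA (c : ℕ) : ℕ := c / 96

/-- The second matrix of a code. -/
def cB (c : ℕ) : ℕ := c / 4 % 24

/-- Whether the element exchanges the two groups. -/
def cE (c : ℕ) : Bool := c / 2 % 2 == 1

/-- Whether the element is outer on the groups. -/
def cF (c : ℕ) : Bool := c % 2 == 1

/-- The product in the extension with given parameters. -/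
def mulP (p q : Bool) (c d : ℕ) : ℕ :=
  let a₁ := if cF c then sGam (cA d) else cA d
  let b₁ := if cF c then sGam (cB d) else cB d
  let a₂ := if cE c then b₁ else a₁
  let b₂ := if cE c then a₁ else b₁
  let a₃ := sMul (cA c) a₂
  let b₃ := sMul (cB c) b₂
  let a₄ := if cF c && cE d && q then sNeg a₃ else a₃
  let a₅ := if cF c && cF d then (if p then sNeg (sMul a₄ 1) else sMul a₄ 1) else a₄
  let b₅ := if cF c && cF d then sMul b₃ 1 else b₃
  code a₅ b₅ (xor (cE c) (cE d)) (xor (cF c) (cF d))

/-- The product in the centralizer. -/
abbrev mC (c d : ℕ) : ℕ := mulP true true c d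

/-- The central involution. -/
abbrev zC : ℕ := 48

/-- The reference involution in the extraspecial group. -/
abbrev uC : ℕ := 100

/-- The exchanging involution. -/
abbrev xC : ℕ := 2

/-- The involutions. -/
def invList : List ℕ :=
  [2, 7, 48, 50, 55, 99, 100, 102, 104, 108, 147, 148, 150, 152, 156, 196, 200, 202, 203, 204,
    244, 248, 250, 251, 252, 292, 296, 300, 302, 303, 340, 344, 348, 350, 351, 406, 423, 454, 471, 498,
    503, 546, 551, 619, 622, 667, 670, 703, 714, 751, 762, 803, 806, 851, 854, 883, 898, 931, 946, 987,
    990, 1035, 1038, 1082, 1103, 1130, 1151]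

/-- The elements of order three. -/
def threeList : List ℕ :=
  [16, 20, 28, 32, 36, 72, 88, 92, 384, 400, 404, 412, 416, 420, 456, 472, 476, 480, 496, 500,
    508, 512, 516, 552, 568, 572, 600, 616, 620, 624, 640, 644, 652, 656, 660, 672, 688, 692, 700, 704,
    708, 744, 760, 764, 768, 784, 788, 796, 800, 804, 840, 856, 860, 864, 880, 884, 892, 896, 900, 936,
    952, 956, 984, 1000, 1004, 1008, 1024, 1028, 1036, 1040, 1044, 1080, 1096, 1100, 1104, 1120, 1124, 1132, 1136, 1140]

/-- The elements commuting with the reference involution. -/
def mList : List ℕ :=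
  [0, 1, 2, 3, 4, 5, 6, 7, 48, 49, 50, 51, 52, 53, 54, 55, 96, 97, 98, 99,
    100, 101, 102, 103, 144, 145, 146, 147, 148, 149, 150, 151, 200, 201, 202, 203, 204, 205, 206, 207,
    248, 249, 250, 251, 252, 253, 254, 255, 296, 297, 298, 299, 300, 301, 302, 303, 344, 345, 346, 347,
    348, 349, 350, 351]

/-- The involutions of the extraspecial group. -/
def qInvList : List ℕ :=
  [48, 100, 104, 108, 148, 152, 156, 196, 200, 204, 244, 248, 252, 292, 296, 300, 340, 344, 348]

/-- Membership in the extraspecial group. -/
def inQ (c : ℕ) : Bool :=
  !cE c && !cF c && (sMul (cA c) (cA c) == 0 || sMul (cA c) (cA c) == 12) &&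
    (sMul (cB c) (cB c) == 0 || sMul (cB c) (cB c) == 12)

theorem sMul_lt : ∀ a < 24, ∀ b < 24, sMul a b < 24 := by decide +kernel

theorem sGam_lt : ∀ a < 24, sGam a < 24 := by decide +kernel

theorem sGam_mul : ∀ a < 24, ∀ b < 24, sGam (sMul a b) = sMul (sGam a) (sGam b) := by decide +kernel

theorem sInv_spec : ∀ a < 24, sInv a < 24 ∧ sMul (sInv a) a = 0 ∧ sMul a (sInv a) = 0 := by decide +kernel

theorem invList_complete : ∀ c < 1152, mC c c = 0 → c = 0 ∨ c ∈ invList := by decide +kernel

theorem threeList_complete : ∀ c < 1152, mC (mC c c) c = 0 → c = 0 ∨ c ∈ threeList := by decide +kernel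

theorem mList_iff : ∀ c < 1152, (mC c uC = mC uC c ↔ c ∈ mList) := by decide +kernel

theorem qInvList_iff : ∀ c ∈ invList, (inQ c = true ↔ c ∈ qInvList) := by decide +kernel

end CfsgLib.Spor.UFourType
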