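import Mathlib

/-!
# The arithmetic of the order
-/

set_option autoImplicit false
set_option synthInstance.maxSize 4096

namespace CfsgLib.Spor.UFourType

theorem one_family_split : ∀ k ∈ [2, 4, 6, 8, 12, 16, 18, 24, 32], ∀ q < 32, ∀ s < 100,
    (187 + 128 * (100 * q + s)) % (9 * (k * (100 * q + s) + 1)) = 0 → (k * (100 * q + s) + 1) % 3 ≠ 0 →
    100 * q + s = 1 := by decide +kernel

theorem one_family : ∀ k ∈ [2, 4, 6, 8, 12, 16, 18, 24, 32], ∀ m < 3200,
    (187 + 128 * m) % (9 * (k * m + 1)) = 0 → (k * m + 1) % 3 ≠ 0 → m = 1 := fun k hk m hm h h' => by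
  have e := one_family_split k hk (m / 100) (by omega) (m % 100) (Nat.mod_lt _ (by norm_num))
  rw [Nat.div_add_mod] at e
  exact e h h'

theorem small_odd : ∀ x : ℕ, x < 19 → 5 ≤ x → x % 3 ≠ 0 → x % 2 ≠ 0 → x ∈ [5, 7, 11, 13, 17] := by
  decide +kernel

theorem two_families_two : ∀ p ∈ [5, 7, 11, 13, 17], ∀ n < 9, (p - 1) % (2 * n) = 0 → ∀ m < 1160,
    (187 + 128 * (m + n)) % (9 * (p * (2 * m + 1))) = 0 → p ≤ 2 * m + 1 →
    Nat.gcd p (2 * m + 1) = 1 → (2 * m + 1) % 3 ≠ 0 → False := by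
  decide +kernel

theorem two_families : ∀ p ∈ [5, 7, 11, 13, 17], ∀ n < 9, (p - 1) % (2 * n) = 0 →
    ∀ k ∈ [4, 6, 8, 12, 16, 18, 24, 32], ∀ m < 24,
    (187 + 128 * (m + n)) % (9 * (p * (k * m + 1))) = 0 → p ≤ k * m + 1 →
    Nat.gcd p (k * m + 1) = 1 → (k * m + 1) % 3 ≠ 0 → False := by
  decide +kernel

theorem small_divisor {k : ℕ} (hk : k ∣ 1152) (h2 : 2 ∣ k) (hle : k ≤ 35) :
    k ∈ [2, 4, 6, 8, 12, 16, 18, 24, 32] := by
  have key : ∀ k < 36, k ∣ 1152 → 2 ∣ k → k ∈ [2, 4, 6, 8, 12, 16, 18, 24, 32] := by decide +kernel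
  exact key k (by omega) hk h2

theorem no_three {a : ℕ} (h : Nat.Coprime a 6) : a % 3 ≠ 0 ∧ a % 2 ≠ 0 :=
  ⟨fun e => by
    have := Nat.eq_one_of_dvd_coprimes h (Nat.dvd_of_mod_eq_zero e) (by norm_num)
    omega,
  fun e => by
    have := Nat.eq_one_of_dvd_coprimes h (Nat.dvd_of_mod_eq_zero e) (by norm_num)
    omega⟩

theorem prod_ge {r : ℕ} (a : Fin r → ℕ) (i : Fin r) (h : ∀ j, 5 ≤ a j) : a i * 5 ^ (r - 1) ≤ ∏ j, a j := by
  classical
  rw [← Finset.mul_prod_erase Finset.univ a (Finset.mem_univ i)]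
  refine Nat.mul_le_mul_left _ ?_
  have := Finset.pow_card_le_prod (Finset.univ.erase i) a 5 fun j _ => h j
  rwa [Finset.card_erase_of_mem (Finset.mem_univ i), Finset.card_univ, Fintype.card_fin] at this

/-- The sum of the parameters is one. -/
theorem arith {r : ℕ} (a k m : Fin r → ℕ) {n : ℕ}
    (h : ∀ i, a i = k i * m i + 1 ∧ 2 ∣ k i ∧ k i ∣ 1152 ∧ 0 < m i ∧ 5 ≤ a i ∧ Nat.Coprime (a i) 6 ∧ a i ∣ n)
    (hco : ∀ i j, i ≠ j → Nat.Coprime (a i) (a j)) (hn : n = 1683 + 1152 * ∑ i, m i) (h81 : 81 ∣ n) :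
    ∑ i, m i = 1 := by
  classical
  obtain ⟨N, hN⟩ := h81
  have hN9 : 9 * N = 187 + 128 * ∑ i, m i := by omega
  have hdN : ∀ i, a i ∣ N := fun i => by
    obtain ⟨-, -, -, -, -, h6, hd⟩ := h i
    rw [hN] at hd
    refine Nat.Coprime.dvd_of_dvd_mul_left ?_ hd
    rw [show (81 : ℕ) = 3 ^ 4 by norm_num]
    exact (h6.coprime_dvd_right (by norm_num)).pow_right 4
  have hprod : ∀ s : Finset (Fin r), ∏ i ∈ s, a i ∣ N := fun s => by
    induction s using Finset.induction_on with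
    | empty => simp
    | insert i s hi ih =>
      rw [Finset.prod_insert hi]
      exact (Nat.Coprime.prod_right fun j hj => hco i j fun e => hi (e ▸ hj)).mul_dvd_of_dvd_of_dvd (hdN i) ih
  have hN0 : 0 < N := by omega
  have hm : ∀ i, 2 * m i + 1 ≤ a i := fun i => by
    obtain ⟨h1, h2, h3, -⟩ := h i
    rw [h1]
    have := Nat.le_of_dvd (Nat.pos_of_dvd_of_pos h3 (by norm_num)) h2
    nlinarith
  rcases r with _ | r
  · simp at hN9; omega
  obtain ⟨i, -, hi⟩ := Finset.exists_max_image Finset.univ a Finset.univ_nonempty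
  have hP : a i * 5 ^ r ≤ N :=
    le_trans (by simpa using prod_ge a i fun j => (h j).2.2.2.2.1) (Nat.le_of_dvd hN0 (hprod Finset.univ))
  have hS : 2 * ∑ j, m j + (r + 1) ≤ (r + 1) * a i := by
    have h1 : ∑ j, (2 * m j + 1) ≤ ∑ _j : Fin (r + 1), a i :=
      Finset.sum_le_sum fun j _ => (hm j).trans (hi j (Finset.mem_univ j))
    rw [Finset.sum_add_distrib, ← Finset.mul_sum, Finset.sum_const, Finset.sum_const, Finset.card_univ,
      Fintype.card_fin, smul_eq_mul, smul_eq_mul, mul_one] at h1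
    exact h1
  have h5 := (h i).2.2.2.2.1
  match r, a, k, m, h, hco, hn, hN9, hdN, hprod, hm, i, hi, hP, hS, h5 with
  | 0, a, k, m, h, _, _, hN9, hdN, _, _, i, _, _, _, _ =>
    obtain rfl : i = 0 := Fin.fin_one_eq_zero i
    rw [Fin.sum_univ_one] at hN9 ⊢
    obtain ⟨h1, h2, h3, h4, -, h6, -⟩ := h 0
    obtain ⟨t, ht⟩ := hdN 0
    have ht0 : 0 < t := Nat.pos_of_ne_zero fun e => by rw [e, mul_zero] at ht; omega
    rw [h1] at ht
    rw [ht] at hN9
    have hkle : k 0 ≤ 35 := by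
      by_contra hk
      have h7 : 36 * m 0 ≤ k 0 * m 0 := Nat.mul_le_mul_right _ (by omega)
      have h8 : k 0 * m 0 + 1 ≤ (k 0 * m 0 + 1) * t := Nat.le_mul_of_pos_right _ ht0
      omega
    have hk := small_divisor h3 h2 hkle
    have hkey : (k 0 * m 0 + 1) * (9 * t * k 0) + 128 = k 0 * 187 + 128 * (k 0 * m 0 + 1) := by
      linear_combination (k 0) * hN9
    have hlt : m 0 < 3200 := by
      have h7 : 128 < 9 * t * k 0 := by
        by_contra hh
        have := Nat.mul_le_mul_left (k 0 * m 0 + 1) (Nat.le_of_not_lt hh)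
        have : 2 ≤ k 0 := Nat.le_of_dvd (Nat.pos_of_dvd_of_pos h3 (by norm_num)) h2
        nlinarith
      have h8 : (k 0 * m 0 + 1) * 129 ≤ (k 0 * m 0 + 1) * (9 * t * k 0) := Nat.mul_le_mul_left _ h7
      have h9 : 2 * m 0 ≤ k 0 * m 0 :=
        Nat.mul_le_mul_right _ (Nat.le_of_dvd (Nat.pos_of_dvd_of_pos h3 (by norm_num)) h2)
      omega
    exact one_family _ hk _ hlt (Nat.mod_eq_zero_of_dvd ⟨t, by linarith⟩) (h1 ▸ (no_three h6).1)
  | 1, a, k, m, h, hco, _, hN9, _, hprod, hm, i, hi, _, _, _ =>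
    exfalso
    obtain ⟨j, hij⟩ : ∃ j, j ≠ i := exists_ne i
    have hu : (Finset.univ : Finset (Fin 2)) = {i, j} := by
      refine (Finset.eq_univ_of_card _ ?_).symm
      rw [Finset.card_pair hij.symm, Fintype.card_fin]
    have hd := hprod Finset.univ
    rw [hu, Finset.prod_pair hij.symm] at hd
    rw [hu, Finset.sum_pair hij.symm] at hN9
    obtain ⟨t, ht⟩ := hd
    have ht0 : 0 < t := Nat.pos_of_ne_zero fun e => by rw [e, mul_zero] at ht; omega
    obtain ⟨h1, h2, h3, h4, h5, h6, -⟩ := h i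
    obtain ⟨g1, g2, g3, g4, g5, g6, -⟩ := h j
    have hji := hi j (Finset.mem_univ j)
    have hmi := hm i
    have hmj := hm j
    have hAB : a i * a j ≤ N := ht ▸ Nat.le_mul_of_pos_right _ ht0
    have hj18 : a j ≤ 18 := by
      by_contra hh
      have : a i * 19 ≤ a i * a j := Nat.mul_le_mul_left _ (by omega)
      omega
    have hj : a j ∈ [5, 7, 11, 13, 17] := by
      exact small_odd _ (by omega) g5 (no_three g6).1 (no_three g6).2
    have hmj9 : m j < 9 := by omega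
    have hjd : (a j - 1) % (2 * m j) = 0 := by
      refine Nat.mod_eq_zero_of_dvd ?_
      rw [g1, Nat.add_sub_cancel]
      exact mul_dvd_mul_right g2 _
    have hgcd : Nat.gcd (a j) (k i * m i + 1) = 1 := h1 ▸ hco j i hij
    have hmod : (187 + 128 * (m i + m j)) % (9 * (a j * (k i * m i + 1))) = 0 :=
      Nat.mod_eq_zero_of_dvd ⟨t, by rw [← hN9, ht, h1]; ring⟩
    rcases (by omega : k i ≤ 2 ∨ 3 ≤ k i) with hk | hk
    · have hk2 : k i = 2 := le_antisymm hk (Nat.le_of_dvd (Nat.pos_of_dvd_of_pos h3 (by norm_num)) h2)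
      rw [hk2] at h1 hgcd hmod
      have hlt : m i < 1160 := by
        rw [ht, h1] at hN9
        have hkey : (2 * m i + 1) * (18 * a j * t) + 128 = 374 + 128 * (2 * m i + 1) + 256 * m j := by
          linear_combination 2 * hN9
        have h7 : 128 < 18 * a j * t := by
          by_contra hh
          have := Nat.mul_le_mul_left (2 * m i + 1) (Nat.le_of_not_lt hh)
          omega
        have h8 : (2 * m i + 1) * 129 ≤ (2 * m i + 1) * (18 * a j * t) := Nat.mul_le_mul_left _ h7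
        omega
      exact two_families_two _ hj _ hmj9 hjd _ hlt hmod (h1 ▸ hji) hgcd (h1 ▸ (no_three h6).1)
    · have hk4 : 4 ≤ k i := by omega
      have h7 : a i * 5 ≤ a i * a j := Nat.mul_le_mul_left _ g5
      have h8 : 4 * m i ≤ k i * m i := Nat.mul_le_mul_right _ hk4
      have hlt : m i < 24 := by omega
      have hkle : k i ≤ 35 := by
        by_contra hh
        have : 36 * m i ≤ k i * m i := Nat.mul_le_mul_right _ (by omega)
        omega
      have hk' : k i ∈ [4, 6, 8, 12, 16, 18, 24, 32] := by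
        have := small_divisor h3 h2 hkle
        rcases List.mem_cons.1 this with e | e
        · omega
        · exact e
      exact two_families _ hj _ hmj9 hjd _ hk' _ hlt hmod (h1 ▸ hji) hgcd (h1 ▸ (no_three h6).1)
  | 2, a, k, m, h, hco, _, hN9, _, _, _, i, hi, hP, hS, h5 =>
    exfalso
    have ha : a i ≤ 5 := by omega
    obtain ⟨j, hij⟩ : ∃ j, j ≠ i := exists_ne i
    have hji := hi j (Finset.mem_univ j)
    have := (h j).2.2.2.2.1
    have e : a j = a i := by omega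
    have := hco j i hij
    rw [e, Nat.coprime_self] at this
    omega
  | r + 3, a, k, m, h, _, _, hN9, _, _, _, i, _, hP, hS, h5 =>
    exfalso
    have key : ∀ s : ℕ, 128 * (s + 4) + 100 ≤ 18 * 5 ^ (s + 3) := fun s => by
      induction s with
      | zero => norm_num
      | succ s ih => rw [pow_succ]; omega
    have h7 := Nat.mul_le_mul_left (a i) (key r)
    nlinarith

end CfsgLib.Spor.UFourType
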