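import Cfsg.Agent.Lib.Spor.UFourType.Families

/-!
# The families of the remaining inverted elements
-/

set_option autoImplicit false
set_option linter.unusedSectionVars false
set_option synthInstance.maxSize 4096

namespace CfsgLib.Spor.UFourType

open Subgroup

noncomputable section

/-- The elements commuting with two elements are carried to one another. -/
def SameFamily {G : Type*} [Group G] (z x y : G) : Prop :=
  ∃ c : G, c * z = z * c ∧ ∀ g : G, (g * x = x * g ↔ c * g * c⁻¹ * y = y * (c * g * c⁻¹))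

namespace Model

variable {G : Type*} [Group G] [Finite G] {z : G} {Q : Subgroup G} {ψ : ℕ → G} (M : Model z Q ψ)
include M

theorem same_setoid : Equivalence fun x y : {x : G // IsFree z ψ x} => SameFamily z (x : G) y where
  refl x := ⟨1, by rw [one_mul, mul_one], fun g => by rw [one_mul, inv_one, mul_one]⟩
  symm := by
    rintro x y ⟨c, hc, h⟩
    refine ⟨c⁻¹, ((show Commute c z from hc).inv_left).eq, fun g => ?_⟩
    rw [h, show c * (c⁻¹ * g * c⁻¹⁻¹) * c⁻¹ = g by group]
  trans := by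
    rintro x y w ⟨c, hc, h⟩ ⟨d, hd, h'⟩
    refine ⟨d * c, ((show Commute d z from hd).mul_left hc).eq, fun g => ?_⟩
    rw [h, h', show d * (c * g * c⁻¹) * d⁻¹ = d * c * g * (d * c)⁻¹ by group]

/-- Conjugating a free element. -/
theorem free_conj {x c : G} (hx : IsFree z ψ x) (hc : c * z = z * c) : IsFree z ψ (c * x * c⁻¹) := by
  refine M.free_of_pow (M.isInv_conj hc hx.1) fun e => M.free_pow_ne hx ?_
  rw [conj_pow] at e
  exact conj_eq_one_iff.1 e

theorem class_iff {x y : G} (hx : IsFree z ψ x) :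
    IsFree z ψ y ∧ SameFamily z x y ↔ ∃ c u : G, c * z = z * c ∧ u * x = x * u ∧ u ≠ 1 ∧ y = c * u * c⁻¹ := by
  constructor
  · rintro ⟨hy, c, hc, h⟩
    refine ⟨c, c⁻¹ * y * c, hc, (h _).2 ?_, fun e => hy.1.1 ?_, by group⟩
    · rw [show c * (c⁻¹ * y * c) * c⁻¹ = y by group]
    · calc y = c * (c⁻¹ * y * c) * c⁻¹ := by group
        _ = 1 := by rw [e]; group
  · rintro ⟨c, u, hc, hu, hu1, rfl⟩
    obtain ⟨hfu, he⟩ := M.free_cent_eq hx hu hu1
    refine ⟨M.free_conj hfu hc, c, hc, fun g => ?_⟩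
    rw [← mem_centralizer_singleton_iff (g := x), ← he, mem_centralizer_singleton_iff,
      show c * g * c⁻¹ * (c * u * c⁻¹) = c * (g * u) * c⁻¹ by group,
      show c * u * c⁻¹ * (c * g * c⁻¹) = c * (u * g) * c⁻¹ by group]
    exact ⟨fun h => by rw [h], fun h => mul_left_cancel (mul_right_cancel h)⟩

/-- The numbers of one family. -/
theorem family_count {x : G} (hx : IsFree z ψ x) :
    ∃ k m : ℕ, Nat.card (centralizer ({x} : Set G)) = k * m + 1 ∧ 2 ∣ k ∧ k ∣ 1152 ∧ 0 < m ∧
      Nat.card {y : G // IsFree z ψ y ∧ SameFamily z x y} = 1152 * m := by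
  classical
  set A := centralizer ({x} : Set G) with hA
  set N := centralizer ({z} : Set G) ⊓ normalizer (A : Set G) with hN
  have hzA : z ∈ normalizer (A : Set G) := by
    have hz : ∀ y ∈ A, z * y * z⁻¹ ∈ A := fun y hy => by
      rw [M.z_inv, (M.free_cent hx (mem_centralizer_singleton_iff.1 hy)).2.2]
      exact inv_mem hy
    refine mem_normalizer_iff.2 fun y => ⟨hz y, fun hy => ?_⟩
    have := hz _ hy
    rwa [M.z_inv, show z * (z * y * z) * z = z * z * y * (z * z) by group, M.zz, one_mul, mul_one] at this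
  let A' := {u : G // u * x = x * u ∧ u ≠ 1}
  have hmem : ∀ (d : N) (u : A'), (d : G) * u * (d : G)⁻¹ * x = x * ((d : G) * u * (d : G)⁻¹) ∧
      (d : G) * u * (d : G)⁻¹ ≠ 1 := fun d u =>
    ⟨mem_centralizer_singleton_iff.1 ((mem_normalizer_iff.1 d.2.2 _).1 (mem_centralizer_singleton_iff.2 u.2.1)),
      fun e => u.2.2 (conj_eq_one_iff.1 e)⟩
  letI : MulAction N A' :=
    { smul := fun d u => ⟨(d : G) * u * (d : G)⁻¹, hmem d u⟩
      one_smul := fun u => Subtype.ext (by show (1 : G) * u * (1 : G)⁻¹ = u; group)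
      mul_smul := fun d e u => Subtype.ext (by
        show (d : G) * e * u * ((d : G) * e)⁻¹ = d * ((e : G) * u * (e : G)⁻¹) * (d : G)⁻¹
        group) }
  have horb : ∀ u : A', Nat.card (MulAction.orbit N u) = Nat.card N := by
    intro u
    have hst : MulAction.stabilizer N u = ⊥ := by
      refine (Subgroup.eq_bot_iff_forall _).2 fun d hd => ?_
      have he : (d : G) * u * (d : G)⁻¹ = u := congrArg Subtype.val (MulAction.mem_stabilizer_iff.1 hd)
      obtain ⟨hfu, -⟩ := M.free_cent_eq hx u.2.1 u.2.2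
      exact Subtype.ext ((M.free_cent hfu (mul_inv_eq_iff_eq_mul.1 he)).2.1
        (mem_centralizer_singleton_iff.1 d.2.1).symm)
    rw [Nat.card_congr (MulAction.orbitEquivQuotientStabilizer N u), hst, ← Subgroup.index_eq_card,
      Subgroup.index_bot]
  have hdvd : Nat.card N ∣ Nat.card A' := by
    haveI : Fintype (MulAction.orbitRel.Quotient N A') := Fintype.ofFinite _
    rw [Nat.card_congr (MulAction.selfEquivSigmaOrbits N A'), Nat.card_sigma]
    exact Finset.dvd_sum fun q _ => by rw [horb]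
  obtain ⟨m, hm⟩ := hdvd
  haveI : Nonempty A' := ⟨⟨x, rfl, hx.1.1⟩⟩
  have ha' : 0 < Nat.card A' := Nat.card_pos
  have hk : Nat.card N ∣ 1152 := M.card ▸ Subgroup.card_dvd_of_le inf_le_left
  have h2 : 2 ∣ Nat.card N := by
    have : (⟨z, mem_centralizer_singleton_iff.2 rfl, hzA⟩ : N) ∈ (⊤ : Subgroup N) := mem_top _
    have h := orderOf_dvd_natCard (⟨z, mem_centralizer_singleton_iff.2 rfl, hzA⟩ : N)
    rwa [← Subgroup.orderOf_coe, show orderOf z = 2 from M.ord] at h
  have hA1 : Nat.card A = Nat.card A' + 1 := by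
    rw [← Finite.card_option]
    refine (Nat.card_eq_of_bijective (fun o : Option A' => o.elim (1 : A)
      fun u => ⟨u.1, mem_centralizer_singleton_iff.2 u.2.1⟩) ⟨?_, fun y => ?_⟩).symm
    · rintro (_ | u) (_ | v) e
      · rfl
      · exact absurd (congrArg Subtype.val e).symm v.2.2
      · exact absurd (congrArg Subtype.val e) u.2.2
      · exact congrArg some (Subtype.ext (congrArg Subtype.val e :))
    · by_cases h1 : y = 1
      · exact ⟨none, h1.symm⟩
      · exact ⟨some ⟨y.1, mem_centralizer_singleton_iff.1 y.2, fun e => h1 (Subtype.ext e)⟩, rfl⟩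
  refine ⟨Nat.card N, m, by rw [hA1, hm], h2, hk, ?_, ?_⟩
  · rcases Nat.eq_zero_or_pos m with e | e
    · rw [e, mul_zero] at hm; omega
    · exact e
  -- counting pairs
  let Y := {y : G // IsFree z ψ y ∧ SameFamily z x y}
  let C := centralizer ({z} : Set G)
  let Φ : C × A' → Y := fun p => ⟨(p.1 : G) * p.2 * (p.1 : G)⁻¹,
    (M.class_iff hx).2 ⟨p.1, p.2, mem_centralizer_singleton_iff.1 p.1.2, p.2.2.1, p.2.2.2, rfl⟩⟩
  have hfib : ∀ y : Y, Nat.card {p : C × A' // Φ p = y} = Nat.card N := by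
    intro y
    obtain ⟨c, u, hc, hu, hu1, hy⟩ := (M.class_iff hx).1 y.2
    have key : ∀ (v : A') (c' : C), (c' : G) * v * (c' : G)⁻¹ = y.1 → ((c' : G)⁻¹ * c) ∈ N := by
      intro v c' he
      refine ⟨(mul_mem (inv_mem c'.2) (mem_centralizer_singleton_iff.2 hc) :
        (c' : G)⁻¹ * c ∈ centralizer ({z} : Set G)), mem_normalizer_iff.2 fun g => ?_⟩
      set d := (c' : G)⁻¹ * c with hd
      have hdu : d * u * d⁻¹ = v := by
        rw [hd, show (c' : G)⁻¹ * c * u * ((c' : G)⁻¹ * c)⁻¹ = (c' : G)⁻¹ * (c * u * c⁻¹) * c' by group, ← hy, ← he]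
        group
      show g ∈ A ↔ d * g * d⁻¹ ∈ A
      have e1 : centralizer ({u} : Set G) = A := (M.free_cent_eq hx hu hu1).2
      have e2 : centralizer ({(v : G)} : Set G) = A := (M.free_cent_eq hx v.2.1 v.2.2).2
      nth_rw 1 [← e1]
      rw [← e2, ← hdu, mem_centralizer_singleton_iff]
      rw [mem_centralizer_singleton_iff, show d * g * d⁻¹ * (d * u * d⁻¹) = d * (g * u) * d⁻¹ by group,
        show d * u * d⁻¹ * (d * g * d⁻¹) = d * (u * g) * d⁻¹ by group]
      exact ⟨fun h => by rw [h], fun h => mul_left_cancel (mul_right_cancel h)⟩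
    have hd : ∀ d : N, c * (d : G)⁻¹ ∈ C := fun d =>
      mul_mem (mem_centralizer_singleton_iff.2 hc) (inv_mem d.2.1)
    refine Nat.card_congr
      { toFun := fun p => ⟨(p.1.1 : G)⁻¹ * c, key p.1.2 p.1.1 (congrArg Subtype.val p.2)⟩
        invFun := fun d => ⟨(⟨c * (d : G)⁻¹, hd d⟩, ⟨(d : G) * u * (d : G)⁻¹, hmem d ⟨u, hu, hu1⟩⟩),
          Subtype.ext (by
            show c * (d : G)⁻¹ * ((d : G) * u * (d : G)⁻¹) * (c * (d : G)⁻¹)⁻¹ = y.1
            rw [hy]; group)⟩
        left_inv := fun ⟨⟨c', v⟩, hp⟩ => by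
          have he : (c' : G) * v * (c' : G)⁻¹ = y.1 := congrArg Subtype.val hp
          refine Subtype.ext (Prod.ext (Subtype.ext ?_) (Subtype.ext ?_))
          · show c * ((c' : G)⁻¹ * c)⁻¹ = c'
            group
          · show (c' : G)⁻¹ * c * u * ((c' : G)⁻¹ * c)⁻¹ = v
            rw [show (c' : G)⁻¹ * c * u * ((c' : G)⁻¹ * c)⁻¹ = (c' : G)⁻¹ * (c * u * c⁻¹) * c' by group, ← hy, ← he]
            group
        right_inv := fun d => Subtype.ext (by
          show (c * (d : G)⁻¹)⁻¹ * c = d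
          group) }
  haveI := Fintype.ofFinite Y
  have h := Nat.card_congr (Equiv.sigmaFiberEquiv Φ)
  rw [Nat.card_sigma, Finset.sum_congr rfl fun y _ => hfib y, Finset.sum_const, Finset.card_univ, smul_eq_mul,
    Nat.card_prod, show Nat.card C = 1152 from M.card, hm, ← Nat.card_eq_fintype_card] at h
  have hN0 : 0 < Nat.card N := Nat.card_pos
  refine Nat.eq_of_mul_eq_mul_right hN0 ?_
  rw [h]; ring

/-- Different families have coprime orders. -/
theorem family_coprime {x y : G} (hx : IsFree z ψ x) (hy : IsFree z ψ y)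
    (h : ¬ Nat.Coprime (Nat.card (centralizer ({x} : Set G))) (Nat.card (centralizer ({y} : Set G)))) :
    SameFamily z x y := by
  obtain ⟨p, hp, hpx, hpy⟩ := Nat.Prime.not_coprime_iff_dvd.1 h
  haveI : Fact p.Prime := ⟨hp⟩
  have key : ∀ {w : G}, IsFree z ψ w → p ∣ Nat.card (centralizer ({w} : Set G)) →
      ∃ (T : Sylow p G) (v : G), v ∈ (T : Subgroup G) ∧ v ≠ 1 ∧ v * w = w * v ∧
        (T : Subgroup G) ≤ centralizer ({w} : Set G) := by
    intro w hw hpw
    obtain ⟨v, hv⟩ := exists_prime_orderOf_dvd_card' p hpw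
    have hvo : orderOf (v : G) = p := by rw [Subgroup.orderOf_coe]; exact hv
    have hv1 : (v : G) ≠ 1 := fun e => by rw [e, orderOf_one] at hvo; exact hp.one_lt.ne hvo
    obtain ⟨T, hT⟩ := (IsPGroup.of_card (p := p) (n := 1) (G := zpowers (v : G))
      (by rw [Nat.card_zpowers, hvo, pow_one])).exists_le_sylow
    have hvT : (v : G) ∈ (T : Subgroup G) := hT (mem_zpowers _)
    haveI : Nontrivial (T : Subgroup G) := ⟨⟨⟨_, hvT⟩, 1, fun e => hv1 (congrArg Subtype.val e)⟩⟩
    haveI := T.2.center_nontrivial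
    obtain ⟨cc, hcc⟩ := exists_ne (1 : center (T : Subgroup G))
    set c : G := cc.1.1 with hcd
    have hc1 : c ≠ 1 := fun e => hcc (Subtype.ext (Subtype.ext e))
    have hcT : ∀ t ∈ (T : Subgroup G), t * c = c * t := fun t ht =>
      congrArg Subtype.val (mem_center_iff.1 cc.2 ⟨t, ht⟩)
    have hcw : c ∈ centralizer ({w} : Set G) := by
      rw [← (M.free_cent_eq hw (mem_centralizer_singleton_iff.1 v.2) hv1).2]
      exact mem_centralizer_singleton_iff.2 (hcT _ hvT).symm
    refine ⟨T, v, hvT, hv1, mem_centralizer_singleton_iff.1 v.2, fun t ht => ?_⟩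
    rw [← (M.free_cent_eq hw (mem_centralizer_singleton_iff.1 hcw) hc1).2]
    exact mem_centralizer_singleton_iff.2 (hcT t ht)
  obtain ⟨T, v, hvT, hv1, hvx, -⟩ := key hx hpx
  obtain ⟨S, -, -, -, -, hSy⟩ := key hy hpy
  obtain ⟨g, hg⟩ := MulAction.exists_smul_eq G T S
  set w := g * v * g⁻¹ with hw
  have hwy : w * y = y * w := mem_centralizer_singleton_iff.1 (hSy (by
    rw [← hg, Sylow.coe_subgroup_smul]
    exact ⟨v, hvT, rfl⟩))
  have hw1 : w ≠ 1 := fun e => hv1 (conj_eq_one_iff.1 e)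
  obtain ⟨hfv, hev⟩ := M.free_cent_eq hx hvx hv1
  obtain ⟨hfw, hew⟩ := M.free_cent_eq hy hwy hw1
  set t := g * z * g⁻¹ with ht
  have htw : t * w * t = w⁻¹ := by
    rw [ht, hw, show g * z * g⁻¹ * (g * v * g⁻¹) * (g * z * g⁻¹) = g * (z * v * z) * g⁻¹ by group, hfv.1.2.2]
    group
  have ht2 : t * t = 1 := by
    rw [ht, show g * z * g⁻¹ * (g * z * g⁻¹) = g * (z * z) * g⁻¹ by group, M.zz]; group
  have hbw : (z * t) * w = w * (z * t) := by
    calc z * t * w = z * (t * w * t) * t := by simp only [mul_assoc]; rw [ht2, mul_one]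
      _ = z * w⁻¹ * (z * z) * t := by rw [htw, M.zz, mul_one]
      _ = z * w⁻¹ * z * (z * t) := by group
      _ = w * (z * t) := by
          rw [show z * w⁻¹ * z = w by
            rw [← hfw.1.2.2, show z * (z * w * z) * z = z * z * w * (z * z) by group, M.zz, one_mul, mul_one]]
  obtain ⟨j, hj⟩ := (M.free_cent hfw hbw).1
  set d := (z * t) ^ (j + 1) with hd
  have hdd : d * d = z * t := by
    rw [hd, ← pow_add, show j + 1 + (j + 1) = (2 * j + 1) + 1 by ring, ← hj, pow_succ, pow_orderOf_eq_one, one_mul]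
  have hdw : d * w = w * d := ((show Commute (z * t) w from hbw).pow_left (j + 1)).eq
  obtain ⟨-, -, hdz⟩ := M.free_cent hfw hdw
  have htd : t = d⁻¹ * z * d := by
    calc t = z * (d * d) := by rw [hdd, ← mul_assoc, M.zz, one_mul]
      _ = z * d * (z * z) * d := by rw [M.zz]; group
      _ = z * d * z * z * d := by group
      _ = _ := by rw [hdz]
  refine ⟨d * g, ?_, fun u => ?_⟩
  · calc d * g * z = d * t * g := by rw [ht]; group
      _ = _ := by rw [htd]; group
  · have hdy : d ∈ centralizer ({y} : Set G) := hew ▸ mem_centralizer_singleton_iff.2 hdw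
    rw [← mem_centralizer_singleton_iff (g := x), ← hev, mem_centralizer_singleton_iff,
      ← mem_centralizer_singleton_iff (g := y), show d * g * u * (d * g)⁻¹ = d * (g * u * g⁻¹) * d⁻¹ by group,
      mul_mem_cancel_right (inv_mem hdy), mul_mem_cancel_left hdy, ← hew, mem_centralizer_singleton_iff, hw,
      show g * u * g⁻¹ * (g * v * g⁻¹) = g * (u * v) * g⁻¹ by group,
      show g * v * g⁻¹ * (g * u * g⁻¹) = g * (v * u) * g⁻¹ by group]
    exact ⟨fun h => by rw [h], fun h => mul_left_cancel (mul_right_cancel h)⟩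

/-- The families. -/
theorem families : ∃ (r : ℕ) (a k m : Fin r → ℕ),
    (∀ i, a i = k i * m i + 1 ∧ 2 ∣ k i ∧ k i ∣ 1152 ∧ 0 < m i ∧ 5 ≤ a i ∧
      Nat.Coprime (a i) 6 ∧ a i ∣ Nat.card {t : G // t * t = 1 ∧ t ≠ 1}) ∧
    (∀ i j, i ≠ j → Nat.Coprime (a i) (a j)) ∧ Nat.card {x : G // IsFree z ψ x} = 1152 * ∑ i, m i := by
  classical
  let B := {x : G // IsFree z ψ x}
  let s : Setoid B := ⟨_, M.same_setoid⟩
  let e := (Finite.equivFin (Quotient s)).symm
  let rep : Fin (Nat.card (Quotient s)) → B := fun i => (e i).out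
  choose k m h using fun i => M.family_count (rep i).2
  refine ⟨Nat.card (Quotient s), fun i => Nat.card (centralizer ({(rep i : G)} : Set G)), k, m,
    fun i => ?_, fun i j hij => ?_, ?_⟩
  · obtain ⟨h1, h2, h3, h4, -⟩ := h i
    have hodd : ¬ 2 ∣ Nat.card (centralizer ({(rep i : G)} : Set G)) := fun hh =>
      (rep i).2.2 (M.even_three (rep i).2.1 hh)
    have hthree := M.free_prime_three (rep i).2
    have h6 : Nat.Coprime (Nat.card (centralizer ({(rep i : G)} : Set G))) 6 :=
      Nat.Coprime.mul_right (m := 3) (n := 2) ((Nat.prime_three.coprime_iff_not_dvd.2 hthree).symm)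
        ((Nat.prime_two.coprime_iff_not_dvd.2 hodd).symm)
    refine ⟨h1, h2, h3, h4, ?_, h6, ?_⟩
    · have h5 : 2 ≤ k i * m i := le_trans (Nat.le_of_dvd (Nat.pos_of_dvd_of_pos h3 (by norm_num)) h2)
        (Nat.le_mul_of_pos_right _ h4)
      show 5 ≤ Nat.card (centralizer ({(rep i : G)} : Set G))
      omega
    · have hd := Subgroup.card_subgroup_dvd_card (centralizer ({(rep i : G)} : Set G))
      rw [M.card_group] at hd
      refine Nat.Coprime.dvd_of_dvd_mul_left ?_ hd
      rw [show (1152 : ℕ) = 2 ^ 7 * 3 ^ 2 by norm_num]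
      exact Nat.Coprime.mul_right ((Nat.prime_two.coprime_iff_not_dvd.2 hodd).symm.pow_right 7)
        ((Nat.prime_three.coprime_iff_not_dvd.2 hthree).symm.pow_right 2)
  · by_contra hh
    refine hij (e.injective ?_)
    rw [← Quotient.out_eq (e i), ← Quotient.out_eq (e j)]
    exact Quotient.sound (M.family_coprime (rep i).2 (rep j).2 hh)
  · rw [Nat.card_congr (Equiv.sigmaFiberEquiv (fun x : B => (e.symm ⟦x⟧))).symm, Nat.card_sigma, Finset.mul_sum]
    refine Finset.sum_congr rfl fun i _ => ?_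
    rw [← (h i).2.2.2.2]
    refine Nat.card_congr ((Equiv.subtypeEquivRight fun x : B => ?_).trans
      (Equiv.subtypeSubtypeEquivSubtypeInter (IsFree z ψ) (SameFamily z (rep i : G))))
    rw [Equiv.symm_apply_eq]
    show ⟦x⟧ = e i ↔ SameFamily z (rep i : G) (x : G)
    constructor
    · intro hx
      exact M.same_setoid.symm (Quotient.exact (hx.trans (Quotient.out_eq (e i)).symm))
    · intro hx
      rw [← Quotient.out_eq (e i)]
      exact Quotient.sound (M.same_setoid.symm hx)

end Model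

end

end CfsgLib.Spor.UFourType
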