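import Cfsg.Agent.Lib.Spor.UFourType.Model
import Cfsg.Agent.Lib.Spor.UFourType.Orbits
import Cfsg.Agent.Lib.Spor.UFourType.Arith

/-!
# The order and the involutions of a group of `U₄(3)` type
-/

set_option autoImplicit false
set_option linter.unusedSectionVars false
set_option synthInstance.maxSize 4096

namespace CfsgLib.Spor.UFourType

open Subgroup

noncomputable section

theorem sl_gen : ∀ s : Sl, ∃ b c d : Sl, b ^ 3 = 1 ∧ c ^ 3 = 1 ∧ d ^ 3 = 1 ∧ s = b * c * d := fun s => by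
  obtain ⟨n, rfl⟩ := sl_surjective s
  obtain ⟨b, hb, c, hc, d, hd, h1, h2, h3, h4⟩ := three_products n n.isLt
  have cube : ∀ x < 24, sMul (sMul x x) x = 0 → sl x ^ 3 = 1 := fun x hx h => by
    rw [pow_succ, pow_two, ← sl_mul x hx x hx, ← sl_mul _ (sMul_lt x hx x hx) x hx, h, sl_zero]
  exact ⟨sl b, sl c, sl d, cube b hb h1, cube c hc h2, cube d hd h3, by
    rw [← sl_mul b hb c hc, ← sl_mul _ (sMul_lt b hb c hc) d hd, h4]⟩

theorem sl_twelfth : ∀ s : Sl, s ^ 12 = 1 := fun s => by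
  obtain ⟨n, rfl⟩ := sl_surjective s
  have key : ∀ x < 24, sMul (sMul (sMul (sMul x x) (sMul x x)) (sMul (sMul x x) (sMul x x)))
      (sMul (sMul x x) (sMul x x)) = 0 := by decide +kernel
  have h := key n n.isLt
  have l2 := sMul_lt _ n.isLt _ n.isLt
  have l4 := sMul_lt _ l2 _ l2
  rw [show (12 : ℕ) = 4 + 4 + 4 by rfl, pow_add, pow_add, show (4 : ℕ) = 2 + 2 by rfl, pow_add, pow_two,
    ← sl_mul _ n.isLt _ n.isLt, ← sl_mul _ l2 _ l2, ← sl_mul _ l4 _ l4, ← sl_mul _ (sMul_lt _ l4 _ l4) _ l4, h,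
    sl_zero]

theorem sl_fourth : ∀ s t : Sl, (s ^ 4 ≠ -1) ∧ (s ^ 4 = 1 → t ^ 4 = 1 → (s * t) ^ 4 = 1) := fun s t => by
  obtain ⟨a, rfl⟩ := sl_surjective s
  obtain ⟨b, rfl⟩ := sl_surjective t
  have la := sMul_lt _ a.isLt _ a.isLt
  have lb := sMul_lt _ b.isLt _ b.isLt
  have lab := sMul_lt _ a.isLt _ b.isLt
  have lab2 := sMul_lt _ lab _ lab
  have key : ∀ x < 24, ∀ y < 24, sMul (sMul x x) (sMul x x) ≠ 12 ∧ (sMul (sMul x x) (sMul x x) = 0 →
      sMul (sMul y y) (sMul y y) = 0 →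
      sMul (sMul (sMul x y) (sMul x y)) (sMul (sMul x y) (sMul x y)) = 0) := by decide +kernel
  obtain ⟨k1, k2⟩ := key a a.isLt b b.isLt
  simp only [show (4 : ℕ) = 2 + 2 by rfl, pow_add, pow_two, ← sl_mul _ a.isLt _ b.isLt,
    ← sl_mul _ a.isLt _ a.isLt, ← sl_mul _ b.isLt _ b.isLt, ← sl_mul _ la _ la, ← sl_mul _ lb _ lb,
    ← sl_mul _ lab _ lab, ← sl_mul _ lab2 _ lab2]
  refine ⟨fun e => k1 (sl_injective _ (sMul_lt _ la _ la) 12 (by norm_num) (e.trans sl_twelve.symm)),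
    fun h h' => ?_⟩
  rw [k2 (sl_injective _ (sMul_lt _ la _ la) 0 (by norm_num) (h.trans sl_zero.symm))
    (sl_injective _ (sMul_lt _ lb _ lb) 0 (by norm_num) (h'.trans sl_zero.symm)), sl_zero]

variable {G : Type*} [Group G] [Finite G] {z : G}

/-- The groups commute. -/
theorem sides_commute (H₁ H₂ : Subgroup G) (e₁ : H₁ ≃* Sl) (hn₁ : ∀ b ∈ H₂, ∀ a ∈ H₁, b * a * b⁻¹ ∈ H₁)
    (hn₂ : ∀ a ∈ H₁, ∀ b ∈ H₂, a * b * a⁻¹ ∈ H₂) (hz2 : z * z = 1)
    (hzc : ∀ a ∈ H₁, a * z = z * a) (hmeet : H₁ ⊓ H₂ = zpowers z) :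
    ∀ a ∈ H₁, ∀ b ∈ H₂, a * b = b * a := by
  intro a ha b hb
  have comm3 : ∀ x : H₁, x ^ 3 = 1 → Commute (x : G) b := fun x hx => by
    set c := (x : G) * b * (x : G)⁻¹ * b⁻¹ with hc
    have hm : c ∈ zpowers z := by
      rw [← hmeet]
      refine Subgroup.mem_inf.2 ⟨?_, mul_mem (hn₂ _ x.2 b hb) (inv_mem hb)⟩
      rw [hc, show (x : G) * b * (x : G)⁻¹ * b⁻¹ = x * (b * (x : G)⁻¹ * b⁻¹) by group]
      exact mul_mem x.2 (hn₁ b hb _ (inv_mem x.2))
    have hcc : Commute (x : G) c := by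
      obtain ⟨i, hi⟩ := mem_zpowers_iff.1 hm
      rw [← hi]
      exact (show Commute (x : G) z from hzc _ x.2).zpow_right i
    have hc2 : c * c = 1 := by
      obtain ⟨i, hi⟩ := mem_zpowers_iff.1 hm
      rw [← hi, ← zpow_add, ← two_mul, zpow_mul, zpow_ofNat, pow_two, hz2, one_zpow]
    have hxb : b * (x : G)⁻¹ * b⁻¹ = (x : G)⁻¹ * c := by rw [hc]; group
    have h3 : ((x : G) ^ 3) = 1 := congrArg Subtype.val hx
    have hpow : ((x : G)⁻¹ * c) ^ 3 = 1 := by rw [← hxb, conj_pow, inv_pow, h3]; group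
    rw [(hcc.inv_left).mul_pow, inv_pow, h3, inv_one, one_mul, pow_succ, pow_two, hc2, one_mul] at hpow
    show (x : G) * b = b * x
    rw [hc, mul_inv_eq_one, mul_inv_eq_iff_eq_mul] at hpow
    exact hpow
  obtain ⟨p, q, r, hp, hq, hr, hs⟩ := sl_gen (e₁ ⟨a, ha⟩)
  have h : (⟨a, ha⟩ : H₁) = e₁.symm p * e₁.symm q * e₁.symm r := by
    rw [← map_mul, ← map_mul, ← hs, MulEquiv.symm_apply_apply]
  have ha' : a = (e₁.symm p : G) * (e₁.symm q : G) * (e₁.symm r : G) := congrArg Subtype.val h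
  rw [ha']
  refine (((comm3 _ ?_).mul_left (comm3 _ ?_)).mul_left (comm3 _ ?_)).eq <;>
    rw [← map_pow] <;> simp [hp, hq, hr]

section Core

variable (H₁ H₂ : Subgroup G) (e₁ : H₁ ≃* Sl) (e₂ : H₂ ≃* Sl)
include e₁ e₂

/-- The largest normal 2-subgroup of the product. -/
theorem core_iff (hz2 : z * z = 1) (hz1 : z ≠ 1) (hcomm : ∀ a ∈ H₁, ∀ b ∈ H₂, a * b = b * a)
    (hmeet : H₁ ⊓ H₂ = zpowers z) (k : (H₁ ⊔ H₂ : Subgroup G)) :
    k ∈ Cfsg.pCore 2 (H₁ ⊔ H₂ : Subgroup G) ↔ (k : G) ^ 4 = 1 := by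
  haveI : Fact (Nat.Prime 2) := ⟨Nat.prime_two⟩
  let P : Subgroup G :=
    { carrier := {g | ∃ a ∈ H₁, ∃ b ∈ H₂, g = a * b}
      one_mem' := ⟨1, one_mem _, 1, one_mem _, (one_mul 1).symm⟩
      mul_mem' := by
        rintro _ _ ⟨a, ha, b, hb, rfl⟩ ⟨c, hc, d, hd, rfl⟩
        exact ⟨a * c, mul_mem ha hc, b * d, mul_mem hb hd, by
          rw [mul_assoc a b, ← mul_assoc b c, ← hcomm c hc b hb]; group⟩
      inv_mem' := by
        rintro _ ⟨a, ha, b, hb, rfl⟩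
        exact ⟨a⁻¹, inv_mem ha, b⁻¹, inv_mem hb, by
          rw [mul_inv_rev]; exact (hcomm _ (inv_mem ha) _ (inv_mem hb)).symm⟩ }
  have hdec : ∀ g ∈ H₁ ⊔ H₂, ∃ a ∈ H₁, ∃ b ∈ H₂, g = a * b := fun g hg =>
    (sup_le (fun a ha => ⟨a, ha, 1, one_mem _, (mul_one a).symm⟩)
      (fun b hb => ⟨1, one_mem _, b, hb, (one_mul b).symm⟩) : H₁ ⊔ H₂ ≤ P) hg
  have unique_invol : ∀ {H : Subgroup G} (e : H ≃* Sl), z ∈ H → ∀ a : H, (a : G) = z → e a = -1 := by
    intro H e _ a ha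
    rcases sl_unique_invol (e a) (by
      rw [← map_mul, show a * a = 1 from Subtype.ext (by rw [coe_mul, ha, hz2]; rfl), map_one]) with h | h
    · exact absurd (by rw [← ha, (map_eq_one_iff e e.injective).1 h]; rfl) hz1
    · exact h
  have fourth : ∀ {H : Subgroup G} (e : H ≃* Sl), ∀ a ∈ H, a ^ 4 ∈ zpowers z → z ∈ H → a ^ 4 = 1 := by
    intro H e a ha h hzH
    rcases (Subgroup.mem_zpowers_iff).1 h with ⟨i, hi⟩
    rcases Int.even_or_odd i with ⟨j, rfl⟩ | ⟨j, rfl⟩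
    · rw [← hi, ← two_mul, zpow_mul, zpow_ofNat, pow_two, hz2, one_zpow]
    · exfalso
      rw [zpow_add, zpow_mul, zpow_ofNat, pow_two, hz2, one_zpow, one_mul, zpow_one] at hi
      have h4 := unique_invol e hzH ((⟨a, ha⟩ : H) ^ 4) hi.symm
      rw [map_pow] at h4
      exact (sl_fourth _ 1).1 h4
  have hz₁ : z ∈ H₁ := (inf_le_left : H₁ ⊓ H₂ ≤ H₁) (hmeet ▸ mem_zpowers z)
  have hz₂ : z ∈ H₂ := (inf_le_right : H₁ ⊓ H₂ ≤ H₂) (hmeet ▸ mem_zpowers z)
  have split : ∀ a ∈ H₁, ∀ b ∈ H₂, (a * b) ^ 4 = 1 → a ^ 4 = 1 ∧ b ^ 4 = 1 := by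
    intro a ha b hb h
    rw [(show Commute a b from hcomm a ha b hb).mul_pow] at h
    have ea : a ^ 4 = (b ^ 4)⁻¹ := eq_inv_of_mul_eq_one_left h
    have hm : a ^ 4 ∈ zpowers z := by
      rw [← hmeet]
      exact Subgroup.mem_inf.2 ⟨pow_mem ha 4, ea ▸ inv_mem (pow_mem hb 4)⟩
    have ha4 := fourth e₁ a ha hm hz₁
    exact ⟨ha4, by rwa [ha4, one_mul] at h⟩
  have cl : ∀ {H : Subgroup G} (e : H ≃* Sl), ∀ a ∈ H, ∀ b ∈ H, a ^ 4 = 1 → b ^ 4 = 1 → (a * b) ^ 4 = 1 := by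
    intro H e a ha b hb h h'
    have := (sl_fourth (e ⟨a, ha⟩) (e ⟨b, hb⟩)).2 (by rw [← map_pow, map_eq_one_iff e e.injective]; exact Subtype.ext h)
      (by rw [← map_pow, map_eq_one_iff e e.injective]; exact Subtype.ext h')
    rw [← map_mul, ← map_pow, map_eq_one_iff e e.injective] at this
    exact congrArg Subtype.val this
  let N : Subgroup (H₁ ⊔ H₂ : Subgroup G) :=
    { carrier := {k | (k : G) ^ 4 = 1}
      one_mem' := by simp
      mul_mem' := by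
        intro k l hk hl
        obtain ⟨a, ha, b, hb, hkd⟩ := hdec k k.2
        obtain ⟨c, hc, d, hd, hld⟩ := hdec l l.2
        simp only [Set.mem_ofPred_eq, coe_mul] at hk hl ⊢
        rw [hkd] at hk ⊢
        rw [hld] at hl ⊢
        obtain ⟨h1, h2⟩ := split a ha b hb hk
        obtain ⟨h3, h4⟩ := split c hc d hd hl
        rw [show a * b * (c * d) = a * c * (b * d) by rw [mul_assoc a b, ← mul_assoc b c, ← hcomm c hc b hb]; group,
          (show Commute (a * c) (b * d) from hcomm _ (mul_mem ha hc) _ (mul_mem hb hd)).mul_pow,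
          cl e₁ a ha c hc h1 h3, cl e₂ b hb d hd h2 h4, one_mul]
      inv_mem' := by
        intro k hk
        simp only [Set.mem_ofPred_eq, InvMemClass.coe_inv, inv_pow] at hk ⊢
        rw [hk, inv_one] }
  haveI : N.Normal := ⟨fun n hn g => by
    show ((g : G) * n * (g : G)⁻¹) ^ 4 = 1
    rw [conj_pow, show (n : G) ^ 4 = 1 from hn]; group⟩
  constructor
  · intro hk
    obtain ⟨n, hn⟩ := Coprime.pCore_isPGroup (G := (H₁ ⊔ H₂ : Subgroup G)) 2 ⟨k, hk⟩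
    have h2 : orderOf (k : G) ∣ 2 ^ n := orderOf_dvd_of_pow_eq_one
      (congrArg (fun x : Cfsg.pCore 2 (H₁ ⊔ H₂ : Subgroup G) => (x.1 : G)) hn :)
    obtain ⟨a, ha, b, hb, hkd⟩ := hdec k k.2
    have t : ∀ {H : Subgroup G} (_e : H ≃* Sl), ∀ x ∈ H, x ^ 12 = 1 := fun {H} e x hx => by
      have := sl_twelfth (e ⟨x, hx⟩)
      rw [← map_pow, map_eq_one_iff e e.injective] at this
      exact congrArg Subtype.val this
    have h12 : orderOf (k : G) ∣ 2 ^ 2 * 3 := orderOf_dvd_of_pow_eq_one (by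
      rw [hkd, (show Commute a b from hcomm a ha b hb).mul_pow]
      show a ^ 12 * b ^ 12 = 1
      rw [t e₁ a ha, t e₂ b hb, one_mul])
    have hc : Nat.Coprime (orderOf (k : G)) 3 := (Nat.Coprime.pow_left n (by norm_num)).coprime_dvd_left h2
    exact orderOf_dvd_iff_pow_eq_one.1 (hc.dvd_of_dvd_mul_right h12)
  · exact fun hk => Coprime.le_pCore (p := 2) (N := N)
      (fun m => ⟨2, Subtype.ext (Subtype.ext (m.2 : ((m.1 : (H₁ ⊔ H₂ : Subgroup G)) : G) ^ 4 = 1))⟩) hk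

end Core

namespace Model

variable {Q : Subgroup G} {ψ : ℕ → G} (M : Model z Q ψ)
include M

theorem card_eq : Nat.card G = 3265920 := by
  classical
  obtain ⟨r, a, k, m, h, hco, hcard⟩ := M.families
  set n := Nat.card {t : G // t * t = 1 ∧ t ≠ 1} with hn
  have hI : Nat.card {x : G // IsInv z x} = 512 + Nat.card {x : G // IsFree z ψ x} := by
    rw [← M.card_three, ← Nat.card_sum]
    refine Nat.card_congr ((Equiv.sumCompl fun x : {x : G // IsInv z x} => IsThree z ψ (x : G)).symm.trans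
      (Equiv.sumCongr ((Equiv.subtypeSubtypeEquivSubtypeInter (IsInv z) (IsThree z ψ)).trans
        (Equiv.subtypeEquivRight fun x => ⟨fun h => h.2, fun h => ⟨h.1, h⟩⟩))
        (Equiv.subtypeSubtypeEquivSubtypeInter (IsInv z) fun x => ¬ IsThree z ψ x)))
  have he : n = 1683 + 1152 * ∑ i, m i := by rw [hn, M.card_invol, hI, hcard]; omega
  have hg : Nat.card G = 1152 * n := M.card_group
  have h729 : 729 ∣ 1152 * n := by
    rw [← hg, ← M.card_sup_b]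
    exact Subgroup.card_subgroup_dvd_card _
  have h81 : 81 ∣ n := by
    have h' : 81 * 9 ∣ 128 * n * 9 := by rw [show 128 * n * 9 = 1152 * n by ring]; exact h729
    exact (Nat.Coprime.dvd_of_dvd_mul_left (by norm_num : Nat.Coprime 81 128))
      (Nat.dvd_of_mul_dvd_mul_right (by norm_num) h')
  have hM := arith a k m h hco he h81
  rw [hM] at he
  omega

end Model

end

end CfsgLib.Spor.UFourType
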