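import Cfsg.Agent.Lib.Spor.UFourType.ThreeAOrder

/-!
# The centre of a Sylow 3-subgroup
-/

set_option autoImplicit false
set_option linter.unusedSectionVars false
set_option synthInstance.maxSize 4096

namespace CfsgLib.Spor.UFourType

open Subgroup

noncomputable section

theorem P_gen : ∀ c ∈ listP, ∃ i < 3, ∃ j < 3, c = mC (mPow aC i) (mPow 16 j) := by decide +kernel

namespace Model

variable {G : Type*} [Group G] [Finite G] {z : G} {Q : Subgroup G} {ψ : ℕ → G} (M : Model z Q ψ)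
include M

theorem grpP_gen {p : G} (hp : p ∈ M.grpP) : ∃ i j : ℕ, p = ψ aC ^ i * ψ 16 ^ j := by
  obtain ⟨c, hc, rfl⟩ := hp
  obtain ⟨i, -, j, -, rfl⟩ := P_gen c hc
  exact ⟨i, j, by
    rw [M.pow (by norm_num), M.pow (by norm_num), M.mul _ (mPow_lt (by norm_num) i) _ (mPow_lt (by norm_num) j)]⟩

/-- An element of the elementary group centralizing the core is a product of side elements. -/
theorem central_side {b : Bool} {u : ℕ} (hu : u ∈ [wC b, wC' b]) {s : G} (hs : s ∈ M.fixA u)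
    (hsz : z * s * z = s⁻¹) (hs1 : s ≠ 1) {c : G} (hc : c ∈ M.grpA) (hcO : ∀ x ∈ M.grpO, c * x = x * c) :
    ∃ i j : ℕ, c = ψ aC ^ i * s ^ j := by
  classical
  have hsO : s ∈ M.grpO := M.A_inverted_memO hs.1 hsz
  obtain ⟨b', g, hg⟩ := M.side_real hu hs hsz hs1
  obtain ⟨r, hr, e⟩ := M.O_index hsO
  rw [M.card_grpO] at e
  set cO := M.grpO ⊓ centralizer ({s} : Set G) with hcOd
  have h81 : 81 ≤ Nat.card cO := by
    have hr3 := Nat.le_of_dvd (by norm_num) hr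
    nlinarith [Nat.mul_le_mul_left (Nat.card cO) hr3]
  have hnle : ¬ cO ≤ M.grpA := by
    intro h
    have hle : Nat.card cO ≤ Nat.card (zpowers (ψ aC) × {d : G // d ∈ M.grpA ∧ z * d * z = d⁻¹}) := by
      have hsp : ∀ x : cO, ∃ y : zpowers (ψ aC) × {d : G // d ∈ M.grpA ∧ z * d * z = d⁻¹}, (x : G) = y.1 * y.2 := by
        intro x
        obtain ⟨p, hp, d, -, ex, hdz⟩ := M.split_O x.2.1
        refine ⟨(⟨p, hp⟩, ⟨d, ?_, hdz⟩), ex⟩
        rw [show d = p⁻¹ * (x : G) by rw [ex, inv_mul_cancel_left]]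
        exact mul_mem (inv_mem (M.grpP_le_grpA (M.a_power hp).1)) (h x.2)
      choose f hf using hsp
      exact Nat.card_le_card_of_injective f fun x x' ee => Subtype.ext (by rw [hf, hf, ee])
    rw [Nat.card_prod, Nat.card_zpowers, M.a_order, M.card_A_inverted] at hle
    omega
  obtain ⟨τ, hτ, hτA⟩ := SetLike.not_le_iff_exists.1 hnle
  let cj := (MulAut.conj g).toMonoidHom
  have hB : M.grpA.map cj ≤ M.grpM b' := by
    rintro _ ⟨a, ha, rfl⟩
    exact M.grpH_le b' ((hg a).1 (M.grpA_comm ha hs.1))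
  have hgA := M.abelian81 (M.grpA.map cj) hB
    (by rw [Subgroup.card_map_of_injective (MulAut.conj g).injective, M.card_grpA]) (by
      rintro _ ⟨a, ha, rfl⟩ _ ⟨a', ha', rfl⟩
      rw [← map_mul, ← map_mul, M.grpA_comm ha ha'])
  have hτM : g * τ * g⁻¹ ∈ M.grpM b' := M.grpH_le b' ((hg τ).1 (mem_centralizer_singleton_iff.1 hτ.2))
  have hτo : Odd (orderOf (g * τ * g⁻¹)) := by
    rw [← MulAut.conj_apply, MulEquiv.orderOf_eq]; exact M.grpO_odd' hτ.1
  have hτA' : g * τ * g⁻¹ ∉ M.grpA := by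
    intro h
    rw [← hgA] at h
    obtain ⟨a, ha, ea⟩ := h
    have ea' : g * a * g⁻¹ = g * τ * g⁻¹ := ea
    exact hτA (mul_left_cancel (mul_right_cancel ea') ▸ ha)
  let S : Subgroup G := M.grpA ⊓ centralizer ({τ} : Set G)
  have hS9 : Nat.card S ≤ 9 := by
    have h := M.fix_bound hτM hτo hτA' (S.map cj) ((Subgroup.map_mono inf_le_left).trans hgA.le) (by
      rintro _ ⟨a, ha, rfl⟩
      show g * τ * g⁻¹ * (g * a * g⁻¹) * (g * τ * g⁻¹)⁻¹ * (g * a * g⁻¹)⁻¹ ∈ _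
      rw [show g * τ * g⁻¹ * (g * a * g⁻¹) * (g * τ * g⁻¹)⁻¹ * (g * a * g⁻¹)⁻¹ = g * (τ * a * τ⁻¹ * a⁻¹) * g⁻¹ by group,
        ← mem_centralizer_singleton_iff.1 ha.2]
      simp)
    rwa [Subgroup.card_map_of_injective (MulAut.conj g).injective] at h
  have haS : ψ aC ∈ S :=
    ⟨M.grpP_le_grpA M.aX_mem.1, mem_centralizer_singleton_iff.2 (M.mem_grpX.1 (M.grpO_le hτ.1)).symm⟩
  have hsS : s ∈ S := ⟨hs.1, mem_centralizer_singleton_iff.2 (mem_centralizer_singleton_iff.1 hτ.2).symm⟩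
  have hcS : c ∈ S := ⟨hc, mem_centralizer_singleton_iff.2 (hcO τ hτ.1)⟩
  have hs3 := (M.side_fix_eq hu hs hsz hs1).2.1
  let F : Fin 3 × Fin 3 → S := fun x => ⟨ψ aC ^ (x.1 : ℕ) * s ^ (x.2 : ℕ), mul_mem (pow_mem haS _) (pow_mem hsS _)⟩
  have hinv : ∀ n : ℕ, z * s ^ n * z = (s ^ n)⁻¹ := fun n => by
    have h : z * s ^ n * z⁻¹ = (s⁻¹) ^ n := by rw [← conj_pow, M.z_inv, hsz]
    rwa [M.z_inv, inv_pow] at h
  have hF : Function.Injective F := by
    rintro ⟨i, j⟩ ⟨i', j'⟩ ee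
    have e' : ψ aC ^ (i : ℕ) * s ^ (j : ℕ) = ψ aC ^ (i' : ℕ) * s ^ (j' : ℕ) := congrArg Subtype.val ee
    have ha := mem_zpowers (ψ aC)
    obtain ⟨h1, h2⟩ := M.O_unique (mul_mem (inv_mem (pow_mem ha (i' : ℕ))) (pow_mem ha (i : ℕ)))
      (pow_mem hsO _) (hinv _) (hinv (j' : ℕ)) (by rw [mul_assoc, e', inv_mul_cancel_left])
    refine Prod.ext (Fin.ext ?_) (Fin.ext ?_)
    · exact pow_injOn_Iio_orderOf (by simp [M.a_order]) (by simp [M.a_order]) (inv_mul_eq_one.1 h1).symm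
    · exact (pow_injOn_Iio_orderOf (by simp [orderOf_eq_prime hs3 hs1]) (by simp [orderOf_eq_prime hs3 hs1]) h2).symm
  obtain ⟨⟨i, j⟩, h⟩ := (hF.bijective_of_nat_card_le (by
    rw [Nat.card_prod, Nat.card_fin]; omega)).2 ⟨c, hcS⟩
  exact ⟨i, j, (congrArg Subtype.val h).symm⟩

/-- Every 3-element commutes with a conjugate of the element. -/
theorem exists_conj_commute {g : G} {n : ℕ} (hg : g ^ 3 ^ n = 1) :
    ∃ h : G, g * (h * ψ aC * h⁻¹) = h * ψ aC * h⁻¹ * g := by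
  haveI : Fact (Nat.Prime 3) := ⟨Nat.prime_three⟩
  obtain ⟨T, hT⟩ := (IsPGroup.of_card (p := 3) (n := 6) (G := (M.grpO ⊔ zpowers (ψ 16) : Subgroup G))
    (by rw [M.card_sup_b]; norm_num)).exists_le_sylow
  have hOT : M.grpO ≤ T := le_sup_left.trans hT
  have haT : ψ aC ∈ (T : Subgroup G) := hOT M.aO_mem
  have hbT : ψ 16 ∈ (T : Subgroup G) := hT (mem_sup_right (mem_zpowers _))
  haveI : Nontrivial (T : Subgroup G) := ⟨⟨⟨_, haT⟩, 1, fun e => M.a_ne (congrArg Subtype.val e)⟩⟩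
  haveI := T.2.center_nontrivial
  obtain ⟨cc, hcc⟩ := exists_ne (1 : center (T : Subgroup G))
  set c : G := cc.1.1 with hcd
  have hc1 : c ≠ 1 := fun e => hcc (Subtype.ext (Subtype.ext e))
  have hcT : ∀ x ∈ (T : Subgroup G), c * x = x * c := fun x hx =>
    (congrArg Subtype.val (mem_center_iff.1 cc.2 ⟨x, hx⟩)).symm
  have hodd : Odd (orderOf c) := by
    obtain ⟨k, hk⟩ := T.2.exists_card_eq
    refine (Odd.pow (n := k) (by decide : Odd 3)).of_dvd_nat ?_
    rw [← hk]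
    exact Subgroup.orderOf_dvd_natCard _ cc.1.2
  have hcP : c ∈ centralizer (M.grpP : Set G) := mem_centralizer_iff.2 fun p hp => by
    obtain ⟨i, j, rfl⟩ := M.grpP_gen hp
    exact (hcT _ (mul_mem (pow_mem haT i) (pow_mem hbT j))).symm
  have hcA : c ∈ M.grpA := M.mem_grpA.2 ⟨hcP, hodd⟩
  have hcO : ∀ x ∈ M.grpO, c * x = x * c := fun x hx => hcT x (hOT hx)
  obtain ⟨s, hs, hsz, hs1⟩ := M.side_exists_fix (b := false) (u := wC false) List.mem_cons_self
  obtain ⟨t, ht, htz, ht1⟩ := M.side_exists_fix (b := false) (u := wC' false) (List.mem_cons_of_mem _ List.mem_cons_self)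
  obtain ⟨i, j, ei⟩ := M.central_side List.mem_cons_self hs hsz hs1 hcA hcO
  obtain ⟨k, l, ek⟩ := M.central_side (List.mem_cons_of_mem _ List.mem_cons_self) ht htz ht1 hcA hcO
  have hpow : ∀ {d : G}, z * d * z = d⁻¹ → ∀ m : ℕ, z * d ^ m * z = (d ^ m)⁻¹ := fun {d} hd m => by
    have h : z * d ^ m * z⁻¹ = (d⁻¹) ^ m := by rw [← conj_pow, M.z_inv, hd]
    rwa [M.z_inv, inv_pow] at h
  obtain ⟨-, hst⟩ := M.O_unique (mul_mem (inv_mem (pow_mem (mem_zpowers _) k)) (pow_mem (mem_zpowers (ψ aC)) i))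
    (pow_mem (M.A_inverted_memO hs.1 hsz) j) (hpow hsz j) (hpow htz l) (by
      rw [mul_assoc, ← ei, ek, inv_mul_cancel_left])
  have hca : c ∈ zpowers (ψ aC) := by
    have he : s ^ j = 1 := by
      have h1 : s ^ j ∈ M.fixA (wC false) := pow_mem hs j
      have h2 : s ^ j ∈ M.fixA (wC' false) := hst ▸ pow_mem ht l
      obtain ⟨hw, -⟩ := side_pair false
      have hww : ψ (wC' false) = z * ψ (wC false) := by
        rw [← hw, ← M.at_z, M.mul zC (by norm_num) _ (M.side_u (b := false) (u := wC false) List.mem_cons_self).1]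
      have c1 : Commute (s ^ j) (ψ (wC false)) := mem_centralizer_singleton_iff.1 h1.2
      have c2 : Commute (s ^ j) (z * ψ (wC false)) := by
        rw [← hww]; exact mem_centralizer_singleton_iff.1 h2.2
      have c3 : Commute (s ^ j) z := by
        have := c2.mul_right c1.inv_right
        rwa [mul_inv_cancel_right] at this
      refine eq_one_of_sq (M.grpA_odd h1.1) (mul_eq_one_iff_eq_inv.2 ?_)
      rw [← hpow hsz j, ← c3.eq, mul_assoc, M.zz, mul_one]
    rw [ei, he, mul_one]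
    exact pow_mem (mem_zpowers _) i
  have hgp : IsPGroup 3 (zpowers g) := by
    obtain ⟨m, -, hm⟩ := (Nat.dvd_prime_pow Nat.prime_three).1 (orderOf_dvd_of_pow_eq_one hg)
    exact IsPGroup.of_card (n := m) (by rw [Nat.card_zpowers, hm])
  obtain ⟨S, hS⟩ := hgp.exists_le_sylow
  obtain ⟨h, hh⟩ := MulAction.exists_smul_eq G T S
  have hgS : g ∈ ((h • T : Sylow 3 G) : Subgroup G) := hh.symm ▸ hS (mem_zpowers g)
  rw [Sylow.coe_subgroup_smul] at hgS
  obtain ⟨x, hx, hxe⟩ := hgS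
  have hge : g = h * x * h⁻¹ := hxe.symm
  refine ⟨h, ?_⟩
  have hxc : x * c = c * x := (hcT x hx).symm
  have hxa : x * ψ aC = ψ aC * x := by
    have hac : ψ aC ∈ zpowers c := by
      have h3 : c ^ 3 = 1 := M.grpP_cube (M.a_power hca).1
      rw [Subgroup.eq_of_le_of_card_ge (zpowers_le.2 hca) (by
        rw [Nat.card_zpowers, Nat.card_zpowers, M.a_order, orderOf_eq_prime h3 hc1])]
      exact mem_zpowers _
    obtain ⟨m, hm⟩ := mem_zpowers_iff.1 hac
    rw [← hm]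
    exact ((show Commute x c from hxc).zpow_right m).eq
  rw [hge]
  calc h * x * h⁻¹ * (h * ψ aC * h⁻¹) = h * (x * ψ aC) * h⁻¹ := by group
    _ = h * (ψ aC * x) * h⁻¹ := by rw [hxa]
    _ = _ := by group

end Model

end

end CfsgLib.Spor.UFourType
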