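import Cfsg.Agent.Lib.Spor.UFourType.Inverted
import Cfsg.Agent.Lib.Spor.UFourType.Centre
import Cfsg.Agent.Lib.Spor.UFourType.ThreeAction
import Cfsg.Agent.Lib.Coprime.Component
import Cfsg.Agent.Lib.FT.NoMinSimple

/-!
# The remaining inverted elements
-/

set_option autoImplicit false
set_option linter.unusedSectionVars false
set_option synthInstance.maxSize 4096

namespace CfsgLib.Spor.UFourType

open Subgroup

noncomputable section

/-- The involutions of the two sides, indexed. -/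
def sideU (i : Bool × Bool) : ℕ := if i.2 then wC i.1 else wC' i.1

theorem sideU_pair : ∀ b i b' i' : Bool, (b, i) ≠ (b', i') →
    mC (sideU (b, i)) (sideU (b', i')) = zC ∨ mPow (mC (sideU (b, i)) (sideU (b', i'))) 2 = zC := by decide +kernel

theorem fixed_three : ∀ c ∈ threeList, mPow (mC c aC) 3 = 0 → mPow (mC (mC c aC) aC) 3 = 0 →
    c = aC ∨ c = mC aC aC ∨ ∃ k < 1152, ∃ d ∈ listP, ∃ e ∈ listP, mC k c = mC d k ∧ mC k aC = mC e k ∧
      ∀ f ∈ listP, ∃ i < 3, ∃ j < 3, f = mC (mPow d i) (mPow e j) := by decide +kernel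

/-- An element normalizing inverted elements commutes with them if it is inverted itself. -/
theorem inverted_norm {G : Type*} [Group G] {z g v : G} (hz : z * z = 1) (hg : z * g * z = g⁻¹)
    (ho : Odd (orderOf g)) (hv : z * v * z = v⁻¹) (hgv : z * (g * v * g⁻¹) * z = (g * v * g⁻¹)⁻¹) :
    g * v = v * g := by
  have hgi : z * g⁻¹ * z = g := by
    rw [← hg, show z * (z * g * z) * z = z * z * g * (z * z) by group, hz, one_mul, mul_one]
  have h : g⁻¹ * v⁻¹ * g = g * v⁻¹ * g⁻¹ := by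
    calc g⁻¹ * v⁻¹ * g = z * g * z * (z * v * z) * (z * g⁻¹ * z) := by rw [hg, hv, hgi]
      _ = z * g * (z * z) * v * (z * z) * g⁻¹ * z := by group
      _ = z * (g * v * g⁻¹) * z := by rw [hz]; group
      _ = (g * v * g⁻¹)⁻¹ := hgv
      _ = _ := by group
  have h2 : Commute (g * g) v⁻¹ := by
    show g * g * v⁻¹ = v⁻¹ * (g * g)
    calc g * g * v⁻¹ = g * (g * v⁻¹ * g⁻¹) * g := by group
      _ = g * (g⁻¹ * v⁻¹ * g) * g := by rw [h]
      _ = _ := by group
  have h2' : Commute (g * g) v := by simpa using h2.inv_right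
  obtain ⟨k, hk⟩ := ho
  have e : g = (g * g) ^ (k + 1) := by
    rw [← pow_two, ← pow_mul, show 2 * (k + 1) = (2 * k + 1) + 1 by ring, ← hk, pow_succ, pow_orderOf_eq_one, one_mul]
  rw [e]
  exact (h2'.pow_left (k + 1)).eq

/-- The remaining inverted elements. -/
def IsFree {G : Type*} [Group G] (z : G) (ψ : ℕ → G) (x : G) : Prop := IsInv z x ∧ ¬ IsThree z ψ x

namespace Model

variable {G : Type*} [Group G] [Finite G] {z : G} {Q : Subgroup G} {ψ : ℕ → G} (M : Model z Q ψ)
include M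

theorem three_pow {x : G} (hx : IsThree z ψ x) : x ^ 243 = 1 := by
  obtain ⟨k, -, -, hO⟩ := M.three_conj hx
  have h : (⟨_, hO⟩ : M.grpO) ^ 243 = 1 := M.card_grpO ▸ pow_card_eq_one'
  have h' : (ψ k * x * (ψ k)⁻¹) ^ 243 = 1 := congrArg Subtype.val h
  rw [conj_pow] at h'
  exact conj_eq_one_iff.1 h'

theorem free_cent {x y : G} (hx : IsFree z ψ x) (hy : y * x = x * y) :
    Odd (orderOf y) ∧ (z * y = y * z → y = 1) ∧ z * y * z = y⁻¹ := by
  have hodd : ∀ g ∈ centralizer ({x} : Set G), Odd (orderOf g) := fun g hg => by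
    refine Odd.of_dvd_nat ?_ (Subgroup.orderOf_dvd_natCard _ hg)
    rw [← Nat.not_even_iff_odd, even_iff_two_dvd]
    exact fun h => hx.2 (M.even_three hx.1 h)
  have hy' : y ∈ centralizer ({x} : Set G) := mem_centralizer_singleton_iff.2 hy
  have hfix : ∀ g ∈ centralizer ({x} : Set G), z * g = g * z → g = 1 := fun g hg hgz => by
    by_contra h1
    have hC : g ∈ centralizer ({z} : Set G) := mem_centralizer_singleton_iff.2 hgz.symm
    obtain ⟨c, hc, hce⟩ := M.three_code hC (M.cube_of_odd hC (hodd g hg)) h1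
    exact hx.2 ⟨hx.1, c, hc, by rw [hce]; exact (mem_centralizer_singleton_iff.1 hg).symm⟩
  refine ⟨hodd y hy', hfix y hy', ?_⟩
  have hzy : z * y * z ∈ centralizer ({x} : Set G) := by
    refine mem_centralizer_singleton_iff.2 ?_
    have hxz : z * x⁻¹ * z = x := by
      rw [← hx.1.2.2, show z * (z * x * z) * z = z * z * x * (z * z) by group, M.zz, one_mul, mul_one]
    calc z * y * z * x = z * y * z * (z * x⁻¹ * z) := by rw [hxz]
      _ = z * y * (z * z) * x⁻¹ * z := by group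
      _ = z * (y * x⁻¹) * z := by rw [M.zz]; group
      _ = z * (x⁻¹ * y) * z := by rw [((show Commute y x from hy).inv_right).eq]
      _ = z * x⁻¹ * (z * z) * y * z := by rw [M.zz]; group
      _ = z * x⁻¹ * z * (z * y * z) := by group
      _ = _ := by rw [hxz]
  obtain ⟨p, hp, d, hd, rfl, hpz, hdz⟩ := split_odd M.zz _ hodd hy' hzy
  have hp1 := hfix p hp (by
    calc z * p = z * p * (z * z) := by rw [M.zz, mul_one]
      _ = z * p * z * z := by group
      _ = p * z := by rw [hpz])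
  rw [hp1, one_mul, hdz]

theorem free_comm {x y y' : G} (hx : IsFree z ψ x) (hy : y * x = x * y) (hy' : y' * x = x * y') :
    y * y' = y' * y := by
  have h := (M.free_cent hx (((show Commute y x from hy).mul_left hy').eq)).2.2
  have e : z * (y * y') * z = y⁻¹ * y'⁻¹ := by
    rw [← (M.free_cent hx hy).2.2, ← (M.free_cent hx hy').2.2,
      show z * y * z * (z * y' * z) = z * y * (z * z) * y' * z by group, M.zz]
    group
  rw [e] at h
  have h' := congrArg (·⁻¹) h
  simp only [mul_inv_rev, inv_inv] at h'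
  exact h'.symm

/-- None is a 3-element. -/
theorem free_not_three {x : G} (hx : IsFree z ψ x) (n : ℕ) : x ^ 3 ^ n ≠ 1 := by
  intro h
  obtain ⟨g, hg⟩ := M.exists_conj_commute h
  have hz := (M.free_cent hx hg.symm).2.2
  refine M.a_nonreal (t := g⁻¹ * z * g)
    (by rw [show g⁻¹ * z * g * (g⁻¹ * z * g) = g⁻¹ * (z * z) * g by group, M.zz]; group) ?_
  calc g⁻¹ * z * g * ψ aC * (g⁻¹ * z * g) = g⁻¹ * (z * (g * ψ aC * g⁻¹) * z) * g := by group
    _ = _ := by rw [hz]; group

theorem free_of_pow {x : G} (hx : IsInv z x) (h : x ^ 243 ≠ 1) : IsFree z ψ x := ⟨hx, fun h' => h (M.three_pow h')⟩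

theorem free_pow_ne {x : G} (hx : IsFree z ψ x) : x ^ 243 ≠ 1 := M.free_not_three hx 5

/-- An inverted element of the elementary group is fixed by an involution of a side. -/
theorem A_side {d : G} (hd : d ∈ M.grpA) (hdz : z * d * z = d⁻¹) (hd1 : d ≠ 1) :
    ∃ b : Bool, ∃ u ∈ [wC b, wC' b], ψ u * d = d * ψ u := by
  classical
  have hu : ∀ i : Bool × Bool, sideU i ∈ [wC i.1, wC' i.1] := by
    rintro ⟨b, i⟩; cases i <;> simp [sideU]
  choose s hs hsz hs1 using fun i => M.side_exists_fix (hu i)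
  let D := {e : {d : G // d ∈ M.grpA ∧ z * d * z = d⁻¹} // e.1 ≠ 1}
  let g : (Bool × Bool) × Bool → D := fun p =>
    ⟨⟨if p.2 then s p.1 else (s p.1)⁻¹, by
      split_ifs
      · exact ⟨(hs p.1).1, hsz p.1⟩
      · refine ⟨inv_mem (hs p.1).1, ?_⟩
        rw [inv_inv, ← hsz p.1, show z * (z * s p.1 * z) * z = z * z * s p.1 * (z * z) by group, M.zz, one_mul,
          mul_one]⟩, by
      show (if p.2 then s p.1 else (s p.1)⁻¹) ≠ 1
      split_ifs
      · exact hs1 p.1
      · exact fun e => hs1 p.1 (inv_eq_one.1 e)⟩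
  have hmem : ∀ p, (g p).1.1 ∈ M.fixA (sideU p.1) := fun p => by
    show (if p.2 then s p.1 else (s p.1)⁻¹) ∈ _
    split_ifs
    exacts [hs p.1, inv_mem (hs p.1)]
  have hg : Function.Injective g := by
    intro p q e
    have e' : (g p).1.1 = (g q).1.1 := congrArg (fun x : D => x.1.1) e
    have hpq : p.1 = q.1 := by
      by_contra hne
      set w := (g p).1.1 with hw
      have c1 : Commute w (ψ (sideU p.1)) := mem_centralizer_singleton_iff.1 (hmem p).2
      have c2 : Commute w (ψ (sideU q.1)) := by rw [e']; exact mem_centralizer_singleton_iff.1 (hmem q).2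
      have l1 := (M.side_u (hu p.1)).1
      have l2 := (M.side_u (hu q.1)).1
      have c3 := c1.mul_right c2
      rw [M.mul _ l1 _ l2] at c3
      have cz : Commute w z := by
        rcases sideU_pair p.1.1 p.1.2 q.1.1 q.1.2 hne with e2 | e2
        · rwa [e2, M.at_z] at c3
        · have c4 := c3.pow_right 2
          rwa [M.pow (mC_lt l1 l2), e2, M.at_z] at c4
      refine (g p).2 (eq_one_of_sq (M.grpA_odd (hmem p).1) (mul_eq_one_iff_eq_inv.2 ?_))
      rw [← hw, ← (g p).1.2.2, ← hw, ← cz.eq, mul_assoc, M.zz, mul_one]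
    refine Prod.ext hpq ?_
    have e2 : (if p.2 then s p.1 else (s p.1)⁻¹) = (if q.2 then s p.1 else (s p.1)⁻¹) := by
      have e3 : (if p.2 then s p.1 else (s p.1)⁻¹) = (if q.2 then s q.1 else (s q.1)⁻¹) := e'
      rw [← hpq] at e3
      exact e3
    have hne : s p.1 ≠ (s p.1)⁻¹ := fun h =>
      hs1 p.1 (eq_one_of_sq (M.grpA_odd (hs p.1).1) (mul_eq_one_iff_eq_inv.2 h))
    cases hp : p.2 <;> cases hq : q.2 <;> simp only [hp, hq, if_true, if_false, Bool.false_eq_true] at e2 ⊢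
    exacts [absurd e2.symm hne, absurd e2 hne]
  have hD : Nat.card D = 8 := by
    haveI := Fintype.ofFinite {d : G // d ∈ M.grpA ∧ z * d * z = d⁻¹}
    rw [Nat.card_eq_fintype_card, Fintype.card_subtype_compl, ← Nat.card_eq_fintype_card, M.card_A_inverted,
      (Fintype.card_eq_one_iff (α := {e : {d : G // d ∈ M.grpA ∧ z * d * z = d⁻¹} // e.1 = 1})).2
        ⟨⟨⟨1, one_mem _, by rw [mul_one, M.zz, inv_one]⟩, rfl⟩, fun d => Subtype.ext (Subtype.ext d.2)⟩]
  obtain ⟨p, hp⟩ := (hg.bijective_of_nat_card_le (by simp [hD])).2 ⟨⟨d, hd, hdz⟩, hd1⟩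
  refine ⟨p.1.1, sideU p.1, hu p.1, ?_⟩
  have := mem_centralizer_singleton_iff.1 (hmem p).2
  rw [hp] at this
  exact this.symm

theorem A_real {d : G} (hd : d ∈ M.grpA) (hdz : z * d * z = d⁻¹) (hd1 : d ≠ 1) :
    ∃ b, ∃ g : G, ∀ x, x * d = d * x ↔ g * x * g⁻¹ ∈ M.grpH b := by
  obtain ⟨b, u, hu, hud⟩ := M.A_side hd hdz hd1
  obtain ⟨lu, hu2, huz, -⟩ := M.side_u hu
  exact M.real_pair (M.grpA_cube hd) hd1 hu2 (M.invol (side_facts b u hu).1).2 M.zz huz hud hdz

/-- An element of order prime to three centralizes none of these real elements. -/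
theorem order_972 {s g x : G} {b : Bool} (h : ∀ y, y * s = s * y ↔ g * y * g⁻¹ ∈ M.grpH b) (hxs : x * s = s * x)
    (hx1 : x ≠ 1) (ho : Odd (orderOf x)) (h3 : ¬ 3 ∣ orderOf x) : False := by
  have hd : orderOf x ∣ 972 :=
    (Subgroup.orderOf_dvd_natCard _ (mem_centralizer_singleton_iff.2 hxs)).trans (M.card_real h)
  have key : ∀ m ∈ Nat.divisors 972, Odd m → ¬ 3 ∣ m → m = 1 := by decide +kernel
  exact hx1 (orderOf_eq_one_iff.1 (key _ (Nat.mem_divisors.2 ⟨hd, by norm_num⟩) ho h3))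

/-- The heart: an element of order prime to three and one of order three. -/
theorem three_core {x q : G} (hx : IsFree z ψ x) (h3 : ¬ 3 ∣ orderOf x) (hqx : q * x = x * q) (hqO : q ∈ M.grpO)
    (hq3 : q ^ 3 = 1) (hq1 : q ≠ 1) : False := by
  classical
  obtain ⟨-, -, hqz⟩ := M.free_cent hx hqx
  have hx1 := hx.1.1
  set K := centralizer ({q} : Set G) with hK
  have hxK : x ∈ K := mem_centralizer_singleton_iff.2 hqx.symm
  have hzK : ∀ k ∈ K, z * k * z ∈ K := fun k hk => by
    refine mem_centralizer_singleton_iff.2 ?_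
    have hc : Commute k q⁻¹ := (show Commute k q from mem_centralizer_singleton_iff.1 hk).inv_right
    have hqi : z * q⁻¹ * z = q := by
      rw [← hqz, show z * (z * q * z) * z = z * z * q * (z * z) by group, M.zz, one_mul, mul_one]
    calc z * k * z * q = z * k * z * (z * q⁻¹ * z) := by rw [hqi]
      _ = z * k * (z * z) * q⁻¹ * z := by group
      _ = z * (k * q⁻¹) * z := by rw [M.zz]; group
      _ = z * (q⁻¹ * k) * z := by rw [hc.eq]
      _ = z * q⁻¹ * (z * z) * k * z := by rw [M.zz]; group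
      _ = z * q⁻¹ * z * (z * k * z) := by group
      _ = _ := by rw [hqi]
  have hodd : Odd (Nat.card K) := by
    rw [← Nat.not_even_iff_odd, even_iff_two_dvd]
    intro h
    obtain ⟨u, huK, hu2, hu1, huz⟩ := exists_fixed_invol M.zz K hzK h
    obtain ⟨b, g, hg⟩ := M.real_pair hq3 hq1 hu2 hu1 M.zz huz (mem_centralizer_singleton_iff.1 huK) hqz
    exact M.order_972 hg hqx.symm hx1 hx.1.2.1 h3
  have hoddK : ∀ k ∈ K, Odd (orderOf k) := fun k hk => hodd.of_dvd_nat (Subgroup.orderOf_dvd_natCard _ hk)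
  have haK : ψ aC ∈ K := mem_centralizer_singleton_iff.2 (M.mem_grpX.1 (M.grpO_le hqO)).symm
  -- the fixed points
  have hfix : ∀ k ∈ K, z * k = k * z → k ∈ zpowers (ψ aC) := by
    intro k hk hkz
    by_cases h1 : k = 1
    · rw [h1]; exact one_mem _
    have hC : k ∈ centralizer ({z} : Set G) := mem_centralizer_singleton_iff.2 hkz.symm
    obtain ⟨c, hc, rfl⟩ := M.three_code hC (M.cube_of_odd hC (hoddK k hk)) h1
    have lc := list_lt.2.1 c hc
    have la : aC < 1152 := by norm_num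
    have cube : ∀ d < 1152, ψ d ∈ K → mPow d 3 = 0 := fun d hd hdK => by
      rw [← M.eq_one_iff (mPow_lt hd 3), ← M.pow hd]
      exact M.cube_of_odd (M.mem d hd) (hoddK _ hdK)
    have m1 : ψ (mC c aC) ∈ K := by rw [← M.mul c lc aC la]; exact mul_mem hk haK
    have m2 : ψ (mC (mC c aC) aC) ∈ K := by rw [← M.mul _ (mC_lt lc la) aC la]; exact mul_mem m1 haK
    rcases fixed_three c hc (cube _ (mC_lt lc la) m1) (cube _ (mC_lt (mC_lt lc la) la) m2) with
      rfl | rfl | ⟨n, hn, d, hd, e, he, hnd, hne, hgen⟩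
    · exact mem_zpowers _
    · rw [← M.mul aC la aC la]; exact mul_mem (mem_zpowers _) (mem_zpowers _)
    · exfalso
      have ld := lists_lt.2.2 d hd
      have le := lists_lt.2.2 e he
      have hd' := M.conj_eq hn lc ld hnd
      have he' := M.conj_eq hn la le hne
      set q' := ψ n * q * (ψ n)⁻¹ with hq'
      have hIq : IsInv z q' := M.isInv_conj (M.comm_z hn) ⟨hq1, M.odd_of_cube hq3, hqz⟩
      have hqA : q' ∈ M.grpA := M.mem_grpA.2 ⟨M.mem_cent_grpP.2 fun f hf => by
        obtain ⟨i, -, j, -, rfl⟩ := hgen f hf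
        rw [← M.mul _ (mPow_lt ld i) _ (mPow_lt le j), ← M.pow ld, ← M.pow le, ← hd', ← he', conj_pow, conj_pow,
          hq', show ψ n * ψ c ^ i * (ψ n)⁻¹ * (ψ n * ψ aC ^ j * (ψ n)⁻¹) * (ψ n * q * (ψ n)⁻¹) =
            ψ n * (ψ c ^ i * ψ aC ^ j * q) * (ψ n)⁻¹ by group,
          mem_centralizer_singleton_iff.1 (mul_mem (pow_mem hk i) (pow_mem haK j))]
        group, hIq.2.1⟩
      obtain ⟨b, u, hu, huq⟩ := M.A_side hqA hIq.2.2 hIq.1
      obtain ⟨lu, hu2, -⟩ := M.side_u hu
      have hu1 := (M.invol (side_facts b u hu).1).2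
      have hwK : (ψ n)⁻¹ * ψ u * ψ n ∈ K := mem_centralizer_singleton_iff.2 (by
        calc (ψ n)⁻¹ * ψ u * ψ n * q = (ψ n)⁻¹ * (ψ u * (ψ n * q * (ψ n)⁻¹)) * ψ n := by group
          _ = (ψ n)⁻¹ * (ψ n * q * (ψ n)⁻¹ * ψ u) * ψ n := by rw [← hq', huq]
          _ = _ := by group)
      have hw2 : ((ψ n)⁻¹ * ψ u * ψ n) ^ 2 = 1 := by
        rw [pow_two, show (ψ n)⁻¹ * ψ u * ψ n * ((ψ n)⁻¹ * ψ u * ψ n) = (ψ n)⁻¹ * (ψ u * ψ u) * ψ n by group, hu2]
        group
      refine hu1 ?_
      have hw := orderOf_eq_one_iff.1 (Nat.eq_one_of_dvd_coprimes (Nat.coprime_two_left.2 (hoddK _ hwK))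
        (orderOf_dvd_of_pow_eq_one hw2) dvd_rfl)
      calc ψ u = ψ n * ((ψ n)⁻¹ * ψ u * ψ n) * (ψ n)⁻¹ := by group
        _ = 1 := by rw [hw]; group
  haveI hsol : Group.IsSolvable K := CfsgLib.FT.isSolvable_of_odd K hodd
  let xK : K := ⟨x, hxK⟩
  -- the element centralizes every core
  have hcore : ∀ p : Nat.Primes, ∀ v ∈ Cfsg.pCore (p : ℕ) K, xK * v = v * xK := by
    intro p
    haveI : Fact (p : ℕ).Prime := ⟨p.2⟩
    haveI hchar := Coprime.pCore_characteristic (G := K) (p : ℕ)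
    set V := (Cfsg.pCore (p : ℕ) K).map K.subtype with hV
    have hxV : ∀ v ∈ V, x * v * x⁻¹ ∈ V := by
      rintro _ ⟨v, hv, rfl⟩
      exact ⟨xK * v * xK⁻¹, (inferInstance : (Cfsg.pCore (p : ℕ) K).Normal).conj_mem v hv xK, rfl⟩
    have hzn : z ∈ normalizer (K : Set G) := by
      refine mem_normalizer_iff.2 fun k => ⟨fun hk => by rw [M.z_inv]; exact hzK k hk, fun hk => ?_⟩
      rw [M.z_inv] at hk
      have := hzK _ hk
      rwa [show z * (z * k * z) * z = z * z * k * (z * z) by group, M.zz, one_mul, mul_one] at this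
    have hzV : ∀ v ∈ V, z * v * z ∈ V := by
      rintro _ ⟨v, hv, rfl⟩
      exact ⟨K.normalizerMonoidHom ⟨z, hzn⟩ v,
        (characteristic_iff_map_eq.1 hchar _).le (mem_map_of_mem _ hv), by
          show z * (v : G) * z⁻¹ = z * (v : G) * z
          rw [M.z_inv]⟩
    have hVK : V ≤ K := by rintro _ ⟨v, -, rfl⟩; exact v.2
    have hVp : IsPGroup (p : ℕ) V := (Coprime.pCore_isPGroup (G := K) (p : ℕ)).map _
    suffices key : ∀ v ∈ V, x * v = v * x from fun v hv => Subtype.ext (key _ ⟨v, hv, rfl⟩)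
    by_cases hp3 : (p : ℕ) = 3
    · let X : MulAut V := V.normalizerMonoidHom ⟨x, mem_normalizer_iff.2 fun v => ⟨hxV v, fun hv => by
        have : ∀ n : ℕ, ∀ w ∈ V, x ^ n * w * (x ^ n)⁻¹ ∈ V := fun n => by
          induction n with
          | zero => intro w hw; simpa using hw
          | succ n ih =>
            intro w hw
            rw [pow_succ', show x * x ^ n * w * (x * x ^ n)⁻¹ = x * (x ^ n * w * (x ^ n)⁻¹) * x⁻¹ by group]
            exact hxV _ (ih w hw)
        have h := this (orderOf x - 1) _ hv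
        rwa [show x ^ (orderOf x - 1) = x⁻¹ from (inv_eq_of_mul_eq_one_right (by
          rw [← pow_succ', Nat.sub_add_cancel (orderOf_pos x), pow_orderOf_eq_one])).symm,
          show x⁻¹ * (x * v * x⁻¹) * x⁻¹⁻¹ = v by group] at h⟩⟩
      let Z : MulAut V := V.normalizerMonoidHom ⟨z, mem_normalizer_iff.2 fun v =>
        ⟨fun hv => by rw [M.z_inv]; exact hzV v hv, fun hv => by
          rw [M.z_inv] at hv
          have := hzV _ hv
          rwa [show z * (z * v * z) * z = z * z * v * (z * z) by group, M.zz, one_mul, mul_one] at this⟩⟩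
      have hm : X ^ orderOf x = 1 := by
        rw [← map_pow]
        convert map_one V.normalizerMonoidHom
        exact Subtype.ext (pow_orderOf_eq_one x)
      have htriv := trivial_of_few_fixed (hp3 ▸ hVp) X Z
        (fun v => Subtype.ext (by
          show z * (z * (v : G) * z⁻¹) * z⁻¹ = (v : G)
          rw [M.z_inv, show z * (z * (v : G) * z) * z = z * z * (v : G) * (z * z) by group, M.zz, one_mul, mul_one]))
        (fun v => by
          rw [show X⁻¹ = V.normalizerMonoidHom (⟨x, _⟩⁻¹) from (map_inv _ _).symm]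
          refine Subtype.ext ?_
          show z * (x * (v : G) * x⁻¹) * z⁻¹ = x⁻¹ * (z * (v : G) * z⁻¹) * x⁻¹⁻¹
          have hzx : z * x = x⁻¹ * z := by rw [← hx.1.2.2, mul_assoc (z * x), M.zz, mul_one]
          have hxzi : x⁻¹ * z⁻¹ = z⁻¹ * x := by rw [← mul_inv_rev, hzx, mul_inv_rev, inv_inv]
          calc z * (x * (v : G) * x⁻¹) * z⁻¹ = z * x * (v : G) * (x⁻¹ * z⁻¹) := by group
            _ = x⁻¹ * z * (v : G) * (z⁻¹ * x) := by rw [hzx, hxzi]
            _ = _ := by group)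
        hm (Nat.two_dvd_ne_zero.2 (Nat.odd_iff.1 hx.1.2.1)) h3 ?_
      · intro v hv
        exact mul_inv_eq_iff_eq_mul.1 (congrArg Subtype.val (htriv ⟨v, hv⟩) :)
      · calc Nat.card {v : V // Z v = v} ≤ Nat.card (zpowers (ψ aC)) :=
              Nat.card_le_card_of_injective (fun v => ⟨(v.1 : G), hfix _ (hVK v.1.2) (by
                have h : z * (v.1 : G) * z⁻¹ = v.1 := congrArg Subtype.val v.2
                exact mul_inv_eq_iff_eq_mul.1 h)⟩) fun a b e =>
                Subtype.ext (Subtype.ext (congrArg Subtype.val e :))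
          _ = 3 := by rw [Nat.card_zpowers, M.a_order]
    · have hinv : ∀ v ∈ V, z * v * z = v⁻¹ := by
        intro v hv
        obtain ⟨f, hf, d, -, rfl, hfz, hdz⟩ := split_odd M.zz V (fun g hg => hoddK g (hVK hg)) hv (hzV v hv)
        have hfa := hfix f (hVK hf) (by
          calc z * f = z * f * (z * z) := by rw [M.zz, mul_one]
            _ = z * f * z * z := by group
            _ = f * z := by rw [hfz])
        obtain ⟨k, hk⟩ := hVp ⟨f, hf⟩
        have hf1 : f = 1 := orderOf_eq_one_iff.1 (Nat.eq_one_of_dvd_coprimes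
          (Nat.Coprime.pow_left k ((Nat.coprime_primes p.2 Nat.prime_three).2 hp3))
          (orderOf_dvd_of_pow_eq_one (congrArg Subtype.val hk :))
          (orderOf_dvd_of_pow_eq_one (M.grpP_cube (M.a_power hfa).1)))
        rw [hf1, one_mul, hdz]
      exact fun v hv => inverted_norm M.zz hx.1.2.2 hx.1.2.1 (hinv v hv) (hinv _ (hxV v hv))
  have hF : ∀ f ∈ Cfsg.fittingSubgroup K, xK * f = f * xK := by
    intro f hf
    have hle : Cfsg.fittingSubgroup K ≤ centralizer ({xK} : Set K) := by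
      rw [Coprime.fitting_eq_iSup_pCore, iSup_le_iff]
      exact fun p v hv => mem_centralizer_singleton_iff.2 (hcore p v hv).symm
    exact (mem_centralizer_singleton_iff.1 (hle hf)).symm
  have hxF : xK ∈ Cfsg.fittingSubgroup K :=
    Coprime.centralizer_fitting_le (mem_centralizer_iff.2 fun f hf => (hF f hf).symm)
  -- an inverted element of the elementary group
  obtain ⟨e, heA, hez, he1, heq⟩ : ∃ e ∈ M.grpA, z * e * z = e⁻¹ ∧ e ≠ 1 ∧ e * q = q * e := by
    let D := {d : G // d ∈ M.grpA ∧ z * d * z = d⁻¹}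
    let φ : D → zpowers (ψ aC) := fun d => ⟨_, M.O_comm (M.A_inverted_memO d.2.1 d.2.2) hqO⟩
    obtain ⟨d, d', hne, hdd⟩ : ∃ d d' : D, d ≠ d' ∧ φ d = φ d' := by
      by_contra h
      push Not at h
      have := Nat.card_le_card_of_injective φ fun a b e => by_contra fun hn => h a b hn e
      rw [M.card_A_inverted, Nat.card_zpowers, M.a_order] at this
      omega
    have hdd' : (d : G) * q * (d : G)⁻¹ = (d' : G) * q * (d' : G)⁻¹ :=
      mul_right_cancel (congrArg Subtype.val hdd :)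
    refine ⟨(d' : G)⁻¹ * d, mul_mem (inv_mem d'.2.1) d.2.1, ?_, fun h => hne (Subtype.ext (inv_mul_eq_one.1 h).symm), ?_⟩
    · rw [show z * ((d' : G)⁻¹ * d) * z = (z * (d' : G)⁻¹ * z) * (z * (d : G) * z) by
          rw [show z * (d' : G)⁻¹ * z * (z * (d : G) * z) = z * (d' : G)⁻¹ * (z * z) * (d : G) * z by group, M.zz]
          group,
        d.2.2, show z * (d' : G)⁻¹ * z = (d' : G) by
          rw [← d'.2.2, show z * (z * (d' : G) * z) * z = z * z * (d' : G) * (z * z) by group, M.zz, one_mul, mul_one],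
        mul_inv_rev, inv_inv]
      exact M.grpA_comm d'.2.1 (inv_mem d.2.1)
    · calc (d' : G)⁻¹ * d * q = (d' : G)⁻¹ * ((d : G) * q * (d : G)⁻¹) * d := by group
        _ = (d' : G)⁻¹ * ((d' : G) * q * (d' : G)⁻¹) * d := by rw [hdd']
        _ = _ := by group
  have heK : e ∈ K := mem_centralizer_singleton_iff.2 heq
  have hconj : (⟨e, heK⟩ : K) * xK * (⟨e, heK⟩ : K)⁻¹ ∈ Cfsg.fittingSubgroup K :=
    Coprime.fitting_normal.conj_mem _ hxF _
  have hc := (M.free_cent hx (congrArg Subtype.val (hF _ hconj) :).symm).2.2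
  have hex := inverted_norm M.zz hez (M.grpA_odd heA) hx.1.2.2 hc
  obtain ⟨b, g, hg⟩ := M.A_real heA hez he1
  exact M.order_972 hg hex.symm hx1 hx.1.2.1 h3

/-- No remaining element centralizes an element of order three. -/
theorem free_prime_three {x : G} (hx : IsFree z ψ x) : ¬ 3 ∣ Nat.card (centralizer ({x} : Set G)) := by
  intro h
  haveI : Fact (Nat.Prime 3) := ⟨Nat.prime_three⟩
  obtain ⟨q, hq⟩ := exists_prime_orderOf_dvd_card' 3 h
  have hqo : orderOf (q : G) = 3 := by rw [Subgroup.orderOf_coe]; exact hq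
  have hqx : (q : G) * x = x * q := mem_centralizer_singleton_iff.1 q.2
  have hq3 : (q : G) ^ 3 = 1 := hqo ▸ pow_orderOf_eq_one _
  have hq1 : (q : G) ≠ 1 := fun e => by rw [e, orderOf_one] at hqo; norm_num at hqo
  obtain ⟨hqodd, -, hqz⟩ := M.free_cent hx hqx
  have hqT : IsThree z ψ (q : G) := by
    by_contra hn
    exact M.free_not_three ⟨⟨hq1, hqodd, hqz⟩, hn⟩ 1 (by rw [pow_one]; exact hq3)
  obtain ⟨k, hk, -, hO⟩ := M.three_conj hqT
  obtain ⟨n, m, hm3, hnm⟩ := Nat.exists_eq_pow_mul_and_not_dvd (orderOf_pos x).ne' 3 (by norm_num)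
  set x1 := x ^ 3 ^ n with hx1
  have ho : orderOf x1 = m := by
    rw [hx1, orderOf_pow, hnm, Nat.gcd_eq_right (Dvd.intro m rfl), Nat.mul_div_cancel_left _ (by positivity)]
  obtain ⟨h1odd, -, h1z⟩ := M.free_cent hx (y := x1) ((Commute.self_pow x (3 ^ n)).symm.eq)
  set x2 := ψ k * x1 * (ψ k)⁻¹ with hx2
  have hI : IsInv z x2 := M.isInv_conj (M.comm_z hk) ⟨M.free_not_three hx n, h1odd, h1z⟩
  have ho2 : orderOf x2 = m := by rw [hx2, ← MulAut.conj_apply, MulEquiv.orderOf_eq, ho]
  refine M.three_core (M.free_of_pow hI fun e => hI.1 (orderOf_eq_one_iff.1 ?_)) (by rwa [ho2]) ?_ hO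
    (by rw [conj_pow, hq3]; group) (fun e => hq1 (conj_eq_one_iff.1 e))
  · refine Nat.eq_one_of_dvd_coprimes ?_ dvd_rfl (orderOf_dvd_of_pow_eq_one e)
    rw [ho2, show (243 : ℕ) = 3 ^ 5 by norm_num]
    exact Nat.Coprime.pow_right 5 ((Nat.prime_three.coprime_iff_not_dvd.2 hm3).symm)
  · have hc : Commute (q : G) x1 := (show Commute (q : G) x from hqx).pow_right _
    rw [hx2, show ψ k * (q : G) * (ψ k)⁻¹ * (ψ k * x1 * (ψ k)⁻¹) = ψ k * ((q : G) * x1) * (ψ k)⁻¹ by group, hc.eq]
    group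

/-- The centralizers meet trivially. -/
theorem free_cent_eq {x y : G} (hx : IsFree z ψ x) (hy : y * x = x * y) (hy1 : y ≠ 1) :
    IsFree z ψ y ∧ centralizer ({y} : Set G) = centralizer ({x} : Set G) := by
  obtain ⟨ho, -, hyz⟩ := M.free_cent hx hy
  have hfy : IsFree z ψ y := M.free_of_pow ⟨hy1, ho, hyz⟩ fun e => by
    refine hy1 (orderOf_eq_one_iff.1 (Nat.eq_one_of_dvd_coprimes ?_ dvd_rfl (orderOf_dvd_of_pow_eq_one e)))
    rw [show (243 : ℕ) = 3 ^ 5 by norm_num]
    refine Nat.Coprime.pow_right 5 (Nat.Coprime.symm ((Nat.prime_three.coprime_iff_not_dvd).2 fun h => ?_))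
    exact M.free_prime_three hx (h.trans (Subgroup.orderOf_dvd_natCard _ (mem_centralizer_singleton_iff.2 hy)))
  refine ⟨hfy, ?_⟩
  ext g
  simp only [mem_centralizer_singleton_iff]
  exact ⟨fun hg => M.free_comm hfy hg hy.symm, fun hg => M.free_comm hx hg hy⟩

end Model

end

end CfsgLib.Spor.UFourType
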