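import Cfsg.Prelude.Def_SporadicB
import Cfsg.Agent.Lib.Spor.UFourType.Sl
import Cfsg.Agent.Lib.Spor.LargeExtraConjCentre
import Cfsg.Agent.Lib.Spor.AffineExtraspecial
import Cfsg.Agent.Lib.PGroup.SymplecticPairs
import Cfsg.Agent.Lib.Coprime.Component
import Cfsg.Agent.Lib.Coprime.Core

/-!
# Groups of `U₄(3)` type: the hypotheses and coordinates on the product of the two linear groups
-/

set_option autoImplicit false
set_option linter.unusedSectionVars false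

namespace CfsgLib.Spor.UFourType

open Subgroup
open scoped commutatorElement

noncomputable section

variable {G : Type*} [Group G]

/-- The hypotheses. -/
structure Hyp (z : G) (Q H₁ H₂ : Subgroup G) : Prop where
  ord : orderOf z = 2
  le₁ : H₁ ≤ centralizer ({z} : Set G)
  le₂ : H₂ ≤ centralizer ({z} : Set G)
  iso₁ : Nonempty (H₁ ≃* Sl)
  iso₂ : Nonempty (H₂ ≃* Sl)
  comm : ∀ a ∈ H₁, ∀ b ∈ H₂, a * b = b * a
  meet : H₁ ⊓ H₂ = zpowers z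
  odd_mem : ∀ c ∈ centralizer ({z} : Set G), Odd (orderOf c) → c ∈ H₁ ⊔ H₂
  normal : ∀ c ∈ centralizer ({z} : Set G), ∀ k ∈ H₁ ⊔ H₂, c * k * c⁻¹ ∈ H₁ ⊔ H₂
  memQ : ∀ g : G, g ∈ Q ↔ g ∈ H₁ ⊔ H₂ ∧ g ^ 4 = 1
  self : ∀ c ∈ centralizer ({z} : Set G), (∀ q ∈ Q, c * q = q * c) → c ∈ Q
  card : Nat.card (centralizer ({z} : Set G)) = 1152
  nwc : ∃ g : G, g * z * g⁻¹ ∈ Q ∧ g * z * g⁻¹ ≠ z
  inter : ∀ g : G, g * z * g⁻¹ ∈ Q → g * z * g⁻¹ ≠ z →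
    Nat.card (Q ⊓ Q.map (MulAut.conj g).toMonoidHom : Subgroup G) = 4

/-- Coordinates on the two groups. -/
structure Coord (z : G) (Q H₁ H₂ : Subgroup G) (f₁ f₂ : Sl →* G) : Prop where
  hyp : Hyp z Q H₁ H₂
  inj₁ : Function.Injective f₁
  inj₂ : Function.Injective f₂
  range₁ : f₁.range = H₁
  range₂ : f₂.range = H₂

theorem sl_unique_invol : ∀ s : Sl, s * s = 1 → s = 1 ∨ s = -1 := by decide +kernel

theorem exists_coord {z : G} {Q H₁ H₂ : Subgroup G} (h : Hyp z Q H₁ H₂) :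
    ∃ f₁ f₂ : Sl →* G, Coord z Q H₁ H₂ f₁ f₂ := by
  obtain ⟨e₁⟩ := h.iso₁
  obtain ⟨e₂⟩ := h.iso₂
  refine ⟨H₁.subtype.comp e₁.symm.toMonoidHom, H₂.subtype.comp e₂.symm.toMonoidHom, h,
    H₁.subtype_injective.comp e₁.symm.injective, H₂.subtype_injective.comp e₂.symm.injective, ?_, ?_⟩
  · rw [MonoidHom.range_comp, MonoidHom.range_eq_top.2 e₁.symm.surjective, ← MonoidHom.range_eq_map,
      Subgroup.range_subtype]
  · rw [MonoidHom.range_comp, MonoidHom.range_eq_top.2 e₂.symm.surjective, ← MonoidHom.range_eq_map,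
      Subgroup.range_subtype]

/-- The product of two elements, by numbers. -/
def pk (f₁ f₂ : Sl →* G) (a b : ℕ) : G := f₁ (sl a) * f₂ (sl b)

namespace Coord

variable {z : G} {Q H₁ H₂ : Subgroup G} {f₁ f₂ : Sl →* G} (S : Coord z Q H₁ H₂ f₁ f₂)
include S

theorem zz : z * z = 1 := by rw [← pow_two, ← S.hyp.ord, pow_orderOf_eq_one]

theorem z_ne : z ≠ 1 := fun e => by
  have h := S.hyp.ord
  rw [e, orderOf_one] at h
  omega

theorem mem₁ (a : Sl) : f₁ a ∈ H₁ := S.range₁ ▸ ⟨a, rfl⟩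

theorem mem₂ (b : Sl) : f₂ b ∈ H₂ := S.range₂ ▸ ⟨b, rfl⟩

theorem comm (a b : Sl) : f₁ a * f₂ b = f₂ b * f₁ a := S.hyp.comm _ (S.mem₁ a) _ (S.mem₂ b)

theorem neg₁ : f₁ (-1) = z := by
  obtain ⟨s, hs⟩ : z ∈ f₁.range := by
    rw [S.range₁]
    exact (inf_le_left : H₁ ⊓ H₂ ≤ H₁) (by rw [S.hyp.meet]; exact mem_zpowers z)
  rcases sl_unique_invol s (S.inj₁ (by rw [map_mul, hs, S.zz, map_one])) with rfl | rfl
  · exact absurd (hs.symm.trans (map_one _)) S.z_ne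
  · exact hs

theorem neg₂ : f₂ (-1) = z := by
  obtain ⟨s, hs⟩ : z ∈ f₂.range := by
    rw [S.range₂]
    exact (inf_le_right : H₁ ⊓ H₂ ≤ H₂) (by rw [S.hyp.meet]; exact mem_zpowers z)
  rcases sl_unique_invol s (S.inj₂ (by rw [map_mul, hs, S.zz, map_one])) with rfl | rfl
  · exact absurd (hs.symm.trans (map_one _)) S.z_ne
  · exact hs

theorem meet_eq {a b : Sl} (h : f₁ a = f₂ b) : (a = 1 ∧ b = 1) ∨ (a = -1 ∧ b = -1) := by
  have hm : f₁ a ∈ H₁ ⊓ H₂ := ⟨S.mem₁ a, h ▸ S.mem₂ b⟩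
  rw [S.hyp.meet, mem_zpowers_iff] at hm
  obtain ⟨k, hk⟩ := hm
  rcases Int.even_or_odd k with ⟨m, rfl⟩ | ⟨m, rfl⟩
  · have e : f₁ a = 1 := by
      rw [← hk, ← two_mul, zpow_mul]
      simp [pow_two, S.zz]
    exact Or.inl ⟨S.inj₁ (e.trans (map_one _).symm), S.inj₂ (h.symm.trans (e.trans (map_one _).symm))⟩
  · have e : f₁ a = z := by
      rw [← hk, zpow_add, zpow_one, zpow_mul]
      simp [pow_two, S.zz]
    exact Or.inr ⟨S.inj₁ (e.trans S.neg₁.symm), S.inj₂ (h.symm.trans (e.trans S.neg₂.symm))⟩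

theorem pk_mul {a b c d : ℕ} (ha : a < 24) (hb : b < 24) (hc : c < 24) (hd : d < 24) :
    pk f₁ f₂ a b * pk f₁ f₂ c d = pk f₁ f₂ (sMul a c) (sMul b d) := by
  rw [pk, pk, pk, sl_mul a ha c hc, sl_mul b hb d hd, map_mul, map_mul]
  calc f₁ (sl a) * f₂ (sl b) * (f₁ (sl c) * f₂ (sl d))
      = f₁ (sl a) * (f₂ (sl b) * f₁ (sl c)) * f₂ (sl d) := by group
    _ = f₁ (sl a) * (f₁ (sl c) * f₂ (sl b)) * f₂ (sl d) := by rw [S.comm]
    _ = _ := by group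

theorem pk_zero : pk f₁ f₂ 0 0 = 1 := by rw [pk, sl_zero, map_one, map_one, mul_one]

theorem pk_z : pk f₁ f₂ 12 0 = z := by rw [pk, sl_zero, sl_twelve, S.neg₁, map_one, mul_one]

theorem pk_eq_one {a b : ℕ} (ha : a < 24) (hb : b < 24) (h : pk f₁ f₂ a b = 1) :
    (a = 0 ∧ b = 0) ∨ (a = 12 ∧ b = 12) := by
  have h' : f₁ (sl a) = f₂ (sl b)⁻¹ := by rw [map_inv]; exact eq_inv_of_mul_eq_one_left h
  rcases S.meet_eq h' with ⟨e₁, e₂⟩ | ⟨e₁, e₂⟩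
  · exact Or.inl ⟨sl_injective a ha 0 (by norm_num) (e₁.trans sl_zero.symm),
      sl_injective b hb 0 (by norm_num) (by rw [sl_zero]; exact inv_eq_one.1 e₂)⟩
  · refine Or.inr ⟨sl_injective a ha 12 (by norm_num) (e₁.trans sl_twelve.symm),
      sl_injective b hb 12 (by norm_num) ?_⟩
    rw [sl_twelve, ← inv_inv (sl b), e₂]
    decide +kernel

theorem pk_inv {a b : ℕ} (ha : a < 24) (hb : b < 24) : (pk f₁ f₂ a b)⁻¹ = pk f₁ f₂ (sInv a) (sInv b) := by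
  refine inv_eq_of_mul_eq_one_right ?_
  rw [S.pk_mul ha hb (sInv_spec a ha).1 (sInv_spec b hb).1, (sInv_spec a ha).2.2, (sInv_spec b hb).2.2, S.pk_zero]

theorem pk_eq {a b c d : ℕ} (ha : a < 24) (hb : b < 24) (hc : c < 24) (hd : d < 24)
    (h : pk f₁ f₂ a b = pk f₁ f₂ c d) : (a = c ∧ b = d) ∨ (a = sNeg c ∧ b = sNeg d) := by
  have h1 : pk f₁ f₂ (sMul (sInv c) a) (sMul (sInv d) b) = 1 := by
    rw [← S.pk_mul (sInv_spec c hc).1 (sInv_spec d hd).1 ha hb, h, ← S.pk_inv hc hd, inv_mul_cancel]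
  have key : ∀ x < 24, ∀ y < 24, (sMul (sInv x) y = 0 → y = x) ∧ (sMul (sInv x) y = 12 → y = sNeg x) := by
    decide +kernel
  rcases S.pk_eq_one (sMul_lt _ (sInv_spec c hc).1 _ ha) (sMul_lt _ (sInv_spec d hd).1 _ hb) h1 with
    ⟨e₁, e₂⟩ | ⟨e₁, e₂⟩
  · exact Or.inl ⟨(key c hc a ha).1 e₁, (key d hd b hb).1 e₂⟩
  · exact Or.inr ⟨(key c hc a ha).2 e₁, (key d hd b hb).2 e₂⟩

theorem pk_neg {a b : ℕ} (ha : a < 24) (hb : b < 24) : pk f₁ f₂ (sNeg a) (sNeg b) = pk f₁ f₂ a b := by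
  have e : ∀ x < 24, sMul x 12 = sNeg x := by decide +kernel
  rw [← e a ha, ← e b hb, ← S.pk_mul ha hb (by norm_num) (by norm_num), pk, pk, sl_twelve, S.neg₁, S.neg₂,
    S.zz, mul_one]

theorem K_eq : ∀ k ∈ H₁ ⊔ H₂, ∃ a < 24, ∃ b < 24, k = pk f₁ f₂ a b := by
  intro k hk
  let K : Subgroup G :=
    { carrier := {k | ∃ a < 24, ∃ b < 24, k = pk f₁ f₂ a b}
      one_mem' := ⟨0, by norm_num, 0, by norm_num, S.pk_zero.symm⟩
      mul_mem' := by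
        rintro _ _ ⟨a, ha, b, hb, rfl⟩ ⟨c, hc, d, hd, rfl⟩
        exact ⟨_, sMul_lt a ha c hc, _, sMul_lt b hb d hd, S.pk_mul ha hb hc hd⟩
      inv_mem' := by
        rintro _ ⟨a, ha, b, hb, rfl⟩
        exact ⟨_, (sInv_spec a ha).1, _, (sInv_spec b hb).1, S.pk_inv ha hb⟩ }
  have h₁ : H₁ ≤ K := fun x hx => by
    rw [← S.range₁] at hx
    obtain ⟨s, rfl⟩ := hx
    exact ⟨num s, (num s).isLt, 0, by norm_num, by rw [pk, sl_num, sl_zero, map_one, mul_one]⟩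
  have h₂ : H₂ ≤ K := fun x hx => by
    rw [← S.range₂] at hx
    obtain ⟨s, rfl⟩ := hx
    exact ⟨0, by norm_num, num s, (num s).isLt, by rw [pk, sl_num, sl_zero, map_one, one_mul]⟩
  exact sup_le h₁ h₂ hk

theorem pk_mem_K (a b : ℕ) : pk f₁ f₂ a b ∈ H₁ ⊔ H₂ :=
  mul_mem (mem_sup_left (S.mem₁ _)) (mem_sup_right (S.mem₂ _))

theorem K_le : H₁ ⊔ H₂ ≤ centralizer ({z} : Set G) := sup_le S.hyp.le₁ S.hyp.le₂

/-- Whether a number is in the quaternion group. -/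
theorem pk_memQ {a b : ℕ} (ha : a < 24) (hb : b < 24) : pk f₁ f₂ a b ∈ Q ↔
    (sMul a a = 0 ∨ sMul a a = 12) ∧ (sMul b b = 0 ∨ sMul b b = 12) := by
  rw [S.hyp.memQ, and_iff_right (S.pk_mem_K a b)]
  have e : pk f₁ f₂ a b ^ 4 = pk f₁ f₂ (sMul (sMul a a) (sMul a a)) (sMul (sMul b b) (sMul b b)) := by
    rw [← S.pk_mul (sMul_lt a ha a ha) (sMul_lt b hb b hb) (sMul_lt a ha a ha) (sMul_lt b hb b hb),
      ← S.pk_mul ha hb ha hb, pow_succ, pow_succ, pow_succ, pow_one, mul_assoc]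
  rw [e]
  have hs := sMul_lt _ (sMul_lt a ha a ha) _ (sMul_lt a ha a ha)
  have ht := sMul_lt _ (sMul_lt b hb b hb) _ (sMul_lt b hb b hb)
  have key : ∀ x < 24, (sMul (sMul x x) (sMul x x) = 0 ↔ (sMul x x = 0 ∨ sMul x x = 12)) ∧
      sMul (sMul x x) (sMul x x) ≠ 12 := by decide +kernel
  constructor
  · intro h
    rcases S.pk_eq_one hs ht h with ⟨h₁, h₂⟩ | ⟨h₁, -⟩
    · exact ⟨(key a ha).1.1 h₁, (key b hb).1.1 h₂⟩
    · exact absurd h₁ (key a ha).2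
  · rintro ⟨h₁, h₂⟩
    rw [(key a ha).1.2 h₁, (key b hb).1.2 h₂, S.pk_zero]

theorem Q_le : Q ≤ H₁ ⊔ H₂ := fun q hq => ((S.hyp.memQ q).1 hq).1

theorem Q_eq {q : G} (hq : q ∈ Q) : ∃ a < 24, ∃ b < 24,
    ((sMul a a = 0 ∨ sMul a a = 12) ∧ (sMul b b = 0 ∨ sMul b b = 12)) ∧ q = pk f₁ f₂ a b := by
  obtain ⟨a, ha, b, hb, rfl⟩ := S.K_eq q (S.Q_le hq)
  exact ⟨a, ha, b, hb, (S.pk_memQ ha hb).1 hq, rfl⟩

/-- The centralizer of the extraspecial group. -/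
theorem cent_Q {c : G} (hc : c ∈ centralizer ({z} : Set G)) (h : ∀ q ∈ Q, c * q = q * c) : c = 1 ∨ c = z := by
  obtain ⟨a, ha, b, hb, -, rfl⟩ := S.Q_eq (S.hyp.self c hc h)
  have cen : ∀ x < 24, (sMul x 1 = sMul 1 x ∧ sMul x 2 = sMul 2 x) → x = 0 ∨ x = 12 := by decide +kernel
  have h' : ∀ i ∈ [1, 2], sMul a i = sMul i a ∧ sMul b i = sMul i b := by
    intro i hi'
    obtain ⟨hi, hiQ⟩ : i < 24 ∧ sMul i i = 12 := by fin_cases hi' <;> exact ⟨by norm_num, by decide +kernel⟩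
    have h0 : sMul 0 0 = 0 ∨ sMul 0 0 = 12 := Or.inl (by decide +kernel)
    have e₁ := h _ ((S.pk_memQ hi (by norm_num)).2 ⟨Or.inr hiQ, h0⟩)
    have e₂ := h _ ((S.pk_memQ (by norm_num) hi).2 ⟨h0, Or.inr hiQ⟩)
    rw [S.pk_mul ha hb hi (by norm_num), S.pk_mul hi (by norm_num) ha hb] at e₁
    rw [S.pk_mul ha hb (by norm_num) hi, S.pk_mul (by norm_num) hi ha hb] at e₂
    have one : ∀ x < 24, sMul x 0 = x ∧ sMul 0 x = x ∧ x ≠ sNeg x := by decide +kernel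
    rw [(one b hb).1, (one b hb).2.1] at e₁
    rw [(one a ha).1, (one a ha).2.1] at e₂
    refine ⟨?_, ?_⟩
    · rcases S.pk_eq (sMul_lt a ha i hi) hb (sMul_lt i hi a ha) hb e₁ with ⟨e, -⟩ | ⟨-, e⟩
      · exact e
      · exact absurd e (one b hb).2.2
    · rcases S.pk_eq ha (sMul_lt b hb i hi) ha (sMul_lt i hi b hb) e₂ with ⟨-, e⟩ | ⟨e, -⟩
      · exact e
      · exact absurd e (one a ha).2.2
  rcases cen a ha ⟨(h' 1 (by simp)).1, (h' 2 (by simp)).1⟩ with rfl | rfl <;>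
    rcases cen b hb ⟨(h' 1 (by simp)).2, (h' 2 (by simp)).2⟩ with rfl | rfl
  · exact Or.inl S.pk_zero
  · right
    rw [pk, sl_zero, sl_twelve, S.neg₂, map_one, one_mul]
  · exact Or.inr S.pk_z
  · left
    rw [pk, sl_twelve, S.neg₁, S.neg₂, S.zz]

theorem cent_K {c : G} (hc : c ∈ centralizer ({z} : Set G))
    (h : ∀ a < 24, ∀ b < 24, c * pk f₁ f₂ a b = pk f₁ f₂ a b * c) : c = 1 ∨ c = z :=
  S.cent_Q hc fun q hq => by
    obtain ⟨a, ha, b, hb, -, rfl⟩ := S.Q_eq hq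
    exact h a ha b hb

end Coord

end

end CfsgLib.Spor.UFourType
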