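import Cfsg.Agent.Lib.Spor.UFourType.Sl

/-!
# The automorphisms of the special linear group of degree two over three elements
-/

set_option autoImplicit false
set_option synthInstance.maxSize 4096

namespace CfsgLib.Spor.UFourType

/-- An automorphism, by numbers: the outer one if asked, then an inner one. -/
def aut (f : Bool) (h a : ℕ) : ℕ := sMul (sMul h (if f then sGam a else a)) (sInv h)

theorem aut_lt : ∀ f : Bool, ∀ h < 24, ∀ a < 24, aut f h a < 24 := by decide +kernel

theorem aut_mul : ∀ f : Bool, ∀ h < 24, ∀ a < 24, ∀ b < 24,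
    aut f h (sMul a b) = sMul (aut f h a) (aut f h b) := by decide +kernel

theorem aut_id : ∀ a < 24, aut false 0 a = a := by decide +kernel

theorem aut_gam : ∀ a < 24, aut true 0 a = sGam a := by decide +kernel

/-- The automorphism as a homomorphism. -/
def autHom (f : Bool) (h : Fin 24) : Sl →* Sl :=
  MonoidHom.mk' (fun s => sl (aut f h (num s))) fun s t => by
    have e : (num (s * t) : ℕ) = sMul (num s) (num t) := by
      refine sl_injective _ (num _).isLt _ (sMul_lt _ (num s).isLt _ (num t).isLt) ?_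
      rw [sl_num, sl_mul _ (num s).isLt _ (num t).isLt, sl_num, sl_num]
    rw [e, aut_mul f h h.isLt _ (num s).isLt _ (num t).isLt,
      sl_mul _ (aut_lt f h h.isLt _ (num s).isLt) _ (aut_lt f h h.isLt _ (num t).isLt)]

theorem autHom_sl (f : Bool) (h : Fin 24) {a : ℕ} (ha : a < 24) : autHom f h (sl a) = sl (aut f h a) := by
  show sl (aut f h (num (sl a))) = _
  have e : num (sl a) = ⟨a, ha⟩ := num_sl ⟨a, ha⟩
  rw [e]

/-- Homomorphisms agreeing on two generators agree. -/
theorem hom_ext {M : Type*} [Group M] {φ ψ : Sl →* M} (h₁ : φ (sl 1) = ψ (sl 1)) (h₄ : φ (sl 4) = ψ (sl 4)) :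
    φ = ψ := by
  have key : ∀ a < 24, ∃ i < 4, ∃ j < 2, ∃ k < 3, sl a = sl 1 ^ i * (sl 4 * sl 1 * (sl 4)⁻¹) ^ j * sl 4 ^ k := by
    decide +kernel
  refine MonoidHom.ext fun s => ?_
  obtain ⟨i, -, j, -, k, -, e⟩ := key (num s) (num s).isLt
  rw [sl_num] at e
  rw [e]
  simp only [map_mul, map_pow, map_inv, h₁, h₄]

theorem aut_classify : ∀ i < 24, ∀ t < 24, sMul i i = 12 → t ≠ 0 → sMul (sMul t t) t = 0 →
    sMul (sMul (sMul i t) (sMul i t)) (sMul i t) = 12 →
      ∃ f : Bool, ∃ h : Fin 24, aut f h 1 = i ∧ aut f h 4 = t := by decide +kernel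

theorem base_facts : sl 1 * sl 1 = -1 ∧ sl 4 * sl 4 * sl 4 = 1 ∧ sl 4 ≠ 1 ∧
    sl 1 * sl 4 * (sl 1 * sl 4) * (sl 1 * sl 4) = -1 := by decide +kernel

/-- Every injective endomorphism is one of them. -/
theorem hom_eq_aut (φ : Sl →* Sl) (hφ : Function.Injective φ) : ∃ (f : Bool) (h : Fin 24), φ = autHom f h := by
  have hneg : φ (-1) = -1 := by
    have h2 : φ (-1) * φ (-1) = 1 := by rw [← map_mul, show ((-1 : Sl) * -1) = 1 from by decide +kernel, map_one]
    refine ((by decide +kernel : ∀ s : Sl, s * s = 1 → s = 1 ∨ s = -1) _ h2).resolve_left fun e => ?_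
    exact absurd (hφ (e.trans φ.map_one.symm)) (by decide +kernel)
  set i := num (φ (sl 1)) with hi
  set t := num (φ (sl 4)) with ht
  have ei : sl i = φ (sl 1) := sl_num _
  have et : sl t = φ (sl 4) := sl_num _
  have hit := sMul_lt i i.isLt t t.isLt
  obtain ⟨f, h, e₁, e₄⟩ := aut_classify i i.isLt t t.isLt
    (sl_injective _ (sMul_lt _ i.isLt _ i.isLt) 12 (by norm_num) (by
      rw [sl_mul _ i.isLt _ i.isLt, ei, ← map_mul, base_facts.1, hneg, sl_twelve]))
    (fun e => base_facts.2.2.1 (hφ (by rw [← et, e, sl_zero, map_one])))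
    (sl_injective _ (sMul_lt _ (sMul_lt _ t.isLt _ t.isLt) _ t.isLt) 0 (by norm_num) (by
      rw [sl_mul _ (sMul_lt _ t.isLt _ t.isLt) _ t.isLt, sl_mul _ t.isLt _ t.isLt, et, ← map_mul, ← map_mul,
        base_facts.2.1, map_one, sl_zero]))
    (sl_injective _ (sMul_lt _ (sMul_lt _ hit _ hit) _ hit) 12 (by norm_num) (by
      rw [sl_mul _ (sMul_lt _ hit _ hit) _ hit, sl_mul _ hit _ hit, sl_mul _ i.isLt _ t.isLt, ei, et, ← map_mul,
        ← map_mul, ← map_mul, base_facts.2.2.2, hneg, sl_twelve]))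
  refine ⟨f, h, hom_ext ?_ ?_⟩
  · rw [autHom_sl f h (by norm_num), e₁, ei]
  · rw [autHom_sl f h (by norm_num), e₄, et]

/-- Composition is inner when both are outer. -/
theorem aut_comp (h h' : Fin 24) : ∃ k : Fin 24, (autHom true h).comp (autHom true h') = autHom false k := by
  have key : ∀ h h' : Fin 24, ∃ k : Fin 24, aut true h (aut true h' 1) = aut false k 1 ∧
      aut true h (aut true h' 4) = aut false k 4 := by decide +kernel
  obtain ⟨k, e₁, e₄⟩ := key h h'
  refine ⟨k, hom_ext ?_ ?_⟩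
  · rw [MonoidHom.comp_apply, autHom_sl _ _ (by norm_num), autHom_sl _ _ (aut_lt _ _ h'.isLt _ (by norm_num)),
      autHom_sl _ _ (by norm_num), e₁]
  · rw [MonoidHom.comp_apply, autHom_sl _ _ (by norm_num), autHom_sl _ _ (aut_lt _ _ h'.isLt _ (by norm_num)),
      autHom_sl _ _ (by norm_num), e₄]

/-- The parity of an automorphism is determined. -/
theorem aut_parity {f f' : Bool} {h h' : Fin 24} (e : autHom f h = autHom f' h') : f = f' := by
  have key : ∀ f f' : Bool, ∀ h h' : Fin 24, aut f h 1 = aut f' h' 1 → aut f h 4 = aut f' h' 4 → f = f' := by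
    decide +kernel
  refine key f f' h h' ?_ ?_
  · refine sl_injective _ (aut_lt _ _ h.isLt _ (by norm_num)) _ (aut_lt _ _ h'.isLt _ (by norm_num)) ?_
    rw [← autHom_sl _ _ (by norm_num), e, autHom_sl _ _ (by norm_num)]
  · refine sl_injective _ (aut_lt _ _ h.isLt _ (by norm_num)) _ (aut_lt _ _ h'.isLt _ (by norm_num)) ?_
    rw [← autHom_sl _ _ (by norm_num), e, autHom_sl _ _ (by norm_num)]

end CfsgLib.Spor.UFourType
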