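import Cfsg.Agent.Lib.Spor.UFourType.Tools

/-!
# One class of involutions in groups of `U₄(3)` type
-/

set_option autoImplicit false
set_option linter.unusedSectionVars false
set_option synthInstance.maxSize 4096

namespace CfsgLib.Spor.UFourType

open Subgroup

noncomputable section

theorem q_moves : ∀ c ∈ qInvList, c = zC ∨ ∃ k < 1152, mC k c = mC uC k := by decide +kernel

theorem out_moves : ∀ c ∈ invList, inQ c = false →
    (cF c = false → ∃ k < 1152, mC k c = mC xC k) ∧ (cF c = true → ∃ k < 1152, mC k c = mC 7 k) := by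
  decide +kernel

theorem out_product : ∀ c ∈ invList, ∀ d ∈ invList, inQ c = false → inQ d = false →
    mC (mC c d) (mC c d) = uC → cF c != cF d := by decide +kernel

/-- The two elements whose conjugates by the exchange lie outside the extraspecial group. -/
def outA : ℕ := code 2 2 false false

/-- The second one. -/
def outB : ℕ := code 3 2 false false

theorem out_facts : outA ∈ qInvList ∧ outB ∈ qInvList ∧ outA ≠ zC ∧ outB ≠ zC ∧
    outA ∉ [0, zC, uC, mC zC uC] ∧ outB ∉ [0, zC, uC, mC zC uC] ∧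
    mC (mC outA outB) (mC outA outB) = zC ∧ mC outA uC = mC uC outA ∧ mC outB uC = mC uC outB := by
  decide +kernel

namespace Model

variable {G : Type*} [Group G] [Finite G] {z : G} {Q : Subgroup G} {ψ : ℕ → G} (M : Model z Q ψ)
include M

theorem u_mem : ψ uC ∈ Q := M.qInv_mem (by decide)

/-- The extraspecial group meets the exchanged one in a four group. -/
theorem four_eq {φ : G} (φz : φ * z * φ⁻¹ = ψ uC) (φu : φ * ψ uC * φ⁻¹ = z) {c : ℕ} (hc : c < 1152)
    (h : ψ c ∈ Q) (h' : φ * ψ c * φ⁻¹ ∈ Q) : c ∈ [0, zC, uC, mC zC uC] := by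
  classical
  by_contra hcon
  have hne : φ * z * φ⁻¹ ≠ z := by
    rw [φz, Ne, M.eq_z_iff (by norm_num)]
    decide
  let T : Finset ℕ := {c, 0, zC, uC, mC zC uC}
  have hlt : ∀ t ∈ T, t < 1152 := by
    intro t ht
    simp only [T, Finset.mem_insert, Finset.mem_singleton] at ht
    rcases ht with rfl | rfl | rfl | rfl | rfl
    · exact hc
    all_goals decide +kernel
  have hT : ∀ t ∈ T, φ * ψ t * φ⁻¹ ∈ Q ⊓ Q.map (MulAut.conj φ).toMonoidHom := by
    intro t ht
    simp only [T, Finset.mem_insert, Finset.mem_singleton] at ht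
    rcases ht with rfl | rfl | rfl | rfl | rfl
    · exact ⟨h', Subgroup.mem_map_of_mem _ h⟩
    · simp [M.one, one_mem]
    · rw [M.at_z]; exact ⟨φz ▸ M.u_mem, Subgroup.mem_map_of_mem _ M.z_mem⟩
    · exact ⟨φu ▸ M.z_mem, Subgroup.mem_map_of_mem _ M.u_mem⟩
    · rw [← M.mul zC (by norm_num) uC (by norm_num), M.at_z]
      refine ⟨?_, Subgroup.mem_map_of_mem _ (mul_mem M.z_mem M.u_mem)⟩
      rw [show φ * (z * ψ uC) * φ⁻¹ = φ * z * φ⁻¹ * (φ * ψ uC * φ⁻¹) by group, φz, φu]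
      exact mul_mem M.u_mem M.z_mem
  have hcard : T.card = 5 := by
    have h4 : ({0, zC, uC, mC zC uC} : Finset ℕ).card = 4 := by decide +kernel
    rw [Finset.card_insert_of_notMem (fun hm => hcon ?_), h4]
    simpa [T] using hm
  have hle : T.card ≤ Nat.card (Q ⊓ Q.map (MulAut.conj φ).toMonoidHom : Subgroup G) := by
    rw [← Nat.card_eq_finsetCard]
    refine Nat.card_le_card_of_injective (fun t : T => (⟨_, hT t t.2⟩ :
      (Q ⊓ Q.map (MulAut.conj φ).toMonoidHom : Subgroup G))) fun s t e => Subtype.ext ?_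
    exact M.inj _ (hlt s s.2) _ (hlt t t.2) (mul_left_cancel (mul_right_cancel (congrArg Subtype.val e)))
  rw [M.inter φ (φz ▸ M.u_mem) hne] at hle
  omega

theorem isConj_u : IsConj z (ψ uC) := by
  obtain ⟨φ, φz, -⟩ := M.exchange
  exact isConj_iff.2 ⟨φ, φz⟩

theorem isConj_q {c : ℕ} (hc : c ∈ qInvList) : IsConj z (ψ c) := by
  rcases q_moves c hc with rfl | ⟨k, hk, e⟩
  · rw [M.at_z]
  · exact M.isConj_u.trans (isConj_iff.2 ⟨ψ k, M.conj_eq hk (list_lt.2.2 c hc) (by norm_num) e⟩).symm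

theorem out_conj {φ : G} (φz : φ * z * φ⁻¹ = ψ uC) (φu : φ * ψ uC * φ⁻¹ = z) {c : ℕ} (hc : c ∈ qInvList)
    (hn : c ∉ [0, zC, uC, mC zC uC]) (hu : mC c uC = mC uC c) :
    ∃ d ∈ invList, φ * ψ c * φ⁻¹ = ψ d ∧ inQ d = false ∧ IsConj z (ψ d) := by
  have l := list_lt.2.2 c hc
  have hC : φ * ψ c * φ⁻¹ ∈ centralizer ({z} : Set G) := by
    refine mem_centralizer_singleton_iff.2 ?_
    rw [← φu]
    simp only [mul_assoc, inv_mul_cancel_left]
    rw [← mul_assoc (ψ c), (M.comm_iff l (by norm_num)).2 hu, mul_assoc]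
  have hq : ∀ e ∈ qInvList, e ∈ invList := by decide +kernel
  obtain ⟨hs, h1⟩ := M.invol (hq c hc)
  obtain ⟨d, hd, e⟩ := M.inv_code hC
    (by rw [show φ * ψ c * φ⁻¹ * (φ * ψ c * φ⁻¹) = φ * (ψ c * ψ c) * φ⁻¹ by group, hs]; group)
    (fun he => h1 (conj_eq_one_iff.1 he))
  refine ⟨d, hd, e.symm, ?_, (M.isConj_q hc).trans (isConj_iff.2 ⟨φ, e.symm⟩)⟩
  by_contra hin
  exact hn (M.four_eq φz φu l (M.qInv_mem hc) (e ▸ (M.memQ d (list_lt.1 d hd)).2 (by simpa using hin)))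

theorem isConj_code {c : ℕ} (hc : c ∈ invList) : IsConj z (ψ c) := by
  have lc := list_lt.1 c hc
  cases hin : inQ c
  · obtain ⟨φ, φz, φu⟩ := M.exchange
    obtain ⟨hA, hB, -, -, nA, nB, hsq, uA, uB⟩ := out_facts
    obtain ⟨a, ha, ea, qa, ca⟩ := M.out_conj φz φu hA nA uA
    obtain ⟨b, hb, eb, qb, cb⟩ := M.out_conj φz φu hB nB uB
    have la := list_lt.1 a ha
    have lb := list_lt.1 b hb
    have lA := list_lt.2.2 _ hA
    have lB := list_lt.2.2 _ hB
    have hne := out_product a ha b hb qa qb (M.inj _ (mC_lt (mC_lt la lb) (mC_lt la lb)) _ (by norm_num) (by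
      rw [← M.mul _ (mC_lt la lb) _ (mC_lt la lb), ← M.mul a la b lb, ← ea, ← eb,
        show φ * ψ outA * φ⁻¹ * (φ * ψ outB * φ⁻¹) * (φ * ψ outA * φ⁻¹ * (φ * ψ outB * φ⁻¹)) =
          φ * (ψ outA * ψ outB * (ψ outA * ψ outB)) * φ⁻¹ by group,
        M.mul _ lA _ lB, M.mul _ (mC_lt lA lB) _ (mC_lt lA lB), hsq, M.at_z, φz]))
    obtain ⟨d, hd, qd, cd, ed⟩ : ∃ d ∈ invList, inQ d = false ∧ IsConj z (ψ d) ∧ cF d = cF c := by
      revert hne
      cases hfa : cF a <;> cases hfb : cF b <;> cases hfc : cF c <;> intro hne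
      all_goals first
        | exact absurd hne (by decide)
        | exact ⟨a, ha, qa, ca, hfa⟩
        | exact ⟨b, hb, qb, cb, hfb⟩
    have ld := list_lt.1 d hd
    cases hf : cF c
    · obtain ⟨k, hk, e⟩ := (out_moves c hc hin).1 hf
      obtain ⟨k', hk', e'⟩ := (out_moves d hd qd).1 (ed.trans hf)
      exact (cd.trans (isConj_iff.2 ⟨_, M.conj_eq hk' ld (by norm_num) e'⟩)).trans
        (isConj_iff.2 ⟨_, M.conj_eq hk lc (by norm_num) e⟩).symm
    · obtain ⟨k, hk, e⟩ := (out_moves c hc hin).2 hf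
      obtain ⟨k', hk', e'⟩ := (out_moves d hd qd).2 (ed.trans hf)
      exact (cd.trans (isConj_iff.2 ⟨_, M.conj_eq hk' ld (by norm_num) e'⟩)).trans
        (isConj_iff.2 ⟨_, M.conj_eq hk lc (by norm_num) e⟩).symm
  · exact M.isConj_q ((qInvList_iff c hc).1 hin)

/-- Every involution is conjugate into the centralizer. -/
theorem conj_into {x : G} (hx : x * x = 1) (hx1 : x ≠ 1) : ∃ g : G, g * x * g⁻¹ ∈ centralizer ({z} : Set G) := by
  haveI : Fact (Nat.Prime 2) := ⟨Nat.prime_two⟩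
  obtain ⟨P, hP⟩ := M.Q_two.exists_le_sylow
  have hx2 : IsPGroup 2 (zpowers x) := IsPGroup.of_card (n := 1) (by
    rw [Nat.card_zpowers, pow_one, orderOf_eq_prime (by rw [pow_two, hx]) hx1])
  obtain ⟨P', hP'⟩ := hx2.exists_le_sylow
  obtain ⟨g, hg⟩ := MulAction.exists_smul_eq G P' P
  refine ⟨g, ?_⟩
  have hgx : g * x * g⁻¹ ∈ (P : Subgroup G) := by
    rw [← hg, Sylow.coe_subgroup_smul]
    exact ⟨x, hP' (mem_zpowers x), rfl⟩
  haveI : Nontrivial ↥(P : Subgroup G) :=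
    ⟨⟨⟨z, hP M.z_mem⟩, 1, fun e => M.z_ne (congrArg Subtype.val e)⟩⟩
  haveI := (P.isPGroup').center_nontrivial
  obtain ⟨⟨c, hc⟩, hc1⟩ := exists_ne (1 : center ↥(P : Subgroup G))
  have hcq : ∀ q ∈ Q, (c : G) * q = q * c := fun q hq =>
    (congrArg Subtype.val (mem_center_iff.1 hc ⟨q, hP hq⟩)).symm
  rcases M.self (mem_centralizer_singleton_iff.2 (hcq z M.z_mem)) (fun d hd => hcq _ (M.qInv_mem hd)) with e | e
  · exact absurd (Subtype.ext (Subtype.ext e)) hc1
  · rw [mem_centralizer_singleton_iff, ← e]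
    exact congrArg Subtype.val (mem_center_iff.1 hc ⟨_, hgx⟩)

/-- All involutions are conjugate. -/
theorem isConj_invol {x : G} (hx : x * x = 1) (hx1 : x ≠ 1) : IsConj z x := by
  obtain ⟨g, hg⟩ := M.conj_into hx hx1
  obtain ⟨c, hc, e⟩ := M.inv_code hg
    (by rw [show g * x * g⁻¹ * (g * x * g⁻¹) = g * (x * x) * g⁻¹ by group, hx]; group)
    (fun he => hx1 (conj_eq_one_iff.1 he))
  exact (M.isConj_code hc).trans (isConj_iff.2 ⟨g, e.symm⟩).symm

theorem exists_conj {x : G} (hx : x * x = 1) (hx1 : x ≠ 1) : ∃ g : G, g * x * g⁻¹ = z :=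
  isConj_iff.1 (M.isConj_invol hx hx1).symm

/-- Lying in the extraspecial group is symmetric. -/
theorem type_iff {g : G} (hne : g * z * g⁻¹ ≠ z) : g⁻¹ * z * g ∈ Q ↔ g * z * g⁻¹ ∈ Q := by
  refine ⟨fun h => ?_, fun h => M.neighbour g h hne⟩
  have h' := M.neighbour g⁻¹ (by rwa [inv_inv]) (fun e => hne ?_)
  · rwa [inv_inv] at h'
  · rw [inv_inv] at e
    calc g * z * g⁻¹ = g * (g⁻¹ * z * g) * g⁻¹ := by rw [e]
      _ = z := by group

end Model

end

end CfsgLib.Spor.UFourType
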