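import Cfsg.Agent.Lib.Spor.UFourType.Four
import Cfsg.Agent.Lib.Invol.CyclicCentralizer

/-!
# The odd part of the centralizer of the Sylow 3-subgroup
-/

set_option autoImplicit false
set_option linter.unusedSectionVars false
set_option synthInstance.maxSize 4096

namespace CfsgLib.Spor.UFourType

open Subgroup

noncomputable section

/-- The product of an element and its conjugate, both ways. -/
theorem split_odd {G : Type*} [Group G] [Finite G] {z a : G} (hz : z * z = 1) (H : Subgroup G)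
    (hodd : ∀ g ∈ H, Odd (orderOf g)) (ha : a ∈ H) (haz : z * a * z ∈ H) :
    ∃ p ∈ H, ∃ d ∈ H, a = p * d ∧ z * p * z = p ∧ z * d * z = d⁻¹ := by
  have hzi : z⁻¹ = z := inv_eq_of_mul_eq_one_right hz
  set e := (z * a * z)⁻¹ * a with he
  have heH : e ∈ H := mul_mem (inv_mem haz) ha
  have hei : z * e * z = e⁻¹ := by
    simp only [he, mul_inv_rev, hzi, inv_inv, mul_assoc]
    rw [← mul_assoc z z, hz, one_mul]
  obtain ⟨k, hk⟩ := hodd e heH
  set d := e ^ (k + 1) with hd
  have hd2 : d * d = e := by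
    rw [hd, ← pow_add, show k + 1 + (k + 1) = (2 * k + 1) + 1 by ring, ← hk, pow_succ, pow_orderOf_eq_one, one_mul]
  have hdi : z * d * z = d⁻¹ := by
    have h : z * e ^ (k + 1) * z⁻¹ = (e⁻¹) ^ (k + 1) := by rw [← conj_pow, hzi, hei]
    rwa [hzi, inv_pow] at h
  refine ⟨a * d⁻¹, mul_mem ha (inv_mem (pow_mem heH _)), d, pow_mem heH _, by group, ?_, hdi⟩
  calc z * (a * d⁻¹) * z = z * a * z * (z * d⁻¹ * z) := by
        rw [show z * a * z * (z * d⁻¹ * z) = z * a * (z * z) * d⁻¹ * z by group, hz]; group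
    _ = z * a * z * d := by
        rw [show z * d⁻¹ * z = d by
          have h := congrArg (·⁻¹) hdi
          simpa [mul_inv_rev, hzi, mul_assoc] using h]
    _ = z * a * z * (d * d) * d⁻¹ := by group
    _ = _ := by rw [hd2, he]; group

theorem comm_P : ∀ c ∈ listP, ∀ d ∈ listP, mC d c = mC c d := by decide +kernel

theorem P_cube : ∀ c ∈ listP, mC (mC c c) c = 0 := by decide +kernel

theorem cent_P_odd : ∀ c < 1152, (∀ d ∈ listP, mC d c = mC c d) → mC (mC c c) c = 0 → c ∈ listP := by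
  decide +kernel

theorem cent_P_card : ((List.range 1152).filter fun c => listP.all fun d => mC d c == mC c d).length = 18 := by
  decide +kernel

namespace Model

variable {G : Type*} [Group G] [Finite G] {z : G} {Q : Subgroup G} {ψ : ℕ → G} (M : Model z Q ψ)
include M

/-- An element of odd order of the centralizer has order dividing three. -/
theorem cube_of_odd {g : G} (hg : g ∈ centralizer ({z} : Set G)) (ho : Odd (orderOf g)) : g ^ 3 = 1 := by
  obtain ⟨c, hc, rfl⟩ := M.surj g hg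
  have key : ∀ c < 1152, mPow c 24 = 0 := by decide +kernel
  have h : orderOf (ψ c) ∈ Nat.divisors 24 :=
    Nat.mem_divisors.2 ⟨orderOf_dvd_of_pow_eq_one (by rw [M.pow hc, key c hc, M.one]), by norm_num⟩
  have key' : ∀ m ∈ Nat.divisors 24, Odd m → m ∣ 3 := by decide +kernel
  exact orderOf_dvd_iff_pow_eq_one.1 (key' _ h ho)

theorem odd_of_cube {g : G} (h : g ^ 3 = 1) : Odd (orderOf g) :=
  (by decide : Odd 3).of_dvd_nat (orderOf_dvd_of_pow_eq_one h)

theorem grpP_cube {g : G} (hg : g ∈ M.grpP) : g ^ 3 = 1 := by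
  obtain ⟨c, hc, rfl⟩ := hg
  have l := lists_lt.2.2 c hc
  rw [pow_succ, pow_two, M.mul c l c l, M.mul _ (mC_lt l l) c l, P_cube c hc, M.one]

theorem grpP_le_cent : M.grpP ≤ centralizer (M.grpP : Set G) := fun x ⟨c, hc, e⟩ => M.mem_cent_grpP.2 fun d hd => by
  rw [← e]
  exact (M.comm_iff (lists_lt.2.2 d hd) (lists_lt.2.2 c hc)).2 (comm_P c hc d hd)

theorem grpP_le_C : M.grpP ≤ centralizer ({z} : Set G) := fun x ⟨c, hc, e⟩ => e ▸ M.mem c (lists_lt.2.2 c hc)

theorem z_cent_P : z ∈ centralizer (M.grpP : Set G) :=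
  M.mem_cent_grpP.2 fun c hc => M.comm_z (lists_lt.2.2 c hc)

theorem fixed_in_P {g : G} (h : g ∈ centralizer (M.grpP : Set G)) (hz : g ∈ centralizer ({z} : Set G))
    (ho : Odd (orderOf g)) : g ∈ M.grpP := by
  have h3 := M.cube_of_odd hz ho
  obtain ⟨c, hc, rfl⟩ := M.surj g hz
  refine ⟨c, cent_P_odd c hc (fun d hd => (M.comm_iff (lists_lt.2.2 d hd) hc).1 (M.mem_cent_grpP.1 h d hd)) ?_, rfl⟩
  rw [pow_succ, pow_two, M.mul c hc c hc, M.mul _ (mC_lt hc hc) c hc] at h3
  exact (M.eq_one_iff (mC_lt (mC_lt hc hc) hc)).1 h3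

theorem card_cent_P_C :
    Nat.card {g : G // g ∈ centralizer ({z} : Set G) ∧ g ∈ centralizer (M.grpP : Set G)} = 18 := by
  rw [← cent_P_card, M.card_pred]
  intro c hc
  simp only [List.all_eq_true, beq_iff_eq]
  rw [M.mem_cent_grpP]
  exact forall₂_congr fun d hd => M.comm_iff (lists_lt.2.2 d hd) hc

/-- The odd part. -/
def grpA : Subgroup G := closure {g | g ∈ centralizer (M.grpP : Set G) ∧ Odd (orderOf g)}

theorem complement : (∀ g : G, g ∈ M.grpA ↔ g ∈ centralizer (M.grpP : Set G) ∧ Odd (orderOf g)) ∧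
    ∀ g ∈ centralizer (M.grpP : Set G), g ∈ M.grpA ∨ g * z ∈ M.grpA := by
  classical
  haveI : Fact (Nat.Prime 2) := ⟨Nat.prime_two⟩
  set X := centralizer (M.grpP : Set G) with hX
  let zx : X := ⟨z, M.z_cent_P⟩
  have hz2 : orderOf zx = 2 := by rw [← Subgroup.orderOf_coe]; exact M.ord
  have heven : 2 ∣ Nat.card X := hz2 ▸ orderOf_dvd_natCard zx
  have h4 : ¬ 4 ∣ Nat.card X := by
    intro h
    obtain ⟨K, hK, hzK⟩ := Sylow.exists_subgroup_card_pow_succ (p := 2) (n := 1) (H := zpowers zx)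
      (by simpa using h) (by rw [Nat.card_zpowers, hz2, pow_one])
    let f : K → {g : G // g ∈ centralizer ({z} : Set G) ∧ g ∈ X} := fun k => ⟨k.1.1,
      mem_centralizer_singleton_iff.2 (congrArg (fun w : K => w.1.1)
        (IsPGroup.commutative_of_card_eq_prime_sq hK k ⟨zx, hzK (mem_zpowers _)⟩)), k.1.2⟩
    let S : Subgroup G := centralizer ({z} : Set G) ⊓ X
    have hle : K.map X.subtype ≤ S := by
      rintro _ ⟨k, hk, rfl⟩
      exact (f ⟨k, hk⟩).2
    have hd := Subgroup.card_dvd_of_le hle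
    have hS : Nat.card S = 18 := M.card_cent_P_C
    rw [Subgroup.card_map_of_injective Subtype.val_injective, hK, hS] at hd
    norm_num at hd
  obtain ⟨T⟩ : Nonempty (Sylow 2 X) := inferInstance
  have hT : IsCyclic (T : Subgroup X) := by
    refine isCyclic_of_prime_card (p := 2) ?_
    rw [T.card_eq_multiplicity]
    have h1 := (Nat.Prime.dvd_iff_one_le_factorization Nat.prime_two Nat.card_pos.ne').1 heven
    have h2 : ¬ 2 ≤ (Nat.card X).factorization 2 := fun h =>
      h4 ((Nat.Prime.pow_dvd_iff_le_factorization Nat.prime_two Nat.card_pos.ne').2 h)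
    rw [show (Nat.card X).factorization 2 = 1 by omega, pow_one]
  obtain ⟨H, hH⟩ := CfsgLib.Invol.exists_index_two_of_cyclic (even_iff_two_dvd.2 heven) T hT
  have hin : ∀ g : X, Odd (orderOf g) → g ∈ H := by
    intro g hg
    obtain ⟨k, hk⟩ := hg
    have e : g = (g * g) ^ (k + 1) := by
      rw [← pow_two, ← pow_mul, show 2 * (k + 1) = (2 * k + 1) + 1 by ring, ← hk, pow_succ, pow_orderOf_eq_one,
        one_mul]
    rw [e]
    exact pow_mem (Subgroup.mul_self_mem_of_index_two hH g) _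
  have hodd : ∀ h ∈ H, Odd (orderOf h) := by
    intro h hh
    rw [← Nat.not_even_iff_odd, even_iff_two_dvd]
    intro hd
    have hdv : orderOf h ∣ Nat.card H := Subgroup.orderOf_dvd_natCard H hh
    have h2 : 2 ∣ Nat.card H := hd.trans hdv
    refine h4 ?_
    rw [← H.card_mul_index, hH]
    exact mul_dvd_mul h2 dvd_rfl
  have hA : ∀ h : X, h ∈ H → (h : G) ∈ M.grpA := fun h hh =>
    subset_closure ⟨h.2, by rw [Subgroup.orderOf_coe]; exact hodd h hh⟩
  refine ⟨fun g => ⟨fun hg => ?_, fun h => subset_closure h⟩, fun g hg => ?_⟩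
  · have hle : M.grpA ≤ H.map X.subtype := by
      rw [grpA, closure_le]
      rintro x ⟨hx, hxo⟩
      exact ⟨⟨x, hx⟩, hin _ (by rw [← Subgroup.orderOf_coe]; exact hxo), rfl⟩
    obtain ⟨h, hh, rfl⟩ := hle hg
    exact ⟨h.2, by
      show Odd (orderOf (h : G))
      rw [Subgroup.orderOf_coe]; exact hodd h hh⟩
  · have hzH : zx ∉ H := fun h => by
      have := hodd zx h
      rw [hz2] at this
      exact absurd this (by decide)
    by_cases hgH : (⟨g, hg⟩ : X) ∈ H
    · exact Or.inl (hA _ hgH)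
    · exact Or.inr (hA (⟨g, hg⟩ * zx) ((Subgroup.mul_mem_iff_of_index_two hH).2 (iff_of_false hgH hzH)))

theorem mem_grpA {g : G} : g ∈ M.grpA ↔ g ∈ centralizer (M.grpP : Set G) ∧ Odd (orderOf g) := M.complement.1 g

theorem grpP_le_grpA : M.grpP ≤ M.grpA := fun g hg =>
  M.mem_grpA.2 ⟨M.grpP_le_cent hg, M.odd_of_cube (M.grpP_cube hg)⟩

theorem grpA_odd {g : G} (hg : g ∈ M.grpA) : Odd (orderOf g) := (M.mem_grpA.1 hg).2

theorem grpA_le_cent : M.grpA ≤ centralizer (M.grpP : Set G) := fun _ hg => (M.mem_grpA.1 hg).1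

theorem grpP_comm_grpA {p a : G} (hp : p ∈ M.grpP) (ha : a ∈ M.grpA) : p * a = a * p :=
  mem_centralizer_iff.1 (M.grpA_le_cent ha) p hp

/-- Elements normalizing the Sylow subgroup normalize its odd part. -/
theorem grpA_conj {g : G} (hg : ∀ p ∈ M.grpP, g⁻¹ * p * g ∈ M.grpP) {a : G} (ha : a ∈ M.grpA) :
    g * a * g⁻¹ ∈ M.grpA := by
  refine M.mem_grpA.2 ⟨mem_centralizer_iff.2 fun p hp => ?_, ?_⟩
  · calc p * (g * a * g⁻¹) = g * (g⁻¹ * p * g * a) * g⁻¹ := by group
      _ = g * (a * (g⁻¹ * p * g)) * g⁻¹ := by rw [M.grpP_comm_grpA (hg p hp) ha]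
      _ = _ := by group
  · rw [← MulAut.conj_apply, MulEquiv.orderOf_eq]
    exact M.grpA_odd ha

theorem grpA_conj_z {a : G} (ha : a ∈ M.grpA) : z * a * z ∈ M.grpA := by
  have h := M.grpA_conj (g := z) (fun p hp => ?_) ha
  · rwa [M.z_inv] at h
  · rw [M.z_inv, mul_assoc, mem_centralizer_singleton_iff.1 (M.grpP_le_C hp), ← mul_assoc, M.zz, one_mul]
    exact hp

/-- An element is a fixed one times an inverted one. -/
theorem split_A {a : G} (ha : a ∈ M.grpA) :
    ∃ p ∈ M.grpP, ∃ d ∈ M.grpA, a = p * d ∧ z * d * z = d⁻¹ := by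
  obtain ⟨p, hp, d, hd, e, hpz, hdz⟩ := split_odd M.zz M.grpA (fun g hg => M.grpA_odd hg) ha (M.grpA_conj_z ha)
  refine ⟨p, M.fixed_in_P (M.grpA_le_cent hp) (mem_centralizer_singleton_iff.2 ?_) (M.grpA_odd hp), d, hd, e, hdz⟩
  calc p * z = z * p * z * z := by rw [hpz]
    _ = z * p := by rw [mul_assoc, M.zz, mul_one]

/-- Inverted elements of the odd part are determined modulo the fixed ones. -/
theorem inverted_unique_A {p d e : G} (hp : p ∈ M.grpP) (hd : d ∈ M.grpA)
    (hdz : z * d * z = d⁻¹) (hez : z * e * z = e⁻¹) (he : e = p * d) : p = 1 ∧ e = d := by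
  have hpz : z * p * z = p := by
    rw [← mem_centralizer_singleton_iff.1 (M.grpP_le_C hp), mul_assoc, M.zz, mul_one]
  have h : p * d⁻¹ = (p * d)⁻¹ := by
    rw [← he, ← hez, he]
    calc p * d⁻¹ = z * p * z * (z * d * z) := by rw [hpz, hdz]
      _ = z * p * (z * z) * d * z := by group
      _ = z * (p * d) * z := by rw [M.zz]; group
  have h' : p * p = 1 := by
    rw [mul_inv_rev, show d⁻¹ * p⁻¹ = p⁻¹ * d⁻¹ by
      rw [← mul_inv_rev, ← mul_inv_rev, M.grpP_comm_grpA hp hd]] at h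
    rw [mul_eq_one_iff_eq_inv]
    exact mul_right_cancel h
  have h1 : p = 1 := by
    have h3 := M.grpP_cube hp
    rw [pow_succ, pow_two, h', one_mul] at h3
    exact h3
  exact ⟨h1, by rw [he, h1, one_mul]⟩

/-- The odd part is larger than the Sylow subgroup. -/
theorem exists_inverted : ∃ d ∈ M.grpA, z * d * z = d⁻¹ ∧ d ≠ 1 := by
  obtain ⟨g, hg, hgC⟩ := M.exists_cent_P
  -- an element of odd order outside the centralizer
  obtain ⟨a, ha, haC⟩ : ∃ a ∈ M.grpA, a ∉ centralizer ({z} : Set G) := by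
    rcases M.complement.2 g hg with h | h
    · exact ⟨g, h, hgC⟩
    · exact ⟨_, h, fun h' => hgC ((mul_mem_cancel_right (mem_centralizer_singleton_iff.2 rfl)).1 h')⟩
  obtain ⟨p, hp, d, hd, e, hdz⟩ := M.split_A ha
  refine ⟨d, hd, hdz, fun h1 => haC ?_⟩
  rw [e, h1, mul_one]
  exact M.grpP_le_C hp

end Model

end

end CfsgLib.Spor.UFourType
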