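import Cfsg.Agent.Lib.Spor.UFourType.Classes
import Cfsg.Agent.Lib.Char.Orthogonality

/-!
# Counting the involutions by the order of their products with the central one
-/

set_option autoImplicit false
set_option linter.unusedSectionVars false
set_option synthInstance.maxSize 4096

namespace CfsgLib.Spor.UFourType

open Subgroup

noncomputable section

/-- The elements of odd order inverted by the involution. -/
def IsInv {G : Type*} [Group G] (z x : G) : Prop := x ≠ 1 ∧ Odd (orderOf x) ∧ z * x * z = x⁻¹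

/-- The involutions having an even product with a given one, of which a power is the centre. -/
def evenPartners (w : ℕ) : List ℕ :=
  invList.filter fun d => mC w d != mC d w && [1, 2, 3, 4, 6, 12].any fun j => mPow (mC w d) j == zC

theorem even_count : ∀ w ∈ invList, w ≠ zC → (evenPartners w).length = if inQ w then 8 else 20 := by
  decide +kernel

theorem even_total : ∑ c ∈ (invList.filter (· != zC)).toFinset, (if inQ c then 8 else 20) = 1104 := by
  decide +kernel

theorem exponent24 : ∀ c < 1152, mPow c 24 = 0 := by decide +kernel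

/-- A power which is an involution is the half power. -/
theorem half_pow {G : Type*} [Group G] [Finite G] {x : G} {j : ℕ} (h2 : x ^ j * x ^ j = 1) (h1 : x ^ j ≠ 1) :
    Even (orderOf x) ∧ x ^ j = x ^ (orderOf x / 2) := by
  have hd : orderOf x ∣ 2 * j := orderOf_dvd_of_pow_eq_one (by rw [two_mul, pow_add, h2])
  have hnd : ¬ orderOf x ∣ j := fun h => h1 (orderOf_dvd_iff_pow_eq_one.1 h)
  have hm := orderOf_pos x
  rcases Nat.even_or_odd (orderOf x) with ⟨k, hk⟩ | ho
  · refine ⟨⟨k, hk⟩, ?_⟩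
    have hkj : k ∣ j := by
      rw [hk, ← two_mul] at hd
      exact Nat.dvd_of_mul_dvd_mul_left (by norm_num) hd
    obtain ⟨i, rfl⟩ := hkj
    rcases Nat.even_or_odd i with ⟨l, rfl⟩ | ⟨l, rfl⟩
    · exact absurd ⟨l, by rw [hk]; ring⟩ hnd
    · rw [show orderOf x / 2 = k by omega, pow_eq_pow_iff_modEq, hk, Nat.modEq_iff_dvd]
      exact ⟨-(l : ℤ), by push_cast; ring⟩
  · exact absurd ((Nat.Coprime.dvd_mul_left (Nat.coprime_two_right.2 ho)).1 hd) hnd

theorem exists_invol_pow {G : Type*} [Group G] [Finite G] {x : G} (h : Even (orderOf x)) :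
    x ^ (orderOf x / 2) * x ^ (orderOf x / 2) = 1 ∧ x ^ (orderOf x / 2) ≠ 1 := by
  obtain ⟨k, hk⟩ := h
  have hm := orderOf_pos x
  have e : orderOf x / 2 = k := by omega
  rw [e]
  refine ⟨by rw [← pow_add, ← hk, pow_orderOf_eq_one], fun he => ?_⟩
  have := Nat.le_of_dvd (by omega) (orderOf_dvd_of_pow_eq_one he)
  omega

namespace Model

variable {G : Type*} [Group G] [Finite G] {z : G} {Q : Subgroup G} {ψ : ℕ → G} (M : Model z Q ψ)
include M

theorem card_group : Nat.card G = 1152 * Nat.card {t : G // t * t = 1 ∧ t ≠ 1} := by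
  have e : Nat.card {t : G // t * t = 1 ∧ t ≠ 1} = Nat.card {t : G // IsConj z t} :=
    Nat.card_congr (Equiv.subtypeEquivRight fun t => ⟨fun h => M.isConj_invol h.1 h.2, fun h => by
      obtain ⟨g, rfl⟩ := isConj_iff.1 h
      refine ⟨?_, fun he => M.z_ne (conj_eq_one_iff.1 he)⟩
      rw [show g * z * g⁻¹ * (g * z * g⁻¹) = g * (z * z) * g⁻¹ by group, M.zz]; group⟩)
  rw [e, CfsgLib.Char.card_isConj, ← M.card, Subgroup.card_mul_index]

theorem conj_pow_inv {t : G} (ht : t * t = 1) (j : ℕ) : t * (z * t) ^ j * t = ((z * t) ^ j)⁻¹ := by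
  have hti : t⁻¹ = t := inv_eq_of_mul_eq_one_right ht
  have : t * (z * t) ^ j * t⁻¹ = ((z * t)⁻¹) ^ j := by
    rw [← conj_pow]
    congr 1
    rw [mul_inv_rev, hti, M.z_inv]
    simp [mul_assoc, ht]
  rwa [hti, inv_pow] at this

/-- The fibre over a commuting involution. -/
theorem card_fibre {c : ℕ} (hc : c ∈ invList) (hz : c ≠ zC) :
    Nat.card {t : G // (t * t = 1 ∧ t ≠ 1) ∧ t * z ≠ z * t ∧ ∃ j, (z * t) ^ j = ψ c} =
      if inQ c then 8 else 20 := by
  have lc := list_lt.1 c hc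
  obtain ⟨hs, h1⟩ := M.invol hc
  obtain ⟨g, hg⟩ : ∃ g, g * z * g⁻¹ = ψ c := isConj_iff.1 (M.isConj_code hc)
  have hne : g * z * g⁻¹ ≠ z := by rw [hg, Ne, M.eq_z_iff lc]; exact hz
  have hwC : g⁻¹ * z * g ∈ centralizer ({z} : Set G) := by
    refine mem_centralizer_singleton_iff.2 ?_
    have h := M.comm_z lc
    rw [← hg] at h
    calc g⁻¹ * z * g * z = g⁻¹ * (z * (g * z * g⁻¹)) * g := by group
      _ = g⁻¹ * (g * z * g⁻¹ * z) * g := by rw [h]
      _ = z * (g⁻¹ * z * g) := by group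
  obtain ⟨w, hw, hwe⟩ := M.inv_code hwC
    (by rw [show g⁻¹ * z * g * (g⁻¹ * z * g) = g⁻¹ * (z * z) * g by group, M.zz]; group)
    (fun e => M.z_ne (by
      calc z = g * (g⁻¹ * z * g) * g⁻¹ := by group
        _ = 1 := by rw [e]; group))
  have lw := list_lt.1 w hw
  have hwz : w ≠ zC := fun e => hne (by
    subst e
    rw [M.at_z] at hwe
    calc g * z * g⁻¹ = g * (g⁻¹ * z * g) * g⁻¹ := by rw [← hwe]
      _ = z := by group)
  have hQ : inQ w = inQ c := by
    rw [Bool.eq_iff_iff, ← M.memQ w lw, ← M.memQ c lc, hwe, ← hg]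
    exact M.type_iff hne
  rw [← hQ, ← even_count w hw hwz, ← M.card_list (L := evenPartners w)
    (fun d hd => list_lt.1 d (List.mem_filter.1 hd).1) (List.Nodup.filter _ lists_nodup.1)]
  refine Nat.card_congr ((MulAut.conj g⁻¹).toEquiv.subtypeEquiv fun t => ?_)
  show _ ↔ ∃ d ∈ evenPartners w, ψ d = g⁻¹ * t * g⁻¹⁻¹
  rw [inv_inv]
  constructor
  · rintro ⟨⟨ht, ht1⟩, hcomm, j, hj⟩
    have hct : t * ψ c = ψ c * t := by
      have h := M.conj_pow_inv ht j
      rw [hj, inv_eq_of_mul_eq_one_right hs] at h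
      calc t * ψ c = t * ψ c * (t * t) := by rw [ht, mul_one]
        _ = t * ψ c * t * t := by group
        _ = ψ c * t := by rw [h]
    obtain ⟨d, hd, hde⟩ := M.inv_code (g := g⁻¹ * t * g) (mem_centralizer_singleton_iff.2 (by
      rw [← hg] at hct
      calc g⁻¹ * t * g * z = g⁻¹ * (t * (g * z * g⁻¹)) * g := by group
        _ = g⁻¹ * (g * z * g⁻¹ * t) * g := by rw [hct]
        _ = z * (g⁻¹ * t * g) := by group))
      (by rw [show g⁻¹ * t * g * (g⁻¹ * t * g) = g⁻¹ * (t * t) * g by group, ht]; group)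
      (fun e => ht1 (by
        calc t = g * (g⁻¹ * t * g) * g⁻¹ := by group
          _ = 1 := by rw [e]; group))
    have ld := list_lt.1 d hd
    have hprod : ψ (mC w d) = g⁻¹ * (z * t) * g := by rw [← M.mul w lw d ld, hwe, hde]; group
    refine ⟨d, List.mem_filter.2 ⟨hd, ?_⟩, hde⟩
    rw [Bool.and_eq_true, bne_iff_ne, List.any_eq_true]
    refine ⟨fun e => hcomm ?_, ?_⟩
    · have h := (M.comm_iff lw ld).2 e
      rw [hwe, hde] at h
      calc t * z = g * (g⁻¹ * t * g * (g⁻¹ * z * g)) * g⁻¹ := by group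
        _ = g * (g⁻¹ * z * g * (g⁻¹ * t * g)) * g⁻¹ := by rw [h]
        _ = z * t := by group
    · have hx : ψ (mC w d) ^ j = z := by
        rw [hprod, show g⁻¹ * (z * t) * g = g⁻¹ * (z * t) * g⁻¹⁻¹ by rw [inv_inv], conj_pow, hj, ← hg]; group
      obtain ⟨he, hh⟩ := half_pow (by rw [hx, M.zz]) (by rw [hx]; exact M.z_ne)
      have lm := mC_lt lw ld
      have h24 : orderOf (ψ (mC w d)) ∣ 24 := orderOf_dvd_of_pow_eq_one (by rw [M.pow lm, exponent24 _ lm, M.one])
      refine ⟨orderOf (ψ (mC w d)) / 2, ?_, ?_⟩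
      · have h2 : orderOf (ψ (mC w d)) ∈ Nat.divisors 24 := Nat.mem_divisors.2 ⟨h24, by norm_num⟩
        have key : ∀ m ∈ Nat.divisors 24, Even m → m / 2 ∈ [1, 2, 3, 4, 6, 12] := by decide +kernel
        exact key _ h2 he
      · rw [beq_iff_eq, ← M.eq_z_iff (mPow_lt lm _), ← M.pow lm, ← hh, hx]
  · rintro ⟨d, hd, hde⟩
    obtain ⟨hd, hp⟩ := List.mem_filter.1 hd
    rw [Bool.and_eq_true, bne_iff_ne, List.any_eq_true] at hp
    obtain ⟨hnc, j, -, hj⟩ := hp
    have ld := list_lt.1 d hd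
    have ht : t = g * ψ d * g⁻¹ := by rw [hde]; group
    obtain ⟨hd2, hd1⟩ := M.invol hd
    subst ht
    refine ⟨⟨?_, fun e => hd1 (conj_eq_one_iff.1 e)⟩, fun e => hnc ((M.comm_iff lw ld).1 ?_), j, ?_⟩
    · rw [show g * ψ d * g⁻¹ * (g * ψ d * g⁻¹) = g * (ψ d * ψ d) * g⁻¹ by group, hd2]; group
    · rw [hwe]
      calc g⁻¹ * z * g * ψ d = g⁻¹ * (z * (g * ψ d * g⁻¹)) * g := by group
        _ = g⁻¹ * (g * ψ d * g⁻¹ * z) * g := by rw [e]
        _ = ψ d * (g⁻¹ * z * g) := by group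
    · rw [beq_iff_eq, ← M.eq_z_iff (mPow_lt (mC_lt lw ld) _), ← M.pow (mC_lt lw ld), ← M.mul w lw d ld, hwe] at hj
      rw [← hg, show z * (g * ψ d * g⁻¹) = g * (g⁻¹ * z * g * ψ d) * g⁻¹ by group, conj_pow, hj]

/-- The number of involutions. -/
theorem card_invol :
    Nat.card {t : G // t * t = 1 ∧ t ≠ 1} = 1171 + Nat.card {x : G // IsInv z x} := by
  classical
  have hsplit : ∀ (p q : G → Prop), Nat.card {t : G // p t} =
      Nat.card {t : G // p t ∧ q t} + Nat.card {t : G // p t ∧ ¬ q t} := fun p q => by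
    rw [← Nat.card_sum]
    refine Nat.card_congr ((Equiv.sumCompl fun t : {t : G // p t} => q t).symm.trans ?_)
    exact Equiv.sumCongr (Equiv.subtypeSubtypeEquivSubtypeInter p q)
      (Equiv.subtypeSubtypeEquivSubtypeInter p fun t => ¬ q t)
  rw [hsplit _ fun t => t * z = z * t, hsplit (fun t => (t * t = 1 ∧ t ≠ 1) ∧ ¬ t * z = z * t) fun t => Even (orderOf (z * t))]
  have h1 : Nat.card {t : G // (t * t = 1 ∧ t ≠ 1) ∧ t * z = z * t} = 67 := by
    rw [show (67 : ℕ) = invList.length from rfl, ← M.card_list list_lt.1 lists_nodup.1]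
    refine Nat.card_congr (Equiv.subtypeEquivRight fun t => ⟨fun ⟨⟨h2, h0⟩, hc⟩ =>
      M.inv_code (mem_centralizer_singleton_iff.2 hc) h2 h0, ?_⟩)
    rintro ⟨c, hc, rfl⟩
    exact ⟨M.invol hc, M.comm_z (list_lt.1 c hc)⟩
  have h2 : Nat.card {t : G // ((t * t = 1 ∧ t ≠ 1) ∧ ¬ t * z = z * t) ∧ Even (orderOf (z * t))} = 1104 := by
    let L := (invList.filter (· != zC)).toFinset
    have hL : ∀ c : L, (c : ℕ) ∈ invList ∧ (c : ℕ) ≠ zC := fun c => by
      obtain ⟨h1, h2⟩ := List.mem_filter.1 (List.mem_toFinset.1 c.2)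
      exact ⟨h1, by simpa using h2⟩
    let S := Σ c : L, {t : G // (t * t = 1 ∧ t ≠ 1) ∧ t * z ≠ z * t ∧ ∃ j, (z * t) ^ j = ψ c}
    have e : Nat.card {t : G // ((t * t = 1 ∧ t ≠ 1) ∧ ¬ t * z = z * t) ∧ Even (orderOf (z * t))} = Nat.card S := by
      refine (Nat.card_eq_of_bijective
        (fun s : S => (⟨s.2.1, ⟨s.2.2.1, s.2.2.2.1⟩, ?_⟩ :
          {t : G // ((t * t = 1 ∧ t ≠ 1) ∧ ¬ t * z = z * t) ∧ Even (orderOf (z * t))})) ⟨?_, ?_⟩).symm
      · obtain ⟨j, hj⟩ := s.2.2.2.2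
        exact (half_pow (by rw [hj]; exact (M.invol (hL s.1).1).1) (by rw [hj]; exact (M.invol (hL s.1).1).2)).1
      · rintro ⟨c, t, ht, htz, j, hj⟩ ⟨c', t', ht', htz', j', hj'⟩ he
        obtain rfl : t = t' := congrArg Subtype.val he
        have a := half_pow (x := z * t) (j := j) (by rw [hj]; exact (M.invol (hL c).1).1)
          (by rw [hj]; exact (M.invol (hL c).1).2)
        have b := half_pow (x := z * t) (j := j') (by rw [hj']; exact (M.invol (hL c').1).1)
          (by rw [hj']; exact (M.invol (hL c').1).2)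
        obtain rfl : c = c' := Subtype.ext (M.inj _ (list_lt.1 _ (hL c).1) _ (list_lt.1 _ (hL c').1)
          (by rw [← hj, ← hj', a.2, b.2]))
        rfl
      · rintro ⟨t, ⟨ht, htz⟩, he⟩
        obtain ⟨hu2, hu1⟩ := exists_invol_pow he
        set j := orderOf (z * t) / 2
        have hzt : t * (z * t) ^ j = (z * t) ^ j * t := by
          have h := M.conj_pow_inv ht.1 j
          rw [inv_eq_of_mul_eq_one_right hu2] at h
          calc t * (z * t) ^ j = t * (z * t) ^ j * (t * t) := by rw [ht.1, mul_one]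
            _ = t * (z * t) ^ j * t * t := by group
            _ = _ := by rw [h]
        have huC : (z * t) ^ j ∈ centralizer ({z} : Set G) := by
          refine mem_centralizer_singleton_iff.2 ?_
          have h : Commute ((z * t) ^ j) (z * t * t) :=
            (Commute.pow_self (z * t) j).mul_right hzt.symm
          rwa [mul_assoc, ht.1, mul_one] at h
        obtain ⟨c, hc, hce⟩ := M.inv_code huC hu2 hu1
        have hcz : c ≠ zC := fun e => by
          subst e
          rw [M.at_z] at hce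
          apply htz
          rw [hce]
          exact hzt
        exact ⟨⟨⟨c, List.mem_toFinset.2 (List.mem_filter.2 ⟨hc, by simpa using hcz⟩)⟩, t, ht, htz, j, hce.symm⟩,
          rfl⟩
    rw [e, Nat.card_sigma, ← even_total,
      ← Finset.sum_coe_sort L fun c => if inQ c then 8 else 20]
    exact Finset.sum_congr rfl fun c _ => M.card_fibre (hL c).1 (hL c).2
  have h3 : Nat.card {t : G // ((t * t = 1 ∧ t ≠ 1) ∧ ¬ t * z = z * t) ∧ ¬ Even (orderOf (z * t))} =
      Nat.card {x : G // IsInv z x} := by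
    refine Nat.card_congr ((Equiv.mulLeft z).subtypeEquiv fun t => ?_)
    show _ ↔ IsInv z (z * t)
    constructor
    · rintro ⟨⟨⟨ht, -⟩, htz⟩, ho⟩
      refine ⟨fun e => htz ?_, Nat.not_even_iff_odd.1 ho, ?_⟩
      · rw [show t = z by rw [← inv_eq_of_mul_eq_one_right e, M.z_inv]]
      · rw [mul_inv_rev, M.z_inv, inv_eq_of_mul_eq_one_right ht, ← mul_assoc z z t, M.zz, one_mul]
    · rintro ⟨h1, ho, hi⟩
      rw [mul_inv_rev, M.z_inv, ← mul_assoc z z t, M.zz, one_mul] at hi
      have ht : t⁻¹ = t := (mul_right_cancel hi).symm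
      refine ⟨⟨⟨?_, ?_⟩, fun e => h1 ?_⟩, Nat.not_even_iff_odd.2 ho⟩
      · nth_rw 1 [← ht]; exact inv_mul_cancel t
      · rintro rfl
        rw [mul_one, M.ord] at ho
        exact absurd ho (by decide)
      · have hsq : (z * t) ^ 2 = 1 := by
          rw [pow_two, mul_assoc, ← mul_assoc t, e, mul_assoc z t t,
            show t * t = 1 by nth_rw 1 [← ht]; exact inv_mul_cancel t, mul_one, M.zz]
        have hd := orderOf_dvd_of_pow_eq_one hsq
        exact orderOf_eq_one_iff.1 (Nat.eq_one_of_dvd_coprimes (Nat.coprime_two_left.2 ho) hd dvd_rfl)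
  rw [h1, h2, h3]
  omega

end Model

end

end CfsgLib.Spor.UFourType
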