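import Cfsg.Agent.Lib.Spor.UFourType.Complement

/-!
# The odd part is elementary of order 81
-/

set_option autoImplicit false
set_option linter.unusedSectionVars false
set_option synthInstance.maxSize 4096

namespace CfsgLib.Spor.UFourType

open Subgroup

noncomputable section

/-- The outer involution of a side. -/
def wC (b : Bool) : ℕ := if b then 303 else 2

/-- Its product with the centre. -/
def wC' (b : Bool) : ℕ := if b then 351 else 50

/-- The element of order three centralized by the side. -/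
def yC (b : Bool) : ℕ := if b then 404 else 400

theorem side_facts : ∀ b : Bool, ∀ u ∈ [wC b, wC' b],
    u ∈ invList ∧ u ≠ zC ∧ yC b ∈ listP ∧ yC b ≠ 0 ∧ mC u (yC b) = mC (yC b) u ∧ mC u zC = mC zC u ∧
      (∀ c ∈ listP, ∃ d ∈ listP, mC u c = mC d u) ∧
      (∀ c ∈ listP, mC u c = mC c u → c ∈ [0, yC b, mC (yC b) (yC b)]) := by decide +kernel

theorem side_pair : ∀ b : Bool, mC zC (wC b) = wC' b ∧ mC zC (wC' b) = wC b ∧
    mC (wC (!b)) (wC b) = mC (wC' b) (wC (!b)) ∧ mC (wC (!b)) (wC' b) = mC (wC b) (wC (!b)) := by decide +kernel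

theorem side_kill : ∀ b : Bool, ∀ c ∈ listP, ∀ d ∈ listP, mC c d = 0 → mC (wC b) c = mC d (wC b) →
    mC (wC (!b)) c = mC d (wC (!b)) → c = 0 := by decide +kernel

theorem klein_three : ∀ c ∈ threeList, (∃ t ∈ invList, t ≠ zC ∧ mC t c = mC c t) →
    ∃ k < 1152, ∃ d ∈ [400, 404, 496, 500], mC k c = mC d k := by decide +kernel

theorem three_comm_lists : ∀ d ∈ [400, 404, 496, 500],
    ∀ e ∈ threeList, mC e d = mC d e → e ∈ listP := by decide +kernel

/-- The fixed points of a code on the odd part. -/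
def Model.fixA {G : Type*} [Group G] [Finite G] {z : G} {Q : Subgroup G} {ψ : ℕ → G} (M : Model z Q ψ) (u : ℕ) :
    Subgroup G := M.grpA ⊓ centralizer ({ψ u} : Set G)

namespace Model

variable {G : Type*} [Group G] [Finite G] {z : G} {Q : Subgroup G} {ψ : ℕ → G} (M : Model z Q ψ)
include M

theorem side_u {b : Bool} {u : ℕ} (hu : u ∈ [wC b, wC' b]) :
    u < 1152 ∧ ψ u * ψ u = 1 ∧ ψ u * z = z * ψ u ∧ ψ u * ψ (yC b) = ψ (yC b) * ψ u ∧ ψ (yC b) ∈ M.grpP ∧
      ψ (yC b) ≠ 1 ∧ (∀ p ∈ M.grpP, ψ u * p * ψ u ∈ M.grpP) := by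
  obtain ⟨hi, -, hy, hy0, hc, -, hn, -⟩ := side_facts b u hu
  have lu := list_lt.1 u hi
  have ly := lists_lt.2.2 _ hy
  obtain ⟨h2, -⟩ := M.invol hi
  refine ⟨lu, h2, M.comm_z lu, (M.comm_iff lu ly).2 hc, ⟨_, hy, rfl⟩, fun e => hy0 ((M.eq_one_iff ly).1 e), ?_⟩
  rintro p ⟨c, hc', rfl⟩
  obtain ⟨d, hd, e⟩ := hn c hc'
  refine ⟨d, hd, ?_⟩
  rw [← M.conj_eq lu (lists_lt.2.2 c hc') (lists_lt.2.2 d hd) e, inv_eq_of_mul_eq_one_right h2]

theorem side_conj_A {b : Bool} {u : ℕ} (hu : u ∈ [wC b, wC' b]) {a : G} (ha : a ∈ M.grpA) :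
    ψ u * a * ψ u ∈ M.grpA := by
  obtain ⟨-, h2, -, -, -, -, hn⟩ := M.side_u hu
  have hi := inv_eq_of_mul_eq_one_right h2
  have h := M.grpA_conj (g := ψ u) (fun p hp => by rw [hi]; exact hn p hp) ha
  rwa [hi] at h

theorem side_conj_inv {b : Bool} {u : ℕ} (hu : u ∈ [wC b, wC' b]) {d : G} (hd : z * d * z = d⁻¹) :
    z * (ψ u * d * ψ u) * z = (ψ u * d * ψ u)⁻¹ := by
  obtain ⟨-, h2, hz, -⟩ := M.side_u hu
  calc z * (ψ u * d * ψ u) * z = z * ψ u * d * (ψ u * z) := by group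
    _ = ψ u * (z * d * z) * ψ u := by rw [← hz]; nth_rw 2 [hz]; group
    _ = _ := by rw [hd, mul_inv_rev, mul_inv_rev, inv_eq_of_mul_eq_one_right h2]; group

/-- A conjugation taking a side involution to the centre and its fixed points into the Sylow subgroup. -/
theorem side_to_center {b : Bool} {u : ℕ} (hu : u ∈ [wC b, wC' b]) :
    ∃ g : G, g * ψ u * g⁻¹ = z ∧ (∃ d ∈ [400, 404, 496, 500], g * ψ (yC b) * g⁻¹ = ψ d) ∧
      ∀ a ∈ M.fixA u, g * a * g⁻¹ ∈ M.grpP := by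
  obtain ⟨lu, h2, hz, hy, hyP, hy1, -⟩ := M.side_u hu
  obtain ⟨hiu, huz, -⟩ := side_facts b u hu
  obtain ⟨g₀, hg₀⟩ := M.exists_conj h2 (M.invol hiu).2
  have hC : ∀ x : G, ψ u * x = x * ψ u → g₀ * x * g₀⁻¹ ∈ centralizer ({z} : Set G) := fun x hx => by
    refine mem_centralizer_singleton_iff.2 ?_
    rw [← hg₀]
    calc g₀ * x * g₀⁻¹ * (g₀ * ψ u * g₀⁻¹) = g₀ * (x * ψ u) * g₀⁻¹ := by group
      _ = g₀ * (ψ u * x) * g₀⁻¹ := by rw [hx]
      _ = _ := by group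
  obtain ⟨c, hc, hce⟩ := M.three_code (hC _ hy)
    (by rw [conj_pow, M.grpP_cube hyP]; group) (fun e => hy1 (conj_eq_one_iff.1 e))
  obtain ⟨t, ht, hte⟩ := M.inv_code (hC z hz)
    (by rw [show g₀ * z * g₀⁻¹ * (g₀ * z * g₀⁻¹) = g₀ * (z * z) * g₀⁻¹ by group, M.zz]; group)
    (fun e => M.z_ne (conj_eq_one_iff.1 e))
  have htz : t ≠ zC := fun e => huz (by
    subst e
    rw [M.at_z] at hte
    exact (M.eq_z_iff lu).1 (mul_left_cancel (mul_right_cancel (hg₀.trans hte))))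
  obtain ⟨k, hk, d, hd, hkd⟩ := klein_three c hc ⟨t, ht, htz, (M.comm_iff (list_lt.1 t ht) (list_lt.2.1 c hc)).1 (by
    rw [hce, hte]
    calc g₀ * z * g₀⁻¹ * (g₀ * ψ (yC b) * g₀⁻¹) = g₀ * (z * ψ (yC b)) * g₀⁻¹ := by group
      _ = g₀ * (ψ (yC b) * z) * g₀⁻¹ := by rw [mem_centralizer_singleton_iff.1 (M.grpP_le_C hyP)]
      _ = _ := by group)⟩
  have ld : d < 1152 := by fin_cases hd <;> norm_num
  have hdy : ψ k * g₀ * ψ (yC b) * (ψ k * g₀)⁻¹ = ψ d := by
    rw [show ψ k * g₀ * ψ (yC b) * (ψ k * g₀)⁻¹ = ψ k * (g₀ * ψ (yC b) * g₀⁻¹) * (ψ k)⁻¹ by group, ← hce,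
      M.conj_eq hk (list_lt.2.1 c hc) ld hkd]
  refine ⟨ψ k * g₀, ?_, ⟨d, hd, hdy⟩, ?_⟩
  · rw [show ψ k * g₀ * ψ u * (ψ k * g₀)⁻¹ = ψ k * (g₀ * ψ u * g₀⁻¹) * (ψ k)⁻¹ by group, hg₀, M.comm_z hk,
      mul_inv_cancel_right]
  · rintro a ⟨ha, hau⟩
    have haC : ψ k * g₀ * a * (ψ k * g₀)⁻¹ ∈ centralizer ({z} : Set G) := by
      rw [show ψ k * g₀ * a * (ψ k * g₀)⁻¹ = ψ k * (g₀ * a * g₀⁻¹) * (ψ k)⁻¹ by group]
      exact mul_mem (mul_mem (M.mem k hk) (hC a (mem_centralizer_singleton_iff.1 hau).symm)) (inv_mem (M.mem k hk))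
    have h3 : (ψ k * g₀ * a * (ψ k * g₀)⁻¹) ^ 3 = 1 := M.cube_of_odd haC (by
      rw [← MulAut.conj_apply, MulEquiv.orderOf_eq]; exact M.grpA_odd ha)
    by_cases h1 : ψ k * g₀ * a * (ψ k * g₀)⁻¹ = 1
    · rw [h1]; exact one_mem _
    obtain ⟨e, he, hee⟩ := M.three_code haC h3 h1
    refine ⟨e, three_comm_lists d hd e he ((M.comm_iff (list_lt.2.1 e he) ld).1 ?_), hee⟩
    rw [hee, ← hdy]
    calc ψ k * g₀ * a * (ψ k * g₀)⁻¹ * (ψ k * g₀ * ψ (yC b) * (ψ k * g₀)⁻¹)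
        = ψ k * g₀ * (a * ψ (yC b)) * (ψ k * g₀)⁻¹ := by group
      _ = ψ k * g₀ * (ψ (yC b) * a) * (ψ k * g₀)⁻¹ := by rw [M.grpP_comm_grpA hyP ha]
      _ = _ := by group

/-- Products of inverted elements in both orders. -/
theorem inverted_pair {d e : G} (hd : d ∈ M.grpA) (he : e ∈ M.grpA) (hdz : z * d * z = d⁻¹)
    (hez : z * e * z = e⁻¹) :
    ∃ p ∈ M.grpP, ∃ f ∈ M.grpA, z * f * z = f⁻¹ ∧ d * e = p * f ∧ e * d = p⁻¹ * f := by
  obtain ⟨p, hp, f, hf, h, hfz⟩ := M.split_A (mul_mem hd he)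
  refine ⟨p, hp, f, hf, hfz, h, ?_⟩
  have hpz : z * p * z = p := by
    rw [← mem_centralizer_singleton_iff.1 (M.grpP_le_C hp), mul_assoc, M.zz, mul_one]
  have h2 : d⁻¹ * e⁻¹ = p * f⁻¹ := by
    rw [← hdz, ← hez, show z * d * z * (z * e * z) = z * d * (z * z) * e * z by group, M.zz, mul_one, mul_assoc z d,
      h, show z * (p * f) * z = z * p * (z * z) * f * z by rw [M.zz]; group,
      show z * p * (z * z) * f * z = z * p * z * (z * f * z) by group, hpz, hfz]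
  calc e * d = (d⁻¹ * e⁻¹)⁻¹ := by group
    _ = f * p⁻¹ := by rw [h2]; group
    _ = _ := (M.grpP_comm_grpA (inv_mem hp) hf).symm

theorem side_fix_or_invert {b : Bool} {u : ℕ} (hu : u ∈ [wC b, wC' b]) {d : G} (hd : d ∈ M.grpA)
    (hdz : z * d * z = d⁻¹) :
    ∃ p ∈ M.grpP, ∃ f ∈ M.fixA u, z * f * z = f⁻¹ ∧ d * (ψ u * d * ψ u) = p * f := by
  obtain ⟨-, h2, -, -, -, -, hn⟩ := M.side_u hu
  obtain ⟨p, hp, f, hf, hfz, h, h'⟩ := M.inverted_pair hd (M.side_conj_A hu hd) hdz (M.side_conj_inv hu hdz)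
  refine ⟨p, hp, f, ⟨hf, ?_⟩, hfz, h⟩
  have e : ψ u * p * ψ u * (ψ u * f * ψ u) = p⁻¹ * f := by
    rw [← h', show ψ u * p * ψ u * (ψ u * f * ψ u) = ψ u * p * (ψ u * ψ u) * f * ψ u by group, h2, mul_one,
      mul_assoc (ψ u), ← h]
    calc ψ u * (d * (ψ u * d * ψ u)) * ψ u = ψ u * d * ψ u * d * (ψ u * ψ u) := by group
      _ = _ := by rw [h2, mul_one]
  have e' : ψ u * f * ψ u = ((ψ u * p * ψ u)⁻¹ * p⁻¹) * f := by
    rw [mul_assoc (ψ u * p * ψ u)⁻¹, ← e, inv_mul_cancel_left]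
  have h1 := (M.inverted_unique_A (mul_mem (inv_mem (hn p hp)) (inv_mem hp)) hf hfz
    (M.side_conj_inv hu hfz) e').2
  refine mem_centralizer_singleton_iff.2 ?_
  calc f * ψ u = ψ u * f * ψ u * ψ u := by rw [h1]
    _ = ψ u * f := by rw [mul_assoc, h2, mul_one]

/-- A side involution fixes an inverted element. -/
theorem side_exists_fix {b : Bool} {u : ℕ} (hu : u ∈ [wC b, wC' b]) :
    ∃ s ∈ M.fixA u, z * s * z = s⁻¹ ∧ s ≠ 1 := by
  by_contra hcon
  push Not at hcon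
  have inv : ∀ d ∈ M.grpA, z * d * z = d⁻¹ → ψ u * d * ψ u = d⁻¹ := by
    intro d hd hdz
    obtain ⟨p, hp, f, hf, hfz, h⟩ := M.side_fix_or_invert hu hd hdz
    rw [hcon f hf hfz, mul_one] at h
    refine (M.inverted_unique_A hp (inv_mem hd) ?_ (M.side_conj_inv hu hdz) ?_).2
    · rw [inv_inv]
      calc z * d⁻¹ * z = (z * d * z)⁻¹ := by rw [mul_inv_rev, mul_inv_rev, M.z_inv]; group
        _ = d := by rw [hdz, inv_inv]
    · rw [M.grpP_comm_grpA hp (inv_mem hd), ← h, inv_mul_cancel_left]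
  obtain ⟨d, hd, hdz, hd1⟩ := M.exists_inverted
  obtain ⟨hwz, hwz', hvw, hvw'⟩ := side_pair b
  -- the other one of the side
  obtain ⟨u', hu', hzu, hvu⟩ : ∃ u' ∈ [wC b, wC' b], mC zC u = u' ∧ mC (wC (!b)) u = mC u' (wC (!b)) := by
    simp only [List.mem_cons, List.not_mem_nil, or_false] at hu
    rcases hu with rfl | rfl
    · exact ⟨wC' b, by simp, hwz, hvw⟩
    · exact ⟨wC b, by simp, hwz', hvw'⟩
  obtain ⟨lu, hu2, huz, -⟩ := M.side_u hu
  obtain ⟨lu', -⟩ := M.side_u hu'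
  have hv : wC (!b) ∈ [wC (!b), wC' (!b)] := List.mem_cons_self
  obtain ⟨lv, hv2, -⟩ := M.side_u hv
  have e1 : ψ u' = z * ψ u := by rw [← hzu, ← M.at_z, M.mul zC (by norm_num) u lu]
  have e2 : ψ u' = ψ (wC (!b)) * ψ u * ψ (wC (!b)) := by
    nth_rw 2 [← inv_eq_of_mul_eq_one_right hv2]
    exact (M.conj_eq lv lu lu' hvu).symm
  have f1 : ψ u' * d * ψ u' = d := by
    nth_rw 2 [e1]
    rw [e1]
    calc z * ψ u * d * (z * ψ u) = z * (ψ u * d * ψ u) * z := by nth_rw 2 [← huz]; group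
      _ = (z * d * z)⁻¹ := by rw [inv d hd hdz, mul_inv_rev, mul_inv_rev, M.z_inv]; group
      _ = d := by rw [hdz, inv_inv]
  have f2 : ψ u' * d * ψ u' = d⁻¹ := by
    set v := ψ (wC (!b)) with hvd
    have hi := inv _ (M.side_conj_A hv hd) (M.side_conj_inv hv hdz)
    rw [e2, show v * ψ u * v * d * (v * ψ u * v) = v * (ψ u * (v * d * v) * ψ u) * v by group, hi, mul_inv_rev,
      mul_inv_rev, inv_eq_of_mul_eq_one_right hv2]
    rw [show v * (v * (d⁻¹ * v)) * v = v * v * d⁻¹ * (v * v) by group, hv2, one_mul, mul_one]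
  refine hd1 ?_
  obtain ⟨k, hk⟩ := M.grpA_odd hd
  have hd2 : d ^ 2 = 1 := by rw [pow_two]; nth_rw 1 [f1.symm.trans f2]; exact inv_mul_cancel d
  have := pow_orderOf_eq_one d
  rwa [hk, pow_succ, pow_mul, hd2, one_pow, one_mul] at this

/-- The fixed points of a side involution. -/
theorem side_fix_eq {b : Bool} {u : ℕ} (hu : u ∈ [wC b, wC' b]) {s : G} (hs : s ∈ M.fixA u)
    (hsz : z * s * z = s⁻¹) (hs1 : s ≠ 1) :
    Nat.card (M.fixA u) = 9 ∧ s ^ 3 = 1 ∧ (∀ a ∈ M.fixA u, a ^ 3 = 1 ∧ ∀ a' ∈ M.fixA u, a * a' = a' * a) ∧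
      ∀ a ∈ M.fixA u, ∃ i < 3, ∃ j < 3, a = ψ (yC b) ^ i * s ^ j := by
  classical
  obtain ⟨g, -, -, hg⟩ := M.side_to_center hu
  obtain ⟨-, -, hy', hy, hyP, hy1, -⟩ := M.side_u hu
  have cube : ∀ a ∈ M.fixA u, a ^ 3 = 1 := fun a ha => by
    have h := M.grpP_cube (hg a ha)
    rw [conj_pow] at h
    exact conj_eq_one_iff.1 h
  have comm : ∀ a ∈ M.fixA u, ∀ a' ∈ M.fixA u, a * a' = a' * a := fun a ha a' ha' => by
    have h : g * a * g⁻¹ * (g * a' * g⁻¹) = g * a' * g⁻¹ * (g * a * g⁻¹) :=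
      mem_centralizer_iff.1 (M.grpP_le_cent (hg a' ha')) _ (hg a ha)
    refine mul_left_cancel (a := g) (mul_right_cancel (b := g⁻¹) ?_)
    calc g * (a * a') * g⁻¹ = g * a * g⁻¹ * (g * a' * g⁻¹) := by group
      _ = g * a' * g⁻¹ * (g * a * g⁻¹) := h
      _ = _ := by group
  have hyF : ψ (yC b) ∈ M.fixA u := ⟨M.grpP_le_grpA hyP, mem_centralizer_singleton_iff.2 hy.symm⟩
  let f : Fin 3 × Fin 3 → M.fixA u := fun ij =>
    ⟨ψ (yC b) ^ (ij.1 : ℕ) * s ^ (ij.2 : ℕ), mul_mem (pow_mem hyF _) (pow_mem hs _)⟩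
  have hs3 := cube s hs
  have hy3 := M.grpP_cube hyP
  have hyo : orderOf (ψ (yC b)) = 3 := orderOf_eq_prime hy3 hy1
  have hso : orderOf s = 3 := orderOf_eq_prime hs3 hs1
  have hinvpow : ∀ j : ℕ, z * s ^ j * z = (s ^ j)⁻¹ := fun j => by
    have h : z * s ^ j * z⁻¹ = (s⁻¹) ^ j := by rw [← conj_pow, M.z_inv, hsz]
    rwa [M.z_inv, inv_pow] at h
  have hf : Function.Injective f := by
    rintro ⟨i, j⟩ ⟨i', j'⟩ e
    have e' : ψ (yC b) ^ (i : ℕ) * s ^ (j : ℕ) = ψ (yC b) ^ (i' : ℕ) * s ^ (j' : ℕ) := congrArg Subtype.val e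
    obtain ⟨h1, h2⟩ := M.inverted_unique_A (mul_mem (inv_mem (pow_mem hyP (i' : ℕ))) (pow_mem hyP (i : ℕ)))
      (pow_mem hs.1 _) (hinvpow _) (hinvpow (j' : ℕ)) (by rw [mul_assoc, e', inv_mul_cancel_left])
    refine Prod.ext (Fin.ext ?_) (Fin.ext ?_)
    · exact pow_injOn_Iio_orderOf (by simp [hyo]) (by simp [hyo]) (inv_mul_eq_one.1 h1).symm
    · exact (pow_injOn_Iio_orderOf (by simp [hso]) (by simp [hso]) h2).symm
  have hle : Nat.card (M.fixA u) ≤ 9 := by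
    rw [← M.card_grpP]
    exact Nat.card_le_card_of_injective (fun a : M.fixA u => (⟨_, hg a a.2⟩ : M.grpP)) fun a a' e =>
      Subtype.ext (mul_left_cancel (mul_right_cancel (congrArg Subtype.val e)))
  have h9 : Nat.card (Fin 3 × Fin 3) = 9 := by simp
  have hge := Nat.card_le_card_of_injective f hf
  refine ⟨by omega, hs3, fun a ha => ⟨cube a ha, comm a ha⟩, fun a ha => ?_⟩
  obtain ⟨⟨i, j⟩, h⟩ := (hf.bijective_of_nat_card_le (by omega)).2 ⟨a, ha⟩
  exact ⟨i, i.isLt, j, j.isLt, (congrArg Subtype.val h).symm⟩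

/-- An inverted fixed point is a power of a given one. -/
theorem side_inverted_fix {b : Bool} {u : ℕ} (hu : u ∈ [wC b, wC' b]) {s a : G} (hs : s ∈ M.fixA u)
    (hsz : z * s * z = s⁻¹) (hs1 : s ≠ 1) (ha : a ∈ M.fixA u) (haz : z * a * z = a⁻¹) :
    a = 1 ∨ a = s ∨ a = s⁻¹ := by
  obtain ⟨-, hs3, -, hall⟩ := M.side_fix_eq hu hs hsz hs1
  obtain ⟨i, -, j, hj, rfl⟩ := hall a ha
  obtain ⟨-, -, -, -, hyP, -⟩ := M.side_u hu
  have hinv : z * s ^ j * z = (s ^ j)⁻¹ := by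
    have h : z * s ^ j * z⁻¹ = (s⁻¹) ^ j := by rw [← conj_pow, M.z_inv, hsz]
    rwa [M.z_inv, inv_pow] at h
  rw [(M.inverted_unique_A (pow_mem hyP i) (pow_mem hs.1 j) hinv haz rfl).2]
  interval_cases j
  · exact Or.inl (pow_zero s)
  · exact Or.inr (Or.inl (pow_one s))
  · refine Or.inr (Or.inr (eq_inv_of_mul_eq_one_left ?_))
    rw [← pow_succ, hs3]

/-- The odd part is elementary of order 81. -/
theorem grpA_elementary : (∀ a ∈ M.grpA, ∀ a' ∈ M.grpA, a * a' = a' * a) ∧ (∀ a ∈ M.grpA, a ^ 3 = 1) ∧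
    Nat.card M.grpA = 81 := by
  classical
  have hw : wC false ∈ [wC false, wC' false] := List.mem_cons_self
  have hw' : wC' false ∈ [wC false, wC' false] := List.mem_cons_of_mem _ List.mem_cons_self
  have hv : wC (!false) ∈ [wC (!false), wC' (!false)] := List.mem_cons_self
  obtain ⟨lw, hw2, hwz, -, -, -, hnw⟩ := M.side_u hw
  obtain ⟨lw', -, -, -, -, -, -⟩ := M.side_u hw'
  obtain ⟨lv, hv2, hvz, -, -, -, hnv⟩ := M.side_u hv
  obtain ⟨hzw, -, hvw, hvw'⟩ := side_pair false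
  obtain ⟨s, hs, hsz, hs1⟩ := M.side_exists_fix hw
  obtain ⟨t, ht, htz, ht1⟩ := M.side_exists_fix hw'
  have hs3 := (M.side_fix_eq hw hs hsz hs1).2.1
  have ht3 := (M.side_fix_eq hw' ht htz ht1).2.1
  have e1 : ψ (wC' false) = z * ψ (wC false) := by rw [← hzw, ← M.at_z, M.mul zC (by norm_num) _ lw]
  set w := ψ (wC false) with hwd
  set v := ψ (wC (!false)) with hvd
  have hwi := inv_eq_of_mul_eq_one_right hw2
  have hvi := inv_eq_of_mul_eq_one_right hv2
  have hst : ∀ a, a ∈ M.fixA (wC' false) → z * a * z = a⁻¹ → w * a * w = a⁻¹ := by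
    intro a ha haz
    have hc := mem_centralizer_singleton_iff.1 ha.2
    rw [e1] at hc
    calc w * a * w = z * (z * w * a) * w := by rw [← mul_assoc z, ← mul_assoc z, M.zz, one_mul]
      _ = z * (a * (z * w)) * w := by rw [hc]
      _ = z * a * z * (w * w) := by group
      _ = a⁻¹ := by rw [haz, hw2, mul_one]
  have hws : w * s * w = s := by
    rw [← mem_centralizer_singleton_iff.1 hs.2, mul_assoc, hw2, mul_one]
  have hwt := hst t ht htz
  -- the commutator of the two fixed elements is trivial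
  obtain ⟨p, hp, f, hf, hfz, hfe, hfe'⟩ := M.inverted_pair hs.1 ht.1 hsz htz
  have hpc : ∀ a ∈ M.grpA, p * a = a * p := fun a ha => M.grpP_comm_grpA hp ha
  have hst2 : s * t = p * p * (t * s) := by rw [hfe, hfe']; group
  have key : ∀ s' t' : G, s' ∈ M.grpA → t' ∈ M.grpA → s' * t' = p * p * (t' * s') →
      s' * t'⁻¹ = (p * p)⁻¹ * (t'⁻¹ * s') ∧ s'⁻¹ * t' = (p * p)⁻¹ * (t' * s'⁻¹) := by
    intro s' t' hs' ht' h
    have hc : ∀ a ∈ M.grpA, (p * p) * a = a * (p * p) := fun a ha =>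
      M.grpP_comm_grpA (mul_mem hp hp) ha
    constructor
    · calc s' * t'⁻¹ = t'⁻¹ * (t' * s') * t'⁻¹ := by group
        _ = t'⁻¹ * ((p * p)⁻¹ * (s' * t')) * t'⁻¹ := by rw [h]; group
        _ = (p * p)⁻¹ * (t'⁻¹ * s') := by
          rw [← mul_assoc t'⁻¹, show t'⁻¹ * (p * p)⁻¹ = (p * p)⁻¹ * t'⁻¹ by
            rw [← mul_inv_rev, ← mul_inv_rev, hc t' ht']]
          group
    · calc s'⁻¹ * t' = s'⁻¹ * (t' * s') * s'⁻¹ := by group
        _ = s'⁻¹ * ((p * p)⁻¹ * (s' * t')) * s'⁻¹ := by rw [h]; group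
        _ = (p * p)⁻¹ * (t' * s'⁻¹) := by
          rw [← mul_assoc s'⁻¹, show s'⁻¹ * (p * p)⁻¹ = (p * p)⁻¹ * s'⁻¹ by
            rw [← mul_inv_rev, ← mul_inv_rev, hc s' hs']]
          group
  have hpp : p * p ∈ M.grpP := mul_mem hp hp
  have inv_of : ∀ (g : G), g * g = 1 → (∀ q ∈ M.grpP, g * q * g ∈ M.grpP) →
      g * (s * t) * g = (p * p)⁻¹ * (g * (t * s) * g) → g * (p * p) * g = (p * p)⁻¹ := by
    intro g hg2 _ h
    rw [hst2, show g * (p * p * (t * s)) * g = g * (p * p) * (g * g) * (t * s) * g by rw [hg2]; group,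
      show g * (p * p) * (g * g) * (t * s) * g = g * (p * p) * g * (g * (t * s) * g) by group] at h
    exact mul_right_cancel h
  have hwc : w * (p * p) * w = (p * p)⁻¹ := by
    refine inv_of w hw2 hnw ?_
    rw [show w * (s * t) * w = w * s * (w * w) * t * w by rw [hw2]; group,
      show w * s * (w * w) * t * w = w * s * w * (w * t * w) by group, hws, hwt,
      show w * (t * s) * w = w * t * (w * w) * s * w by rw [hw2]; group,
      show w * t * (w * w) * s * w = w * t * w * (w * s * w) by group, hws, hwt]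
    exact (key s t hs.1 ht.1 hst2).1
  have hvc : v * (p * p) * v = (p * p)⁻¹ := by
    have e2 : ψ (wC' false) = v * w * v := by
      exact (M.conj_eq lv lw lw' hvw).symm.trans (by rw [hvi])
    have hsv : v * s * v ∈ M.fixA (wC' false) := by
      refine ⟨M.side_conj_A hv hs.1, mem_centralizer_singleton_iff.2 ?_⟩
      rw [e2]
      calc v * s * v * (v * w * v) = v * s * (v * v) * w * v := by group
        _ = v * (s * w) * v := by rw [hv2]; group
        _ = v * (w * s) * v := by rw [mem_centralizer_singleton_iff.1 hs.2]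
        _ = v * w * (v * v) * s * v := by rw [hv2]; group
        _ = _ := by group
    have hvv : ∀ a, v * (v * a * v) * v = a := fun a => by
      rw [show v * (v * a * v) * v = v * v * a * (v * v) by group, hv2]; group
    refine inv_of v hv2 hnv ?_
    rw [show v * (s * t) * v = v * s * (v * v) * t * v by rw [hv2]; group,
      show v * s * (v * v) * t * v = v * s * v * (v * t * v) by group,
      show v * (t * s) * v = v * t * (v * v) * s * v by rw [hv2]; group,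
      show v * t * (v * v) * s * v = v * t * v * (v * s * v) by group]
    rcases M.side_inverted_fix hw' ht htz ht1 hsv (M.side_conj_inv hv hsz) with h | h | h
    · exact absurd (by rw [← hvv s, h, mul_one, hv2] : s = 1) hs1
    · rw [h, show v * t * v = s by rw [← h, hvv], hst2, inv_mul_cancel_left]
    · have hvt : v * t * v = s⁻¹ := by
        rw [show t = (v * s * v)⁻¹ by rw [h, inv_inv], mul_inv_rev, mul_inv_rev, hvi,
          show v * (v * (s⁻¹ * v)) * v = v * v * s⁻¹ * (v * v) by group, hv2]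
        group
      rw [h, hvt]
      have hinv : t⁻¹ * s⁻¹ = (p * p)⁻¹ * (s⁻¹ * t⁻¹) := by
        rw [← mul_inv_rev, hst2, mul_inv_rev, mul_inv_rev t s,
          M.grpP_comm_grpA (inv_mem hpp) (mul_mem (inv_mem hs.1) (inv_mem ht.1))]
      exact hinv
  have hcomm : s * t = t * s := by
    obtain ⟨c, hc, hce⟩ := hpp
    obtain ⟨d, hd, hde⟩ : (p * p)⁻¹ ∈ M.grpP := inv_mem (mul_mem hp hp)
    have lc := lists_lt.2.2 c hc
    have ld := lists_lt.2.2 d hd
    have h0 : c = 0 := by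
      refine side_kill false c hc d hd ((M.eq_one_iff (mC_lt lc ld)).1 ?_) ((M.conj_iff lw lc ld).1 ?_)
        ((M.conj_iff lv lc ld).1 ?_)
      · rw [← M.mul c lc d ld, hce, hde, mul_inv_cancel]
      · rw [hce, hde, ← hwd, hwi, hwc]
      · rw [hce, hde, ← hvd, hvi, hvc]
    rw [hst2, ← hce, h0, M.one, one_mul]
  -- every element is a product
  let R : Subgroup G := closure ((M.grpP : Set G) ∪ {s, t})
  have hRA : R ≤ M.grpA := by
    rw [closure_le]
    rintro a (ha | ha | ha)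
    · exact M.grpP_le_grpA ha
    · exact ha ▸ hs.1
    · exact (Set.mem_singleton_iff.1 ha) ▸ ht.1
  have hsR : s ∈ R := subset_closure (Or.inr (Or.inl rfl))
  have htR : t ∈ R := subset_closure (Or.inr (Or.inr rfl))
  have hPR : M.grpP ≤ R := fun a ha => subset_closure (Or.inl ha)
  have hAR : M.grpA ≤ R := by
    intro a ha
    obtain ⟨q, hq, d, hd, rfl, hdz⟩ := M.split_A ha
    refine mul_mem (hPR hq) ?_
    obtain ⟨p₁, hp₁, f₁, hf₁, hf₁z, h₁⟩ := M.side_fix_or_invert hw hd hdz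
    obtain ⟨p₂, hp₂, f₂, hf₂, hf₂z, h₂⟩ := M.side_fix_or_invert hw' hd hdz
    have r₁ : d * (w * d * w) ∈ R := h₁ ▸ mul_mem (hPR hp₁) (by
      rcases M.side_inverted_fix hw hs hsz hs1 hf₁ hf₁z with rfl | rfl | rfl
      exacts [one_mem _, hsR, inv_mem hsR])
    have r₂ : d * (w * d * w)⁻¹ ∈ R := by
      have e : ψ (wC' false) * d * ψ (wC' false) = (w * d * w)⁻¹ := by
        rw [← M.side_conj_inv hw hdz]
        nth_rw 2 [e1]
        rw [e1]
        calc z * w * d * (z * w) = z * (w * d) * (w * z) := by rw [hwz]; group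
          _ = _ := by simp only [hwd]; group
      rw [← e, h₂]
      exact mul_mem (hPR hp₂) (by
        rcases M.side_inverted_fix hw' ht htz ht1 hf₂ hf₂z with rfl | rfl | rfl
        exacts [one_mem _, htR, inv_mem htR])
    set e := w * d * w
    obtain ⟨p₃, hp₃, f₃, -, -, h₃, h₃'⟩ := M.inverted_pair hd (M.side_conj_A hw hd) hdz (M.side_conj_inv hw hdz)
    have hdd : d * d ∈ R := by
      have hprod := mul_mem r₁ r₂
      have hed : e * d = p₃⁻¹ * p₃⁻¹ * (d * e) := by rw [h₃', h₃]; group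
      have hpc3 := M.grpP_comm_grpA (mul_mem (inv_mem hp₃) (inv_mem hp₃)) hd
      rw [show d * e * (d * e⁻¹) = d * (e * d) * e⁻¹ by group, hed, ← mul_assoc d, ← hpc3,
        show p₃⁻¹ * p₃⁻¹ * d * (d * e) * e⁻¹ = p₃⁻¹ * p₃⁻¹ * (d * d) by group] at hprod
      exact (mul_mem_cancel_left (hPR (mul_mem (inv_mem hp₃) (inv_mem hp₃)))).1 hprod
    obtain ⟨k, hk⟩ := M.grpA_odd hd
    have e' : d = (d * d) ^ (k + 1) := by
      rw [← pow_two, ← pow_mul, show 2 * (k + 1) = (2 * k + 1) + 1 by ring, ← hk, pow_succ, pow_orderOf_eq_one,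
        one_mul]
    rw [e']
    exact pow_mem hdd _
  have gens : ∀ a ∈ (M.grpP : Set G) ∪ {s, t}, ∀ a' ∈ (M.grpP : Set G) ∪ {s, t}, a * a' = a' * a := by
    rintro a (ha | rfl | ha) a' (ha' | rfl | ha')
    · exact M.grpP_comm_grpA ha (M.grpP_le_grpA ha')
    · exact M.grpP_comm_grpA ha hs.1
    · rw [Set.mem_singleton_iff.1 ha']; exact M.grpP_comm_grpA ha ht.1
    · exact (M.grpP_comm_grpA ha' hs.1).symm
    · rfl
    · rw [Set.mem_singleton_iff.1 ha']; exact hcomm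
    · rw [Set.mem_singleton_iff.1 ha]; exact (M.grpP_comm_grpA ha' ht.1).symm
    · rw [Set.mem_singleton_iff.1 ha]; exact hcomm.symm
    · rw [Set.mem_singleton_iff.1 ha, Set.mem_singleton_iff.1 ha']
  have hab : ∀ a ∈ M.grpA, ∀ a' ∈ M.grpA, a * a' = a' * a := fun a ha a' ha' =>
    Subgroup.closure_induction₂ (p := fun x y _ _ => x * y = y * x) (fun x y hx hy => gens x hx y hy)
      (fun x _ => (one_mul x).trans (mul_one x).symm) (fun x _ => (mul_one x).trans (one_mul x).symm)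
      (fun x y w _ _ _ h h' => (Commute.mul_left h h' : Commute (x * y) w))
      (fun y z x _ _ _ h h' => (Commute.mul_right h h' : Commute x (y * z)))
      (fun x y _ _ h => (Commute.inv_left h : Commute x⁻¹ y))
      (fun x y _ _ h => (Commute.inv_right h : Commute x y⁻¹)) (hAR ha) (hAR ha')
  have hcube : ∀ a ∈ M.grpA, a ^ 3 = 1 := fun a ha => by
    refine Subgroup.closure_induction (p := fun x _ => x ^ 3 = 1) ?_ (one_pow 3) ?_ ?_ (hAR ha)
    · rintro x (hx | rfl | hx)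
      · exact M.grpP_cube hx
      · exact hs3
      · rw [Set.mem_singleton_iff.1 hx]; exact ht3
    · intro x y hx hy h h'
      rw [(show Commute x y from hab x (hRA hx) y (hRA hy)).mul_pow, h, h', mul_one]
    · intro x _ h
      rw [inv_pow, h, inv_one]
  refine ⟨hab, hcube, ?_⟩
  -- the products form a subgroup
  let S : Subgroup G :=
    { carrier := {a | ∃ q ∈ M.grpP, ∃ i j : ℕ, a = q * s ^ i * t ^ j}
      one_mem' := ⟨1, one_mem _, 0, 0, by simp⟩
      mul_mem' := by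
        rintro _ _ ⟨q, hq, i, j, rfl⟩ ⟨q', hq', i', j', rfl⟩
        refine ⟨q * q', mul_mem hq hq', i + i', j + j', ?_⟩
        have hq'A := M.grpP_le_grpA hq'
        have c1 : Commute (s ^ i * t ^ j) q' := hab _ (mul_mem (pow_mem hs.1 i) (pow_mem ht.1 j)) q' hq'A
        have c2 : Commute (t ^ j) (s ^ i') := hab _ (pow_mem ht.1 j) _ (pow_mem hs.1 i')
        calc q * s ^ i * t ^ j * (q' * s ^ i' * t ^ j') = q * (s ^ i * t ^ j * q') * (s ^ i' * t ^ j') := by group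
          _ = q * q' * (s ^ i * (t ^ j * s ^ i') * t ^ j') := by rw [c1.eq]; group
          _ = _ := by rw [c2.eq, pow_add, pow_add]; group
      inv_mem' := by
        rintro _ ⟨q, hq, i, j, rfl⟩
        refine ⟨q⁻¹, inv_mem hq, 2 * i, 2 * j, inv_eq_of_mul_eq_one_right ?_⟩
        have c1 : Commute (s ^ i * t ^ j) q⁻¹ :=
          hab _ (mul_mem (pow_mem hs.1 i) (pow_mem ht.1 j)) _ (M.grpP_le_grpA (inv_mem hq))
        have c2 : Commute (t ^ j) (s ^ (2 * i)) := hab _ (pow_mem ht.1 j) _ (pow_mem hs.1 _)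
        calc q * s ^ i * t ^ j * (q⁻¹ * s ^ (2 * i) * t ^ (2 * j))
            = q * (s ^ i * t ^ j * q⁻¹) * (s ^ (2 * i) * t ^ (2 * j)) := by group
          _ = s ^ i * (t ^ j * s ^ (2 * i)) * t ^ (2 * j) := by rw [c1.eq]; group
          _ = s ^ (i + 2 * i) * t ^ (j + 2 * j) := by rw [c2.eq, pow_add, pow_add]; group
          _ = 1 := by
            rw [show i + 2 * i = 3 * i by ring, show j + 2 * j = 3 * j by ring, pow_mul, pow_mul, hs3, ht3]
            simp }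
  have hAS : ∀ a ∈ M.grpA, a ∈ S := fun a ha => by
    refine (closure_le S).2 ?_ (hAR ha)
    rintro x (hx | rfl | hx)
    · exact ⟨x, hx, 0, 0, by simp⟩
    · exact ⟨1, one_mem _, 1, 0, by simp⟩
    · rw [Set.mem_singleton_iff.1 hx]; exact ⟨1, one_mem _, 0, 1, by simp⟩
  let F : M.grpP × Fin 3 × Fin 3 → M.grpA := fun x =>
    ⟨x.1 * s ^ (x.2.1 : ℕ) * t ^ (x.2.2 : ℕ),
      mul_mem (mul_mem (M.grpP_le_grpA x.1.2) (pow_mem hs.1 _)) (pow_mem ht.1 _)⟩
  have hmod : ∀ {g : G}, g ^ 3 = 1 → ∀ n : ℕ, g ^ (n % 3) = g ^ n := fun hg n => by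
    conv_rhs => rw [← Nat.div_add_mod n 3, pow_add, pow_mul, hg, one_pow, one_mul]
  have hFb : Function.Bijective F := by
    refine ⟨?_, fun a => ?_⟩
    · rintro ⟨q, i, j⟩ ⟨q', i', j'⟩ e
      have e' : (q : G) * s ^ (i : ℕ) * t ^ (j : ℕ) = q' * s ^ (i' : ℕ) * t ^ (j' : ℕ) := congrArg Subtype.val e
      set fz := s ^ (i : ℕ) * t ^ (j : ℕ) with hfz
      set fz' := s ^ (i' : ℕ) * t ^ (j' : ℕ) with hfz'
      have hinv : ∀ a b : ℕ, z * (s ^ a * t ^ b) * z = (s ^ a * t ^ b)⁻¹ := fun a b => by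
        have hs' : z * s ^ a * z⁻¹ = (s⁻¹) ^ a := by rw [← conj_pow, M.z_inv, hsz]
        have ht' : z * t ^ b * z⁻¹ = (t⁻¹) ^ b := by rw [← conj_pow, M.z_inv, htz]
        rw [M.z_inv] at hs' ht'
        rw [hab _ (pow_mem hs.1 a) _ (pow_mem ht.1 b), mul_inv_rev, ← inv_pow, ← inv_pow, ← hs', ← ht',
          hab _ (pow_mem ht.1 b) _ (pow_mem hs.1 a), show z * s ^ a * z * (z * t ^ b * z) =
          z * s ^ a * (z * z) * t ^ b * z by group, M.zz]
        group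
      obtain ⟨h1, h2⟩ := M.inverted_unique_A (mul_mem (inv_mem q'.2) q.2)
        (mul_mem (pow_mem hs.1 (i : ℕ)) (pow_mem ht.1 (j : ℕ))) (hinv _ _) (hinv (i' : ℕ) (j' : ℕ)) (by
          rw [mul_assoc, ← mul_assoc (q : G), e', ← mul_assoc, ← mul_assoc, inv_mul_cancel, one_mul])
      obtain rfl : q = q' := (Subtype.ext (inv_mul_eq_one.1 h1)).symm
      have h4 : (s ^ (i : ℕ))⁻¹ * s ^ (i' : ℕ) = t ^ (j : ℕ) * (t ^ (j' : ℕ))⁻¹ := by
        rw [inv_mul_eq_iff_eq_mul, ← mul_assoc, ← h2, mul_inv_cancel_right]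
      set a := (s ^ (i : ℕ))⁻¹ * s ^ (i' : ℕ) with had
      have haw : w * a * w = a := by
        have hc : Commute w a := ((Commute.pow_right (show Commute w s from
          (mem_centralizer_singleton_iff.1 hs.2).symm) _).inv_right).mul_right
          (Commute.pow_right (show Commute w s from (mem_centralizer_singleton_iff.1 hs.2).symm) _)
        rw [hc.eq, mul_assoc, hw2, mul_one]
      have haz : z * a * z = a⁻¹ := by
        have hz' : ∀ n : ℕ, z * s ^ n * z = (s ^ n)⁻¹ := fun n => by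
          have := hinv n 0
          simpa using this
        rw [had, show z * ((s ^ (i : ℕ))⁻¹ * s ^ (i' : ℕ)) * z =
          z * (s ^ (i : ℕ))⁻¹ * (z * z) * s ^ (i' : ℕ) * z by rw [M.zz]; group,
          show z * (s ^ (i : ℕ))⁻¹ * (z * z) * s ^ (i' : ℕ) * z =
            (z⁻¹ * s ^ (i : ℕ) * z⁻¹)⁻¹ * (z * s ^ (i' : ℕ) * z) by group, M.z_inv, hz', hz', inv_inv, mul_inv_rev,
          inv_inv]
        exact hab _ (pow_mem hs.1 _) _ (inv_mem (pow_mem hs.1 _))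
      have hwa : w * a * w = a⁻¹ := by
        have htF : ∀ n : ℕ, t ^ n ∈ M.fixA (wC' false) := fun n => pow_mem ht n
        have haF : a ∈ M.fixA (wC' false) := by
          rw [h4]
          exact mul_mem (htF _) (inv_mem (htF _))
        exact hst a haF haz
      have ha1 : a = 1 := by
        have h := hcube a (mul_mem (inv_mem (pow_mem hs.1 _)) (pow_mem hs.1 _))
        have h' : a * a = 1 := mul_eq_one_iff_eq_inv.2 (haw.symm.trans hwa)
        rwa [pow_succ, pow_two, h', one_mul] at h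
      have ei := inv_mul_eq_one.1 (had ▸ ha1)
      have ej := mul_inv_eq_one.1 (h4 ▸ ha1)
      refine Prod.ext rfl (Prod.ext (Fin.ext ?_) (Fin.ext ?_))
      · exact pow_injOn_Iio_orderOf (by simp [orderOf_eq_prime hs3 hs1]) (by simp [orderOf_eq_prime hs3 hs1]) ei
      · exact pow_injOn_Iio_orderOf (by simp [orderOf_eq_prime ht3 ht1]) (by simp [orderOf_eq_prime ht3 ht1]) ej
    · obtain ⟨q, hq, i, j, e⟩ := hAS a a.2
      refine ⟨(⟨q, hq⟩, ⟨i % 3, Nat.mod_lt _ (by norm_num)⟩, ⟨j % 3, Nat.mod_lt _ (by norm_num)⟩), Subtype.ext ?_⟩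
      show q * s ^ (i % 3) * t ^ (j % 3) = a
      rw [hmod hs3, hmod ht3, ← e]
  rw [← Nat.card_eq_of_bijective F hFb, Nat.card_prod, Nat.card_prod, M.card_grpP, Nat.card_fin]

theorem grpA_comm {a a' : G} (ha : a ∈ M.grpA) (ha' : a' ∈ M.grpA) : a * a' = a' * a :=
  M.grpA_elementary.1 a ha a' ha'

theorem card_grpA : Nat.card M.grpA = 81 := M.grpA_elementary.2.2

theorem grpA_cube {a : G} (ha : a ∈ M.grpA) : a ^ 3 = 1 := M.grpA_elementary.2.1 a ha

/-- The odd part is its own centralizer. -/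
theorem cent_grpA {g : G} (h : ∀ a ∈ M.grpA, g * a = a * g) : g ∈ M.grpA := by
  have hgP : g ∈ centralizer (M.grpP : Set G) :=
    mem_centralizer_iff.2 fun p hp => (h p (M.grpP_le_grpA hp)).symm
  rcases M.complement.2 g hgP with hg | hg
  · exact hg
  exfalso
  obtain ⟨d, hd, hdz, hd1⟩ := M.exists_inverted
  have h1 := M.grpA_comm hg hd
  have h2 := h d hd
  have hzd : z * d = d * z := by
    refine mul_left_cancel (a := g) ?_
    rw [← mul_assoc, h1, ← mul_assoc g d, h2]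
    group
  refine hd1 ?_
  have e : d = d⁻¹ := by rw [← hdz, hzd, mul_assoc, M.zz, mul_one]
  have h3 := M.grpA_cube hd
  rwa [pow_succ, pow_two, mul_eq_one_iff_eq_inv.2 e, one_mul] at h3

end Model

end

end CfsgLib.Spor.UFourType
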