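import Cfsg.Agent.Lib.Spor.UFourType.Lists
import Cfsg.Agent.Lib.Char.Orthogonality

/-!
# The elementary groups of order sixteen: the Sylow 3-subgroup of the centralizer is not one of the group
-/

set_option autoImplicit false
set_option linter.unusedSectionVars false
set_option synthInstance.maxSize 4096

namespace CfsgLib.Spor.UFourType

open Subgroup

noncomputable section

theorem four_lists : listE.Nodup ∧ listV.Nodup ∧ listE.length = 15 ∧ listV.length = 15 ∧
    (∀ c ∈ listE, c ∈ invList) ∧ (∀ c ∈ listV, c ∈ invList) ∧ 48 ∈ listE ∧ 48 ∈ listV ∧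
    (∀ c ∈ listE, ∀ d ∈ listE, mC c d = mC d c) ∧ (∀ c ∈ listV, ∀ d ∈ listV, mC c d = mC d c) := by
  decide +kernel

theorem cent_outer : (∀ c ∈ invList, mC c 2 = mC 2 c → c ∈ listE) ∧
    (∀ c ∈ invList, mC c 7 = mC 7 c → c ∈ listV) := by decide +kernel

theorem q_few : ∀ c ∈ qInvList, c ≠ zC → (qInvList.filter fun d => mC c d == mC d c).length ≤ 11 := by
  decide +kernel

theorem stab_count : ∀ L ∈ [listE, listV],
    ((List.range 1152).filter fun k => L.all fun c => L.any fun d => mC k c == mC d k).length = 384 := by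
  decide +kernel

theorem s_facts : (∀ c ∈ listE, ∃ d ∈ listE, mC 400 c = mC d 400) ∧
    (∀ c ∈ listE, mC 400 c = mC c 400 → c ∈ [2, 48, 50]) ∧ (∀ c ∈ [2, 48, 50], mC 400 c = mC c 400) ∧
    mPow 400 3 = 0 ∧ 400 < 1152 ∧ (400 : ℕ) ≠ 0 := by decide +kernel

theorem three_in_stab : ∀ c ∈ threeList, (∀ d ∈ listE, ∃ e ∈ listE, mC c d = mC e c) →
    ∃ k < 1152, mC k c = mC 400 k := by decide +kernel

theorem cent_P_codes : ∀ c ∈ invList, (∀ d ∈ listP, mC d c = mC c d) → c = zC := by decide +kernel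

theorem fuse_P : ∀ k < 1152, ∀ d ∈ listP, mC k 400 = mC d k → d = 400 ∨ d = 500 := by decide +kernel

namespace Model

variable {G : Type*} [Group G] [Finite G] {z : G} {Q : Subgroup G} {ψ : ℕ → G} (M : Model z Q ψ)
include M

/-- The images of an elementary group in the centralizer form one of the two. -/
theorem classify {g : G} {L : List ℕ} (hl : L ∈ [listE, listV])
    (hg : ∀ c ∈ L, g * ψ c * g⁻¹ ∈ centralizer ({z} : Set G)) :
    ∃ k ∈ centralizer ({z} : Set G), ∃ L' ∈ [listE, listV], MapsTo ψ (k * g) L L' := by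
  classical
  obtain ⟨hn, hlen, hinv, hcomm⟩ :
      L.Nodup ∧ L.length = 15 ∧ (∀ c ∈ L, c ∈ invList) ∧ ∀ c ∈ L, ∀ d ∈ L, mC c d = mC d c := by
    obtain ⟨a, b, c, d, e, f, -, -, i, j⟩ := four_lists
    rcases List.mem_cons.1 hl with rfl | hl
    · exact ⟨a, c, e, i⟩
    · rcases List.mem_singleton.1 hl with rfl
      exact ⟨b, d, f, j⟩
  have hlt : ∀ c ∈ L, c < 1152 := fun c hc => list_lt.1 c (hinv c hc)
  have img : ∀ c ∈ L, ∃ d ∈ invList, ψ d = g * ψ c * g⁻¹ := fun c hc => by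
    obtain ⟨h2, h1⟩ := M.invol (hinv c hc)
    exact M.inv_code (hg c hc) (by
      rw [show g * ψ c * g⁻¹ * (g * ψ c * g⁻¹) = g * (ψ c * ψ c) * g⁻¹ by group, h2]; group)
      (fun e => h1 (conj_eq_one_iff.1 e))
  have icomm : ∀ c ∈ L, ∀ d ∈ L, ∀ c' ∈ invList, ∀ d' ∈ invList, ψ c' = g * ψ c * g⁻¹ → ψ d' = g * ψ d * g⁻¹ →
      mC c' d' = mC d' c' := by
    intro c hc d hd c' hc' d' hd' ec ed
    rw [← M.comm_iff (list_lt.1 c' hc') (list_lt.1 d' hd'), ec, ed]
    calc g * ψ c * g⁻¹ * (g * ψ d * g⁻¹) = g * (ψ c * ψ d) * g⁻¹ := by group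
      _ = g * (ψ d * ψ c) * g⁻¹ := by rw [(M.comm_iff (hlt c hc) (hlt d hd)).2 (hcomm c hc d hd)]
      _ = _ := by group
  obtain ⟨c₀, hc₀, d₀, hd₀, e₀, hout⟩ : ∃ c ∈ L, ∃ d ∈ invList, ψ d = g * ψ c * g⁻¹ ∧ inQ d = false := by
    by_contra hcon
    push Not at hcon
    choose f hf using img
    have hfQ : ∀ c (hc : c ∈ L), f c hc ∈ qInvList := fun c hc =>
      (qInvList_iff _ (hf c hc).1).1 (by simpa using hcon c hc _ (hf c hc).1 (hf c hc).2)
    let F : {c // c ∈ L.toFinset} → ℕ := fun c => f c (List.mem_toFinset.1 c.2)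
    have hF : Function.Injective F := fun c d e => by
      have hc := (hf c (List.mem_toFinset.1 c.2)).2
      rw [show f c (List.mem_toFinset.1 c.2) = f d (List.mem_toFinset.1 d.2) from e,
        (hf d (List.mem_toFinset.1 d.2)).2] at hc
      exact Subtype.ext (M.inj _ (hlt _ (List.mem_toFinset.1 c.2)) _ (hlt _ (List.mem_toFinset.1 d.2))
        (mul_left_cancel (mul_right_cancel hc)).symm)
    let T : Finset ℕ := Finset.univ.image F
    have hT : T.card = 15 := by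
      rw [Finset.card_image_of_injective _ hF, Finset.card_univ, Fintype.card_coe, List.toFinset_card_of_nodup hn, hlen]
    obtain ⟨e, he, hez⟩ : ∃ e ∈ T, e ≠ zC := by
      by_contra h
      push Not at h
      have hsub : T ⊆ {zC} := fun e he => Finset.mem_singleton.2 (h e he)
      have := Finset.card_le_card hsub
      rw [hT, Finset.card_singleton] at this
      omega
    simp only [T, Finset.mem_image, Finset.mem_univ, true_and] at he
    obtain ⟨a, rfl⟩ := he
    have hsub : T ⊆ (qInvList.filter fun d => mC (F a) d == mC d (F a)).toFinset := by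
      intro d hd
      simp only [T, Finset.mem_image, Finset.mem_univ, true_and] at hd
      obtain ⟨b, rfl⟩ := hd
      refine List.mem_toFinset.2 (List.mem_filter.2 ⟨hfQ _ _, ?_⟩)
      simpa using icomm _ (List.mem_toFinset.1 a.2) _ (List.mem_toFinset.1 b.2) _ (hf _ _).1 _ (hf _ _).1
        (hf _ _).2 (hf _ _).2
    have := (Finset.card_le_card hsub).trans (List.toFinset_card_le _)
    have := q_few (F a) (hfQ _ _) hez
    omega
  have ld₀ := list_lt.1 d₀ hd₀
  obtain ⟨hm2, hm7⟩ := out_moves d₀ hd₀ hout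
  have move : ∀ k < 1152, ∀ t < 1152, mC k d₀ = mC t k → ∀ L' : List ℕ,
      (∀ c ∈ invList, mC c t = mC t c → c ∈ L') → MapsTo ψ (ψ k * g) L L' := by
    intro k hk t ht e L' hL' c hc
    obtain ⟨d, hd, ed⟩ := img c hc
    have ld := list_lt.1 d hd
    obtain ⟨hd2, hd1⟩ := M.invol hd
    obtain ⟨m, hm, em⟩ := M.inv_code (g := ψ k * ψ d * (ψ k)⁻¹)
      (mul_mem (mul_mem (M.mem k hk) (M.mem d ld)) (inv_mem (M.mem k hk)))
      (by rw [show ψ k * ψ d * (ψ k)⁻¹ * (ψ k * ψ d * (ψ k)⁻¹) = ψ k * (ψ d * ψ d) * (ψ k)⁻¹ by group, hd2]; group)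
      (fun e => hd1 (conj_eq_one_iff.1 e))
    refine ⟨m, hL' m hm ?_, by rw [em, ed]; group⟩
    rw [← M.comm_iff (list_lt.1 m hm) ht, em, ← M.conj_eq hk ld₀ ht e]
    calc ψ k * ψ d * (ψ k)⁻¹ * (ψ k * ψ d₀ * (ψ k)⁻¹) = ψ k * (ψ d * ψ d₀) * (ψ k)⁻¹ := by group
      _ = ψ k * (ψ d₀ * ψ d) * (ψ k)⁻¹ := by
        rw [(M.comm_iff ld ld₀).2 (icomm c hc c₀ hc₀ d hd d₀ hd₀ ed e₀)]
      _ = _ := by group
  cases hF : cF d₀
  · obtain ⟨k, hk, e⟩ := hm2 hF
    exact ⟨ψ k, M.mem k hk, listE, List.mem_cons_self, move k hk 2 (by norm_num) e _ cent_outer.1⟩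
  · obtain ⟨k, hk, e⟩ := hm7 hF
    exact ⟨ψ k, M.mem k hk, listV, List.mem_cons_of_mem _ List.mem_cons_self,
      move k hk 7 (by norm_num) e _ cent_outer.2⟩

theorem card_stab_cent {L : List ℕ} (hl : L ∈ [listE, listV]) :
    Nat.card {g : G // g ∈ centralizer ({z} : Set G) ∧ MapsTo ψ g L L} = 384 := by
  have hlt : ∀ c ∈ L, c < 1152 := by
    fin_cases hl
    · exact lists_lt.1
    · exact lists_lt.2.1
  rw [← stab_count L hl, M.card_pred]
  intro k hk
  rw [M.mapsTo_code hk hlt hlt]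
  simp [List.all_eq_true, List.any_eq_true]

theorem inE {c : ℕ} (hc : c ∈ listE) : ψ c ∈ stabList ψ listE := fun d hd => by
  have lc := lists_lt.1 c hc
  refine ⟨d, hd, M.conj_eq lc (lists_lt.1 d hd) (lists_lt.1 d hd) ?_⟩
  exact four_lists.2.2.2.2.2.2.2.2.1 c hc d hd

/-- The involutions of the elementary group are conjugate in its normalizer. -/
theorem transE {p : ℕ} (hp : p ∈ listE) : ∃ g ∈ stabList ψ listE, g * ψ p * g⁻¹ = z := by
  classical
  obtain ⟨nE, nV, lenE, lenV, iE, -, zE, -, cE', -⟩ := four_lists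
  by_contra hcon
  push Not at hcon
  set N := stabList ψ listE with hN
  -- every point outside the orbit is carried to the centre by a map to the other list
  have toV : ∀ q ∈ listE, (∀ g ∈ N, g * ψ q * g⁻¹ ≠ z) →
      ∃ g : G, g * ψ q * g⁻¹ = z ∧ MapsTo ψ g listE listV := by
    intro q hq hno
    obtain ⟨h2, h1⟩ := M.invol (iE q hq)
    obtain ⟨g, hg⟩ := M.exists_conj h2 h1
    obtain ⟨k, hk, L', hL', hmap⟩ := M.classify (g := g) (L := listE) List.mem_cons_self (fun c hc => by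
      refine mem_centralizer_singleton_iff.2 ?_
      rw [← hg]
      calc g * ψ c * g⁻¹ * (g * ψ q * g⁻¹) = g * (ψ c * ψ q) * g⁻¹ := by group
        _ = g * (ψ q * ψ c) * g⁻¹ := by
          rw [(M.comm_iff (lists_lt.1 c hc) (lists_lt.1 q hq)).2 (cE' c hc q hq)]
        _ = _ := by group)
    have hkq : k * g * ψ q * (k * g)⁻¹ = z := by
      rw [show k * g * ψ q * (k * g)⁻¹ = k * (g * ψ q * g⁻¹) * k⁻¹ by group, hg,
        mem_centralizer_singleton_iff.1 hk, mul_inv_cancel_right]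
    rcases List.mem_cons.1 hL' with rfl | hL'
    · exact absurd hkq (hno _ hmap)
    · rcases List.mem_singleton.1 hL' with rfl
      exact ⟨_, hkq, hmap⟩
  obtain ⟨g₀, hg₀, hm₀⟩ := toV p hp hcon
  let zn : N := ⟨z, M.at_z ▸ M.inE zE⟩
  let pn : N := ⟨ψ p, M.inE hp⟩
  have conj_mem : ∀ (n x : N), IsConj n x → (∃ c ∈ listE, ψ c = (n : G)) → ∃ c ∈ listE, ψ c = (x : G) := by
    intro n x h ⟨c, hc, e⟩
    obtain ⟨m, hm⟩ := isConj_iff.1 h
    obtain ⟨d, hd, ed⟩ := m.2 c hc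
    exact ⟨d, hd, by rw [← ed, e, ← hm]; rfl⟩
  have hcent : ∀ n : N, Nat.card (centralizer ({n} : Set N)) =
      Nat.card {g : G // g * (n : G) = (n : G) * g ∧ MapsTo ψ g listE listE} := fun n =>
    Nat.card_congr
      { toFun := fun g => ⟨g.1.1, congrArg Subtype.val (mem_centralizer_singleton_iff.1 g.2), g.1.2⟩
        invFun := fun g => ⟨⟨g.1, g.2.2⟩, mem_centralizer_singleton_iff.2 (Subtype.ext g.2.1)⟩
        left_inv := fun g => rfl
        right_inv := fun g => rfl }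
  have hz384 : Nat.card (centralizer ({zn} : Set N)) = 384 := by
    rw [hcent, ← M.card_stab_cent (L := listE) List.mem_cons_self]
    exact Nat.card_congr (Equiv.subtypeEquivRight fun g => by rw [mem_centralizer_singleton_iff])
  have hp384 : Nat.card (centralizer ({pn} : Set N)) = 384 := by
    rw [hcent, ← M.card_stab_cent (L := listV) (List.mem_cons_of_mem _ List.mem_cons_self)]
    refine Nat.card_congr ((MulAut.conj g₀).toEquiv.subtypeEquiv fun g => ?_)
    show g * ψ p = ψ p * g ∧ _ ↔ g₀ * g * g₀⁻¹ ∈ centralizer ({z} : Set G) ∧ _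
    rw [mem_centralizer_singleton_iff, ← hg₀]
    have hinv := M.mapsTo_symm hm₀ nE nV lists_lt.1 (by rw [lenE, lenV])
    refine and_congr ⟨fun h => ?_, fun h => ?_⟩ ⟨fun h => ?_, fun h => ?_⟩
    · calc g₀ * g * g₀⁻¹ * (g₀ * ψ p * g₀⁻¹) = g₀ * (g * ψ p) * g₀⁻¹ := by group
        _ = g₀ * (ψ p * g) * g₀⁻¹ := by rw [show g * ψ p = ψ p * g from h]
        _ = _ := by group
    · refine mul_left_cancel (a := g₀) (mul_right_cancel (b := g₀⁻¹) ?_)
      calc g₀ * (g * ψ p) * g₀⁻¹ = g₀ * g * g₀⁻¹ * (g₀ * ψ p * g₀⁻¹) := by group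
        _ = g₀ * ψ p * g₀⁻¹ * (g₀ * g * g₀⁻¹) := h
        _ = _ := by group
    · have := mapsTo_comp (mapsTo_comp hinv h) hm₀
      rwa [← mul_assoc] at this
    · have := mapsTo_comp (mapsTo_comp hm₀ h) hinv
      simpa [mul_assoc] using this
  have hcls : ∀ n : N, Nat.card {x : N // IsConj n x} * Nat.card (centralizer ({n} : Set N)) = Nat.card N :=
    fun n => by rw [CfsgLib.Char.card_isConj, Subgroup.index_mul_card]
  have hsum : Nat.card {x : N // IsConj zn x} + Nat.card {x : N // IsConj pn x} = 15 := by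
    rw [← Nat.card_sum, ← lenE, ← M.card_list lists_lt.1 nE]
    have hno : ¬ IsConj pn zn := fun h => by
      obtain ⟨m, hm⟩ := isConj_iff.1 h
      exact hcon m m.2 (congrArg Subtype.val hm)
    refine Nat.card_eq_of_bijective (Sum.elim
      (fun x => (⟨x.1, conj_mem zn x.1 x.2 ⟨48, zE, M.at_z⟩⟩ : {g : G // ∃ c ∈ listE, ψ c = g}))
      (fun x => ⟨x.1, conj_mem pn x.1 x.2 ⟨p, hp, rfl⟩⟩)) ⟨?_, ?_⟩
    · rintro (x | x) (y | y) h <;>
        (simp only [Sum.elim_inl, Sum.elim_inr, Subtype.mk.injEq] at h; replace h := Subtype.ext h)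
      · rw [show x = y from Subtype.ext h]
      · exact absurd (y.2.trans (h ▸ x.2.symm)) hno
      · exact absurd (x.2.trans (h ▸ y.2.symm)) hno
      · rw [show x = y from Subtype.ext h]
    · rintro ⟨_, c, hc, rfl⟩
      by_cases h : ∃ g ∈ N, g * ψ c * g⁻¹ = z
      · obtain ⟨g, hg, e⟩ := h
        exact ⟨Sum.inl ⟨⟨ψ c, M.inE hc⟩, (isConj_iff.2 ⟨⟨g, hg⟩, Subtype.ext e⟩).symm⟩, rfl⟩
      · push Not at h
        obtain ⟨g, hg, hm⟩ := toV c hc h
        have hmem : g⁻¹ * g₀ ∈ N := mapsTo_comp hm₀ (M.mapsTo_symm hm nE nV lists_lt.1 (by rw [lenE, lenV]))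
        refine ⟨Sum.inr ⟨⟨ψ c, M.inE hc⟩, isConj_iff.2 ⟨⟨_, hmem⟩, Subtype.ext ?_⟩⟩, rfl⟩
        show g⁻¹ * g₀ * ψ p * (g⁻¹ * g₀)⁻¹ = ψ c
        rw [show g⁻¹ * g₀ * ψ p * (g⁻¹ * g₀)⁻¹ = g⁻¹ * (g₀ * ψ p * g₀⁻¹) * g by group, hg₀, ← hg]
        group
  have h1 := hcls zn
  have h2 := hcls pn
  rw [hz384] at h1
  rw [hp384] at h2
  omega

/-- The normalizer of the elementary group has order `5760`. -/
theorem card_stabE : Nat.card (stabList ψ listE) = 5760 := by
  classical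
  obtain ⟨nE, -, lenE, -, -, -, zE, -⟩ := four_lists
  set N := stabList ψ listE with hN
  let zn : N := ⟨z, M.at_z ▸ M.inE zE⟩
  have h384 : Nat.card (centralizer ({zn} : Set N)) = 384 := by
    rw [← M.card_stab_cent (L := listE) List.mem_cons_self]
    exact Nat.card_congr
      { toFun := fun g => ⟨g.1.1,
          mem_centralizer_singleton_iff.2 (congrArg Subtype.val (mem_centralizer_singleton_iff.1 g.2)), g.1.2⟩
        invFun := fun g => ⟨⟨g.1, g.2.2⟩,
          mem_centralizer_singleton_iff.2 (Subtype.ext (mem_centralizer_singleton_iff.1 g.2.1))⟩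
        left_inv := fun g => rfl
        right_inv := fun g => rfl }
  have h15 : Nat.card {x : N // IsConj zn x} = 15 := by
    rw [← lenE, ← M.card_list lists_lt.1 nE]
    refine Nat.card_eq_of_bijective (fun x => ⟨x.1, ?_⟩) ⟨fun x y h => Subtype.ext (Subtype.ext (congrArg
      Subtype.val h :)), ?_⟩
    · obtain ⟨m, hm⟩ := isConj_iff.1 x.2
      obtain ⟨d, hd, ed⟩ := m.2 48 zE
      exact ⟨d, hd, by rw [← ed, M.at_z, ← hm]; rfl⟩
    · rintro ⟨_, c, hc, rfl⟩
      obtain ⟨g, hg, e⟩ := M.transE hc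
      exact ⟨⟨⟨ψ c, M.inE hc⟩, (isConj_iff.2 ⟨⟨g, hg⟩, Subtype.ext e⟩).symm⟩, rfl⟩
  have := Subgroup.index_mul_card (centralizer ({zn} : Set N))
  rw [← CfsgLib.Char.card_isConj, h384, h15] at this
  exact this.symm

/-- The centralizer of the Sylow 3-subgroup of the centralizer is not inside it. -/
theorem exists_cent_P : ∃ g ∈ centralizer (M.grpP : Set G), g ∉ centralizer ({z} : Set G) := by
  classical
  haveI : Fact (Nat.Prime 3) := ⟨Nat.prime_three⟩
  by_contra hcon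
  push Not at hcon
  set P := M.grpP with hP
  set C := centralizer ({z} : Set G) with hC
  have hNP : normalizer (P : Set G) ≤ C := by
    intro g hg
    have hgz : g * z * g⁻¹ ∈ centralizer (P : Set G) := by
      refine mem_centralizer_iff.2 fun x hx => ?_
      have hx' : g⁻¹ * x * g ∈ P := by
        have := (mem_normalizer_iff.1 (inv_mem hg) x).1 hx
        rwa [inv_inv] at this
      obtain ⟨c, hc, e⟩ := hx'
      calc x * (g * z * g⁻¹) = g * (g⁻¹ * x * g * z) * g⁻¹ := by group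
        _ = g * (z * (g⁻¹ * x * g)) * g⁻¹ := by rw [← e, M.comm_z (lists_lt.2.2 c hc)]
        _ = g * z * g⁻¹ * x := by group
    have h2 : g * z * g⁻¹ * (g * z * g⁻¹) = 1 := by
      rw [show g * z * g⁻¹ * (g * z * g⁻¹) = g * (z * z) * g⁻¹ by group, M.zz]; group
    obtain ⟨c, hc, e⟩ := M.inv_code (hcon _ hgz) h2 (fun e => M.z_ne (conj_eq_one_iff.1 e))
    have : c = zC := cent_P_codes c hc fun d hd =>
      (M.comm_iff (lists_lt.2.2 d hd) (list_lt.1 c hc)).1 (by rw [e]; exact M.mem_cent_grpP.1 hgz d hd)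
    subst this
    rw [M.at_z] at e
    refine mem_centralizer_singleton_iff.2 ?_
    calc g * z = g * z * g⁻¹ * g := by group
      _ = z * g := by rw [← e]
  have h27 : ¬ 3 ^ (2 + 1) ∣ Nat.card G := fun h => by
    have h' := (Sylow.prime_pow_dvd_card_normalizer h (by rw [hP, M.card_grpP]; norm_num)).trans
      (Subgroup.card_dvd_of_le hNP)
    rw [hC, M.card] at h'
    norm_num at h'
  have hfac : (Nat.card G).factorization 3 = 2 := by
    refine le_antisymm ?_ ?_
    · by_contra h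
      exact h27 ((Nat.Prime.pow_dvd_iff_le_factorization Nat.prime_three Nat.card_pos.ne').2 (by omega))
    · refine (Nat.Prime.pow_dvd_iff_le_factorization Nat.prime_three Nat.card_pos.ne').1 ?_
      have h := Subgroup.card_subgroup_dvd_card P
      rwa [hP, M.card_grpP] at h
  let PS : Sylow 3 G := Sylow.ofCard P (by rw [hfac, hP, M.card_grpP]; norm_num)
  -- a subgroup of order nine normalizing the elementary group
  obtain ⟨hsN, hs2, hs2', hs3, hsl, hs0⟩ := s_facts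
  set N := stabList ψ listE with hN
  have hsN' : ψ 400 ∈ N := (M.mapsTo_code hsl lists_lt.1 lists_lt.1).2 hsN
  let sn : N := ⟨ψ 400, hsN'⟩
  have hs3G : ψ 400 ^ 3 = 1 := by rw [M.pow hsl, hs3, M.one]
  have hs1 : ψ 400 ≠ 1 := fun e => hs0 ((M.eq_one_iff hsl).1 e)
  have hsp : IsPGroup 3 (zpowers sn) := IsPGroup.of_card (n := 1) (by
    rw [Nat.card_zpowers, pow_one, orderOf_eq_prime (Subtype.ext hs3G) fun e => hs1 (congrArg Subtype.val e)])
  obtain ⟨T₀, hT₀⟩ := hsp.exists_le_sylow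
  have hT9 : Nat.card (T₀ : Subgroup N) = 3 ^ 2 := by
    rw [T₀.card_eq_multiplicity, hN, M.card_stabE]
    congr 1
    rw [show (5760 : ℕ) = 3 ^ 2 * 640 by norm_num, Nat.factorization_mul (by norm_num) (by norm_num),
      Finsupp.add_apply, Nat.factorization_pow_self Nat.prime_three,
      Nat.factorization_eq_zero_of_not_dvd (by norm_num : ¬ 3 ∣ 640)]
  have hcomm := IsPGroup.commutative_of_card_eq_prime_sq hT9
  have hsT : sn ∈ (T₀ : Subgroup N) := hT₀ (mem_zpowers sn)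
  obtain ⟨nE, -, lenE, -, -, -, zE, -⟩ := four_lists
  -- an element of it outside the first subgroup of order three fixing an involution
  obtain ⟨t, htT, p, hp, hpf, htp, ht1⟩ : ∃ t : N, t ∈ (T₀ : Subgroup N) ∧ ∃ p ∈ listE,
      mC 400 p ≠ mC p 400 ∧ (t : G) * ψ p * (t : G)⁻¹ = ψ p ∧ t ≠ 1 := by
    by_contra hfree
    push Not at hfree
    let X := {c // c ∈ listE.filter fun c => mC 400 c != mC c 400}
    have hX : Nat.card X = 12 := by
      rw [Nat.card_congr (Equiv.subtypeEquivRight fun c => (List.mem_toFinset).symm), Nat.card_eq_finsetCard]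
      decide +kernel
    haveI : Finite X := Nat.finite_of_card_ne_zero (by omega)
    have hX' : ∀ c : X, (c : ℕ) ∈ listE ∧ mC 400 c ≠ mC c 400 := fun c => by
      obtain ⟨h1, h2⟩ := List.mem_filter.1 c.2
      exact ⟨h1, by simpa using h2⟩
    have act : ∀ (t : (T₀ : Subgroup N)) (c : X), ∃ d : X, (t : G) * ψ c * (t : G)⁻¹ = ψ d := by
      intro t c
      obtain ⟨d, hd, e⟩ := (t : N).2 c (hX' c).1
      refine ⟨⟨d, List.mem_filter.2 ⟨hd, ?_⟩⟩, e⟩
      rw [bne_iff_ne]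
      intro h
      have hts : (t : G) * ψ 400 = ψ 400 * (t : G) :=
        congrArg Subtype.val (congrArg Subtype.val (hcomm t ⟨sn, hsT⟩))
      refine (hX' c).2 ((M.comm_iff hsl (lists_lt.1 c (hX' c).1)).1 ?_)
      have h' := (M.comm_iff hsl (lists_lt.1 d hd)).2 h
      rw [← e] at h'
      refine mul_left_cancel (a := (t : G)) (mul_right_cancel (b := (t : G)⁻¹) ?_)
      calc (t : G) * (ψ 400 * ψ c) * (t : G)⁻¹ = ψ 400 * ((t : G) * ψ c * (t : G)⁻¹) := by
            rw [← mul_assoc, hts]; group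
        _ = (t : G) * ψ c * (t : G)⁻¹ * ψ 400 := h'
        _ = (t : G) * ψ c * ((t : G)⁻¹ * ψ 400 * (t : G)) * (t : G)⁻¹ := by group
        _ = _ := by rw [show (t : G)⁻¹ * ψ 400 * (t : G) = ψ 400 by rw [mul_assoc, ← hts]; group]; group
    choose o ho using act
    have free : ∀ (c : X) (t t' : (T₀ : Subgroup N)), o t c = o t' c → t = t' := by
      intro c t t' e
      by_contra hne
      refine hne (inv_mul_eq_one.1 ?_).symm
      by_contra h1
      exact h1 (Subtype.ext (hfree ((t'⁻¹ * t : (T₀ : Subgroup N)) : N) (t'⁻¹ * t).2 c (hX' c).1 (hX' c).2 (by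
        have h : (t : G) * ψ c * (t : G)⁻¹ = (t' : G) * ψ c * (t' : G)⁻¹ := by rw [ho, ho, e]
        push_cast
        calc (t' : G)⁻¹ * (t : G) * ψ c * ((t' : G)⁻¹ * (t : G))⁻¹
            = (t' : G)⁻¹ * ((t : G) * ψ c * (t : G)⁻¹) * (t' : G) := by group
          _ = ψ c := by rw [h]; group)))
    obtain ⟨c₀⟩ : Nonempty X := (Nat.card_pos_iff.1 (by omega : 0 < Nat.card X)).1
    obtain ⟨c₁, hc₁⟩ : ∃ c₁ : X, ∀ t, o t c₀ ≠ c₁ := by
      by_contra h
      push Not at h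
      have := Nat.card_le_card_of_surjective (fun t => o t c₀) h
      omega
    have hinj : Function.Injective fun b : (T₀ : Subgroup N) ⊕ (T₀ : Subgroup N) =>
        Sum.elim (fun t => o t c₀) (fun t => o t c₁) b := by
      rintro (t | t) (t' | t') h <;> dsimp only [Sum.elim_inl, Sum.elim_inr] at h
      · rw [free c₀ t t' h]
      · refine absurd ?_ (hc₁ (t'⁻¹ * t))
        refine Subtype.ext (M.inj _ (lists_lt.1 _ (hX' _).1) _ (lists_lt.1 _ (hX' c₁).1) ?_)
        rw [← ho]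
        push_cast
        rw [show (t' : G)⁻¹ * (t : G) * ψ c₀ * ((t' : G)⁻¹ * (t : G))⁻¹ =
          (t' : G)⁻¹ * ((t : G) * ψ c₀ * (t : G)⁻¹) * (t' : G) by group, ho, h, ← ho]
        group
      · refine absurd ?_ (hc₁ (t⁻¹ * t'))
        refine Subtype.ext (M.inj _ (lists_lt.1 _ (hX' _).1) _ (lists_lt.1 _ (hX' c₁).1) ?_)
        rw [← ho]
        push_cast
        rw [show (t : G)⁻¹ * (t' : G) * ψ c₀ * ((t : G)⁻¹ * (t' : G))⁻¹ =
          (t : G)⁻¹ * ((t' : G) * ψ c₀ * (t' : G)⁻¹) * (t : G) by group, ho, ← h, ← ho]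
        group
      · rw [free c₁ t t' h]
    have := Nat.card_le_card_of_injective _ hinj
    rw [Nat.card_sum, hT9, hX] at this
    omega
  -- a power of order three
  obtain ⟨u, hu, hu3, hup, hu1⟩ : ∃ u : N, u ∈ (T₀ : Subgroup N) ∧ u ^ 3 = 1 ∧
      (u : G) * ψ p * (u : G)⁻¹ = ψ p ∧ u ≠ 1 := by
    have h9 : t ^ 9 = 1 := by
      have h := pow_card_eq_one' (x := (⟨t, htT⟩ : (T₀ : Subgroup N)))
      rw [hT9] at h
      exact congrArg Subtype.val h
    by_cases h3 : t ^ 3 = 1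
    · exact ⟨t, htT, h3, htp, ht1⟩
    · refine ⟨t ^ 3, pow_mem htT 3, by rw [← pow_mul]; exact h9, ?_, h3⟩
      have hc : Commute (t : G) (ψ p) := mul_inv_eq_iff_eq_mul.1 htp
      push_cast
      rw [(hc.pow_left 3).eq, mul_inv_cancel_right]
  obtain ⟨g, hgN, hgp⟩ := M.transE hp
  have hv : g * (u : G) * g⁻¹ ∈ N := mul_mem (mul_mem hgN u.2) (inv_mem hgN)
  obtain ⟨c, hc, hce⟩ := M.three_code (g := g * (u : G) * g⁻¹) (mem_centralizer_singleton_iff.2 (by
      rw [← hgp]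
      calc g * (u : G) * g⁻¹ * (g * ψ p * g⁻¹) = g * ((u : G) * ψ p * (u : G)⁻¹ * (u : G)) * g⁻¹ := by group
        _ = g * (ψ p * (u : G)) * g⁻¹ := by rw [hup]
        _ = _ := by group))
    (by
      rw [conj_pow, show (u : G) ^ 3 = 1 from congrArg Subtype.val hu3]
      group)
    (fun e => hu1 (Subtype.ext (conj_eq_one_iff.1 e)))
  obtain ⟨k, hk, hck⟩ := three_in_stab c hc
    ((M.mapsTo_code (list_lt.2.1 c hc) lists_lt.1 lists_lt.1).1 (hce ▸ hv))
  have huconj : IsConj (u : G) (ψ 400) :=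
    (isConj_iff.2 ⟨g, hce.symm⟩).trans (isConj_iff.2 ⟨ψ k, M.conj_eq hk (list_lt.2.1 c hc) hsl hck⟩)
  -- conjugate into the Sylow subgroup of the centralizer
  obtain ⟨T', hT'⟩ := (T₀.isPGroup'.map N.subtype).exists_le_sylow
  obtain ⟨h, hh⟩ := MulAction.exists_smul_eq G T' PS
  have toP : ∀ x : N, x ∈ (T₀ : Subgroup N) → h * (x : G) * h⁻¹ ∈ P := fun x hx => by
    show h * (x : G) * h⁻¹ ∈ (PS : Subgroup G)
    rw [← hh, Sylow.coe_subgroup_smul]
    exact ⟨x, hT' ⟨x, hx, rfl⟩, rfl⟩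
  have hPc : P ≤ centralizer (P : Set G) := fun x ⟨c, hc, e⟩ => M.mem_cent_grpP.2 fun d hd => by
    have key : ∀ c ∈ listP, ∀ d ∈ listP, mC d c = mC c d := by decide +kernel
    rw [← e]
    exact (M.comm_iff (lists_lt.2.2 d hd) (lists_lt.2.2 c hc)).2 (key c hc d hd)
  have h400P : ψ 400 ∈ P := ⟨400, by decide, rfl⟩
  have fus : ∀ x ∈ P, IsConj (ψ 400) x → x ∈ zpowers (ψ 400) := by
    intro x hx hcx
    obtain ⟨m, hm⟩ := isConj_iff.1 hcx
    obtain ⟨n, hn, hne⟩ := Sylow.conj_eq_normalizer_conj_of_mem_centralizer PS (ψ 400) m⁻¹ (hPc h400P)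
      (by rw [inv_inv, hm]; exact hPc hx)
    rw [inv_inv, hm] at hne
    obtain ⟨j, hj, je⟩ := M.surj n⁻¹ (hNP (inv_mem hn))
    obtain ⟨d, hd, de⟩ := hx
    have e : mC j 400 = mC d j := (M.conj_iff hj hsl (lists_lt.2.2 d hd)).1 (by rw [je, inv_inv, de, hne])
    rcases fuse_P j hj d hd e with rfl | rfl
    · exact de ▸ mem_zpowers _
    · rw [← de, show ψ 500 = ψ 400 ^ 2 by
        rw [M.pow hsl, show mPow 400 2 = 500 from by decide +kernel]]
      exact pow_mem (mem_zpowers _) 2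
  have hsx := fus _ (toP sn hsT) (isConj_iff.2 ⟨h, rfl⟩)
  have hux := fus _ (toP u hu) (huconj.symm.trans (isConj_iff.2 ⟨h, rfl⟩))
  -- so the second element is a power of the first
  have ho : orderOf (h * ψ 400 * h⁻¹) = 3 := orderOf_eq_prime (by rw [conj_pow, hs3G]; group)
    fun e => hs1 (conj_eq_one_iff.1 e)
  have hzp : zpowers (h * ψ 400 * h⁻¹) = zpowers (ψ 400) := by
    refine Subgroup.eq_of_le_of_card_ge (zpowers_le.2 hsx) ?_
    rw [Nat.card_zpowers, Nat.card_zpowers, ho, orderOf_eq_prime hs3G hs1]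
  rw [← hzp] at hux
  obtain ⟨i, hi⟩ := mem_zpowers_iff.1 hux
  rw [conj_zpow] at hi
  have hus : (u : G) = ψ 400 ^ i := (mul_left_cancel (mul_right_cancel hi)).symm
  refine hpf ((M.comm_iff hsl (lists_lt.1 p hp)).1 ?_)
  have hc : Commute (u : G) (ψ p) := mul_inv_eq_iff_eq_mul.1 hup
  rw [hus] at hc
  have hcop : ¬ (3 : ℤ) ∣ i := fun ⟨l, hl⟩ => hu1 (Subtype.ext (by
    show (u : G) = 1
    rw [hus, hl, zpow_mul, show (3 : ℤ) = ((3 : ℕ) : ℤ) from rfl, zpow_natCast, hs3G, one_zpow]))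
  obtain ⟨a, b, hab⟩ : IsCoprime (3 : ℤ) i := Int.prime_three.coprime_iff_not_dvd.2 hcop
  have h := hc.zpow_left b
  rw [← zpow_mul] at h
  have e : ψ 400 ^ (i * b) = ψ 400 := by
    rw [show i * b = 1 + 3 * (-a) by linarith, zpow_add, zpow_one, zpow_mul,
      show (3 : ℤ) = ((3 : ℕ) : ℤ) from rfl, zpow_natCast, hs3G, one_zpow, mul_one]
  rw [e] at h
  exact h.eq

end Model

end

end CfsgLib.Spor.UFourType
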