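import Cfsg.Agent.Lib.Spor.UFourType.Swap

/-!
# Coordinates on the centralizer of the involution
-/

set_option autoImplicit false
set_option linter.unusedSectionVars false
set_option synthInstance.maxSize 4096

namespace CfsgLib.Spor.UFourType

open Subgroup

noncomputable section

/-- The element `p` of the square of the outer generator. -/
def sqA (p : Bool) : ℕ := if p then 13 else 1

/-- The four extensions. -/
structure Frame {G : Type*} [Group G] (z : G) (Q H₁ H₂ : Subgroup G) (f₁ f₂ : Sl →* G) (x y : G)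
    (p q : Bool) : Prop where
  coord : Coord z Q H₁ H₂ f₁ f₂
  x_mem : x ∈ centralizer ({z} : Set G)
  y_mem : y ∈ centralizer ({z} : Set G)
  xx : x * x = 1
  x₁ : ∀ a < 24, x * f₁ (sl a) * x⁻¹ = f₂ (sl a)
  y₁ : ∀ a < 24, y * f₁ (sl a) * y⁻¹ = f₁ (sl (sGam a))
  y₂ : ∀ a < 24, y * f₂ (sl a) * y⁻¹ = f₂ (sl (sGam a))
  y_notMem : y ∉ H₁ ⊔ H₂
  x_side : ∀ k ∈ H₁ ⊔ H₂, x ≠ k ∧ x * y ≠ k
  yy : y * y = pk f₁ f₂ (sqA p) 1
  xyx : x * y * x = if q then y * z else y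

theorem sGam_one : sGam 1 = 1 := by decide +kernel

theorem sqA_lt (p : Bool) : sqA p < 24 := by cases p <;> decide

/-- The coordinates of an element. -/
def psi {G : Type*} [Group G] (f₁ f₂ : Sl →* G) (x y : G) (c : ℕ) : G :=
  pk f₁ f₂ (cA c) (cB c) * x ^ (cE c).toNat * y ^ (cF c).toNat

theorem code_lt : ∀ c < 1152, cA c < 12 ∧ cB c < 24 ∧ code (cA c) (cB c) (cE c) (cF c) = c := by decide +kernel

theorem code_fields : ∀ a < 24, ∀ b < 24, ∀ e f : Bool, code a b e f < 1152 ∧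
    cE (code a b e f) = e ∧ cF (code a b e f) = f ∧
    ((cA (code a b e f) = a ∧ cB (code a b e f) = b) ∨
      (cA (code a b e f) = sNeg a ∧ cB (code a b e f) = sNeg b)) := by decide +kernel

variable {G : Type*} [Group G] {z : G} {Q H₁ H₂ : Subgroup G} {f₁ f₂ : Sl →* G}

namespace Coord

variable (S : Coord z Q H₁ H₂ f₁ f₂)
include S

theorem acts_gam {c : G} (hc : c ∈ centralizer ({z} : Set G)) {k k' : Fin 24}
    (h₁ : ∀ s, c * f₁ s * c⁻¹ = f₁ (autHom true k s)) (h₂ : ∀ s, c * f₂ s * c⁻¹ = f₂ (autHom true k' s)) :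
    ∃ d ∈ centralizer ({z} : Set G), (d ∈ H₁ ⊔ H₂ → c ∈ H₁ ⊔ H₂) ∧
      (∀ a < 24, d * f₁ (sl a) * d⁻¹ = f₁ (sl (sGam a))) ∧
      ∀ a < 24, d * f₂ (sl a) * d⁻¹ = f₂ (sl (sGam a)) := by
  set m := pk f₁ f₂ k k' with hm
  have hmC : m ∈ centralizer ({z} : Set G) := S.K_le (S.pk_mem_K _ _)
  have hg : ∀ (h : Fin 24), ∀ a < 24, sl (aut true h a) = sl h * sl (sGam a) * (sl h)⁻¹ := fun h a ha => by
    show sl (sMul (sMul h (sGam a)) (sInv h)) = _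
    rw [sl_mul _ (sMul_lt _ h.isLt _ (sGam_lt a ha)) _ (sInv_spec h h.isLt).1, sl_mul _ h.isLt _ (sGam_lt a ha),
      sl_inv _ h.isLt]
  refine ⟨m⁻¹ * c, mul_mem (inv_mem hmC) hc, fun h => ?_, fun a ha => ?_, fun a ha => ?_⟩
  · have := mul_mem (S.pk_mem_K k k') h
    rwa [← hm, mul_inv_cancel_left] at this
  · rw [show m⁻¹ * c * f₁ (sl a) * (m⁻¹ * c)⁻¹ = m⁻¹ * (c * f₁ (sl a) * c⁻¹) * m by group, h₁,
      autHom_sl _ _ ha, hg k a ha, map_mul, map_mul, map_inv, hm, pk, mul_inv_rev]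
    calc (f₂ (sl k'))⁻¹ * (f₁ (sl k))⁻¹ * (f₁ (sl k) * f₁ (sl (sGam a)) * (f₁ (sl k))⁻¹) *
          (f₁ (sl k) * f₂ (sl k')) = (f₂ (sl k'))⁻¹ * (f₁ (sl (sGam a)) * f₂ (sl k')) := by group
      _ = _ := by rw [S.comm]; group
  · rw [show m⁻¹ * c * f₂ (sl a) * (m⁻¹ * c)⁻¹ = m⁻¹ * (c * f₂ (sl a) * c⁻¹) * m by group, h₂,
      autHom_sl _ _ ha, hg k' a ha, map_mul, map_mul, map_inv, hm, pk, S.comm, mul_inv_rev]
    calc (f₁ (sl k))⁻¹ * (f₂ (sl k'))⁻¹ * (f₂ (sl k') * f₂ (sl (sGam a)) * (f₂ (sl k'))⁻¹) *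
          (f₂ (sl k') * f₁ (sl k)) = (f₁ (sl k))⁻¹ * (f₂ (sl (sGam a)) * f₁ (sl k)) := by group
      _ = _ := by rw [← S.comm]; group

theorem card_K [Finite G] : Nat.card (H₁ ⊔ H₂ : Subgroup G) = 288 := by
  classical
  let f : Fin 12 × Fin 24 → (H₁ ⊔ H₂ : Subgroup G) := fun p => ⟨pk f₁ f₂ p.1 p.2, S.pk_mem_K _ _⟩
  have hf : Function.Bijective f := by
    constructor
    · rintro ⟨a, b⟩ ⟨c, d⟩ e
      rcases S.pk_eq (a.isLt.trans (by norm_num)) b.isLt (c.isLt.trans (by norm_num)) d.isLt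
          (congrArg Subtype.val e) with ⟨e₁, e₂⟩ | ⟨e₁, -⟩
      · exact Prod.ext (Fin.ext e₁) (Fin.ext e₂)
      · exfalso
        have h₁ := a.isLt
        have h₂ := c.isLt
        simp only [sNeg] at e₁
        omega
    · rintro ⟨k, hk⟩
      obtain ⟨a, ha, b, hb, rfl⟩ := S.K_eq k hk
      have key : ∀ x < 24, (¬ x < 12 → sNeg x < 12) ∧ sNeg x < 24 := by decide +kernel
      by_cases h : a < 12
      · exact ⟨(⟨a, h⟩, ⟨b, hb⟩), rfl⟩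
      · exact ⟨(⟨sNeg a, (key a ha).1 h⟩, ⟨sNeg b, (key b hb).2⟩), Subtype.ext (S.pk_neg ha hb)⟩
  rw [← Nat.card_eq_of_bijective f hf, Nat.card_prod, Nat.card_fin, Nat.card_fin]

/-- Coordinates on the whole centralizer exist. -/
theorem exists_frame [Finite G] : ∃ (g₁ g₂ : Sl →* G) (x y : G) (p q : Bool), Frame z Q H₁ H₂ g₁ g₂ x y p q := by
  obtain ⟨x, hx, hxx, hx₁, hx₂⟩ := S.exists_swap
  have hxi : x⁻¹ = x := inv_eq_of_mul_eq_one_right hxx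
  let g₂ : Sl →* G := (MulAut.conj x).toMonoidHom.comp f₁
  have hg : ∀ s, g₂ s = x * f₁ s * x⁻¹ := fun s => rfl
  have T : Coord z Q H₁ H₂ f₁ g₂ := by
    refine ⟨S.hyp, S.inj₁, (MulAut.conj x).injective.comp S.inj₁, S.range₁, le_antisymm ?_ fun h hh => ?_⟩
    · rintro _ ⟨s, rfl⟩
      exact hx₁ s
    · rw [← S.range₂] at hh
      obtain ⟨t, rfl⟩ := hh
      obtain ⟨s, hs⟩ : x * f₂ t * x⁻¹ ∈ f₁.range := by rw [S.range₁]; exact hx₂ t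
      refine ⟨s, ?_⟩
      rw [hg, hs, hxi]
      simp [mul_assoc, hxx, ← mul_assoc x x]
  have hxg : ∀ s, x * g₂ s * x⁻¹ = f₁ s := fun s => by
    rw [hg, hxi]; simp [mul_assoc, hxx, ← mul_assoc x x]
  -- elements of the product fix both groups; no element does both
  have hK₁ : ∀ k ∈ H₁ ⊔ H₂, ∀ h ∈ H₁, k * h * k⁻¹ ∈ H₁ := by
    intro k hk h hh
    obtain ⟨a, -, b, -, rfl⟩ := S.K_eq k hk
    rw [pk, mul_inv_rev, show f₁ (sl a) * f₂ (sl b) * h * ((f₂ (sl b))⁻¹ * (f₁ (sl a))⁻¹) =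
      f₁ (sl a) * (f₂ (sl b) * h) * (f₂ (sl b))⁻¹ * (f₁ (sl a))⁻¹ by group,
      ← S.hyp.comm h hh _ (S.mem₂ _), show f₁ (sl a) * (h * f₂ (sl b)) * (f₂ (sl b))⁻¹ * (f₁ (sl a))⁻¹ =
      f₁ (sl a) * h * (f₁ (sl a))⁻¹ by group]
    exact mul_mem (mul_mem (S.mem₁ _) hh) (inv_mem (S.mem₁ _))
  have hK₂ : ∀ k ∈ H₁ ⊔ H₂, ∀ h ∈ H₂, k * h * k⁻¹ ∈ H₂ := by
    intro k hk h hh
    obtain ⟨a, -, b, -, rfl⟩ := S.K_eq k hk
    rw [pk, S.comm, mul_inv_rev, show f₂ (sl b) * f₁ (sl a) * h * ((f₁ (sl a))⁻¹ * (f₂ (sl b))⁻¹) =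
      f₂ (sl b) * (f₁ (sl a) * h) * (f₁ (sl a))⁻¹ * (f₂ (sl b))⁻¹ by group,
      S.hyp.comm _ (S.mem₁ _) h hh, show f₂ (sl b) * (h * f₁ (sl a)) * (f₁ (sl a))⁻¹ * (f₂ (sl b))⁻¹ =
      f₂ (sl b) * h * (f₂ (sl b))⁻¹ by group]
    exact mul_mem (mul_mem (S.mem₂ _) hh) (inv_mem (S.mem₂ _))
  have side : ∀ d e : G, (∀ s, d * f₁ s * d⁻¹ ∈ H₁) → (∀ s, e * f₁ s * e⁻¹ ∈ H₂) → d ≠ e := by
    rintro d _ h₁ h₂ rfl
    have hm : d * f₁ (sl 4) * d⁻¹ ∈ zpowers z := S.hyp.meet ▸ ⟨h₁ _, h₂ _⟩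
    have h3 : (d * f₁ (sl 4) * d⁻¹) ^ 3 = 1 := by
      rw [conj_pow, ← map_pow, show sl 4 ^ 3 = 1 from by decide +kernel, map_one]; group
    have h1 : (d * f₁ (sl 4) * d⁻¹) ^ 2 = 1 := by
      obtain ⟨k, hk⟩ := mem_zpowers_iff.1 hm
      rw [← hk, ← zpow_natCast, ← zpow_mul, mul_comm, zpow_mul, zpow_natCast, pow_two, S.zz, one_zpow]
    have : d * f₁ (sl 4) * d⁻¹ = 1 := by
      rw [pow_succ, h1, one_mul] at h3; exact h3
    refine base_facts.2.2.1 (S.inj₁ ?_)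
    rw [map_one]
    calc f₁ (sl 4) = d⁻¹ * (d * f₁ (sl 4) * d⁻¹) * d := by group
      _ = 1 := by rw [this]; group
  have p₁ : ∀ k ∈ H₁ ⊔ H₂, ∀ s, k * f₁ s * k⁻¹ ∈ H₁ := fun k hk s => hK₁ k hk _ (S.mem₁ s)
  have p₂ : ∀ k ∈ H₁ ⊔ H₂, ∀ s, k * x * f₁ s * (k * x)⁻¹ ∈ H₂ := fun k hk s => by
    rw [show k * x * f₁ s * (k * x)⁻¹ = k * (x * f₁ s * x⁻¹) * k⁻¹ by group]
    exact hK₂ k hk _ (hx₁ s)
  have hxK : x ∉ H₁ ⊔ H₂ := fun h => side x x (p₁ x h) hx₁ rfl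
  -- an element outside the product and its translate by the involution
  classical
  set K := H₁ ⊔ H₂ with hK
  set C := centralizer ({z} : Set G) with hC
  obtain ⟨c, hc, hcK, hcx⟩ : ∃ c ∈ C, c ∉ K ∧ c * x ∉ K := by
    by_contra hcon
    push Not at hcon
    have hle : Nat.card C ≤ Nat.card (K ⊕ K) := by
      refine Nat.card_le_card_of_injective (fun c : C => if h : (c : G) ∈ K then Sum.inl ⟨c, h⟩
        else Sum.inr ⟨(c : G) * x, hcon c c.2 h⟩) fun c d e => ?_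
      dsimp only at e
      split_ifs at e with h₁ h₂ h₂
      · have e' := Sum.inl_injective e
        exact Subtype.ext (congrArg Subtype.val e' :)
      · have e' := Sum.inr_injective e
        exact Subtype.ext (mul_right_cancel (congrArg Subtype.val e' :))
    rw [Nat.card_sum, S.hyp.card, S.card_K] at hle
    omega
  -- an element fixing both groups outside the product
  obtain ⟨y₀, hy₀, hy₀K, hy₀₁, hy₀₂⟩ : ∃ y₀ ∈ C, y₀ ∉ K ∧ (∀ s, y₀ * f₁ s * y₀⁻¹ ∈ H₁) ∧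
      ∀ s, y₀ * g₂ s * y₀⁻¹ ∈ H₂ := by
    rcases T.side_or hc with ⟨a, b⟩ | ⟨a, b⟩
    · exact ⟨c, hc, hcK, a, b⟩
    · refine ⟨c * x, mul_mem hc hx, hcx, fun s => ?_, fun s => ?_⟩
      · rw [show c * x * f₁ s * (c * x)⁻¹ = c * (x * f₁ s * x⁻¹) * c⁻¹ by group, ← hg]
        exact b s
      · rw [show c * x * g₂ s * (c * x)⁻¹ = c * (x * g₂ s * x⁻¹) * c⁻¹ by group, hxg]
        exact a s
  obtain ⟨f, k, e₁⟩ := T.acts (F := f₁) (F' := f₁) T.inj₁ T.inj₁ (c := y₀) (by rw [T.range₁]; exact hy₀₁)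
  obtain ⟨g, k', e₂⟩ := T.acts (F := g₂) (F' := g₂) T.inj₂ T.inj₂ (c := y₀) (by rw [T.range₂]; exact hy₀₂)
  -- the four cosets fill the centralizer
  let cc : K ⊕ K ⊕ K ⊕ K → C := fun o => match o with
    | .inl k => ⟨k, S.K_le k.2⟩
    | .inr (.inl k) => ⟨k * x, mul_mem (S.K_le k.2) hx⟩
    | .inr (.inr (.inl k)) => ⟨k * y₀, mul_mem (S.K_le k.2) hy₀⟩
    | .inr (.inr (.inr k)) => ⟨k * y₀ * x, mul_mem (mul_mem (S.K_le k.2) hy₀) hx⟩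
  have q₁ : ∀ k ∈ K, ∀ s, k * y₀ * f₁ s * (k * y₀)⁻¹ ∈ H₁ := fun k hk s => by
    rw [show k * y₀ * f₁ s * (k * y₀)⁻¹ = k * (y₀ * f₁ s * y₀⁻¹) * k⁻¹ by group]
    exact hK₁ k hk _ (hy₀₁ s)
  have q₂ : ∀ k ∈ K, ∀ s, k * y₀ * x * f₁ s * (k * y₀ * x)⁻¹ ∈ H₂ := fun k hk s => by
    rw [show k * y₀ * x * f₁ s * (k * y₀ * x)⁻¹ = k * (y₀ * (x * f₁ s * x⁻¹) * y₀⁻¹) * k⁻¹ by group, ← hg]
    exact hK₂ k hk _ (hy₀₂ s)
  have hyy : ∀ k l : K, (k : G) ≠ l * y₀ := fun k l e => hy₀K (by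
    rw [show y₀ = (l : G)⁻¹ * k by rw [e]; group]; exact mul_mem (inv_mem l.2) k.2)
  have hcc : Function.Injective cc := by
    rintro (a | a | a | a) (b | b | b | b) e <;> replace e := congrArg Subtype.val e <;>
      simp only [cc] at e
    · rw [Subtype.ext e]
    · exact absurd e (side _ _ (p₁ a a.2) (p₂ b b.2))
    · exact absurd e (hyy a b)
    · exact absurd e (side _ _ (p₁ a a.2) (q₂ b b.2))
    · exact absurd e.symm (side _ _ (p₁ b b.2) (p₂ a a.2))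
    · rw [Subtype.ext (mul_right_cancel e)]
    · exact absurd e.symm (side _ _ (q₁ b b.2) (p₂ a a.2))
    · exact absurd (mul_right_cancel e) (hyy a b)
    · exact absurd e.symm (hyy b a)
    · exact absurd e (side _ _ (q₁ a a.2) (p₂ b b.2))
    · rw [Subtype.ext (mul_right_cancel e)]
    · exact absurd e (side _ _ (q₁ a a.2) (q₂ b b.2))
    · exact absurd e.symm (side _ _ (p₁ b b.2) (q₂ a a.2))
    · exact absurd (mul_right_cancel e).symm (hyy b a)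
    · exact absurd e.symm (side _ _ (q₁ b b.2) (q₂ a a.2))
    · rw [Subtype.ext (mul_right_cancel (mul_right_cancel e))]
  have hcs : Function.Surjective cc := (Function.Injective.bijective_of_nat_card_le hcc (by
    rw [Nat.card_sum, Nat.card_sum, Nat.card_sum, S.hyp.card, S.card_K])).2
  -- hence the translate of the element has the same parities
  have hfg : f = g := by
    set w := x * y₀ * x⁻¹ with hw
    have hwC : w ∈ C := mul_mem (mul_mem hx hy₀) (inv_mem hx)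
    have w₁ : ∀ s, w * f₁ s * w⁻¹ = f₁ (autHom g k' s) := fun s => by
      rw [hw, show x * y₀ * x⁻¹ * f₁ s * (x * y₀ * x⁻¹)⁻¹ = x * (y₀ * (x⁻¹ * f₁ s * x⁻¹⁻¹) * y₀⁻¹) * x⁻¹ by group,
        show x⁻¹ * f₁ s * x⁻¹⁻¹ = g₂ s by simp only [hg, hxi], e₂, hxg]
    have w₁' : ∀ s, w * f₁ s * w⁻¹ ∈ H₁ := fun s => by rw [w₁]; exact T.mem₁ _
    obtain ⟨o, ho⟩ := hcs ⟨w, hwC⟩
    replace ho := congrArg Subtype.val ho
    rcases o with a | a | a | a <;> simp only [cc] at ho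
    · exact absurd (show y₀ ∈ K by
        have := S.hyp.normal _ (inv_mem hx) _ (ho ▸ a.2)
        rwa [hw, show x⁻¹ * (x * y₀ * x⁻¹) * x⁻¹⁻¹ = y₀ by group] at this) hy₀K
    · exact absurd ho.symm (side w _ w₁' (p₂ a a.2))
    · obtain ⟨i, hi, j, hj, hab⟩ := T.K_eq _ a.2
      have hin : ∀ s, f₁ (autHom false ⟨i, hi⟩ s) = pk f₁ g₂ i j * f₁ s * (pk f₁ g₂ i j)⁻¹ := fun s => by
        obtain ⟨n, rfl⟩ := sl_surjective s
        rw [autHom_sl _ _ n.isLt, show aut false i n = sMul (sMul i n) (sInv i) from rfl,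
          sl_mul _ (sMul_lt _ hi _ n.isLt) _ (sInv_spec i hi).1, sl_mul _ hi _ n.isLt, sl_inv _ hi,
          map_mul, map_mul, map_inv, pk, mul_inv_rev,
          show f₁ (sl i) * g₂ (sl j) * f₁ (sl n) * ((g₂ (sl j))⁻¹ * (f₁ (sl i))⁻¹) =
            f₁ (sl i) * (g₂ (sl j) * f₁ (sl n)) * (g₂ (sl j))⁻¹ * (f₁ (sl i))⁻¹ by group, ← T.comm]
        group
      have h1 : autHom g k' = (autHom false ⟨i, hi⟩).comp (autHom f k) := MonoidHom.ext fun s => T.inj₁ (by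
        rw [MonoidHom.comp_apply, hin, ← e₁, ← w₁, ← ho, hab]; group)
      have key : ∀ i k : Fin 24, ∀ f : Bool, ∃ m : Fin 24,
          aut false i (aut f k 1) = aut f m 1 ∧ aut false i (aut f k 4) = aut f m 4 := by decide +kernel
      obtain ⟨m, m₁, m₄⟩ := key ⟨i, hi⟩ k f
      have h2 : (autHom false ⟨i, hi⟩).comp (autHom f k) = autHom f m := hom_ext
        (by rw [MonoidHom.comp_apply, autHom_sl _ _ (by norm_num), autHom_sl _ _ (aut_lt _ _ k.isLt _ (by norm_num)),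
          autHom_sl _ _ (by norm_num), m₁])
        (by rw [MonoidHom.comp_apply, autHom_sl _ _ (by norm_num), autHom_sl _ _ (aut_lt _ _ k.isLt _ (by norm_num)),
          autHom_sl _ _ (by norm_num), m₄])
      exact (aut_parity (h1.trans h2)).symm
    · exact absurd ho.symm (side w _ w₁' (q₂ a a.2))
  subst hfg
  cases f
  · exact absurd (T.mem_K_of_inner hy₀ e₁ e₂) hy₀K
  obtain ⟨y, hy, hyK', y₁, y₂⟩ := T.acts_gam hy₀ e₁ e₂
  have hyK : y ∉ K := fun h => hy₀K (hyK' h)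
  have hxk : ∀ k ∈ K, x ≠ k ∧ x * y ≠ k := fun k hk =>
    ⟨fun e => hxK (e ▸ hk), fun e => side k (x * y) (p₁ k hk) (fun s => by
      obtain ⟨n, rfl⟩ := sl_surjective s
      rw [show x * y * f₁ (sl n) * (x * y)⁻¹ = x * (y * f₁ (sl n) * y⁻¹) * x⁻¹ by group, y₁ _ n.isLt]
      exact hx₁ _) e.symm⟩
  -- the square and the commutator
  have hcent : ∀ d ∈ C, (∀ a < 24, d * f₁ (sl a) * d⁻¹ = f₁ (sl a)) → (∀ a < 24, d * g₂ (sl a) * d⁻¹ = g₂ (sl a)) →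
      d = 1 ∨ d = z := fun d hd h₁ h₂ => T.cent_K hd fun a ha b hb =>
    ((show Commute d (f₁ (sl a)) from mul_inv_eq_iff_eq_mul.1 (h₁ a ha)).mul_right
      (mul_inv_eq_iff_eq_mul.1 (h₂ b hb))).eq
  have hgg : ∀ a < 24, sGam (sGam a) = aut false 1 a := by decide +kernel
  have ha1 : ∀ a < 24, sl (aut false 1 a) = sl 1 * sl a * (sl 1)⁻¹ := fun a ha => by
    show sl (sMul (sMul 1 a) (sInv 1)) = _
    rw [sl_mul _ (sMul_lt _ (by norm_num) _ ha) _ (sInv_spec 1 (by norm_num)).1, sl_mul _ (by norm_num) _ ha,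
      sl_inv _ (by norm_num)]
  have hm : pk f₁ g₂ 1 1 ∈ C := T.K_le (T.pk_mem_K _ _)
  obtain ⟨p, hp⟩ : ∃ p, y * y = pk f₁ g₂ (sqA p) 1 := by
    have hs := hcent ((pk f₁ g₂ 1 1)⁻¹ * (y * y)) (mul_mem (inv_mem hm) (mul_mem hy hy)) (fun a ha => ?_)
      (fun a ha => ?_)
    · rcases hs with h | h
      · exact ⟨false, (inv_mul_eq_one.1 h).symm⟩
      · refine ⟨true, ?_⟩
        rw [show y * y = pk f₁ g₂ 1 1 * z by rw [← h]; group, ← T.pk_z,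
          T.pk_mul (by norm_num) (by norm_num) (by norm_num) (by norm_num)]
        congr 1 <;> decide +kernel
    · rw [show (pk f₁ g₂ 1 1)⁻¹ * (y * y) * f₁ (sl a) * ((pk f₁ g₂ 1 1)⁻¹ * (y * y))⁻¹ =
        (pk f₁ g₂ 1 1)⁻¹ * (y * (y * f₁ (sl a) * y⁻¹) * y⁻¹) * pk f₁ g₂ 1 1 by group, y₁ a ha,
        y₁ _ (sGam_lt a ha), hgg a ha, ha1 a ha, map_mul, map_mul, map_inv, pk, mul_inv_rev]
      calc (g₂ (sl 1))⁻¹ * (f₁ (sl 1))⁻¹ * (f₁ (sl 1) * f₁ (sl a) * (f₁ (sl 1))⁻¹) * (f₁ (sl 1) * g₂ (sl 1))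
          = (g₂ (sl 1))⁻¹ * (f₁ (sl a) * g₂ (sl 1)) := by group
        _ = _ := by rw [T.comm]; group
    · rw [show (pk f₁ g₂ 1 1)⁻¹ * (y * y) * g₂ (sl a) * ((pk f₁ g₂ 1 1)⁻¹ * (y * y))⁻¹ =
        (pk f₁ g₂ 1 1)⁻¹ * (y * (y * g₂ (sl a) * y⁻¹) * y⁻¹) * pk f₁ g₂ 1 1 by group, y₂ a ha,
        y₂ _ (sGam_lt a ha), hgg a ha, ha1 a ha, map_mul, map_mul, map_inv, pk, T.comm, mul_inv_rev]
      calc (f₁ (sl 1))⁻¹ * (g₂ (sl 1))⁻¹ * (g₂ (sl 1) * g₂ (sl a) * (g₂ (sl 1))⁻¹) * (g₂ (sl 1) * f₁ (sl 1))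
          = (f₁ (sl 1))⁻¹ * (g₂ (sl a) * f₁ (sl 1)) := by group
        _ = _ := by rw [← T.comm]; group
  obtain ⟨q, hq⟩ : ∃ q : Bool, x * y * x = if q then y * z else y := by
    have hs := hcent (y⁻¹ * (x * y * x)) (mul_mem (inv_mem hy) (mul_mem (mul_mem hx hy) hx)) (fun a ha => ?_)
      (fun a ha => ?_)
    · rcases hs with h | h
      · exact ⟨false, by rw [if_neg (by simp)]; exact (inv_mul_eq_one.1 h).symm⟩
      · exact ⟨true, by rw [if_pos rfl, ← h]; group⟩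
    all_goals
      obtain ⟨b, hb, hba⟩ : ∃ b < 24, sGam b = a :=
        (by decide +kernel : ∀ a < 24, ∃ b < 24, sGam b = a) a ha
    · calc y⁻¹ * (x * y * x) * f₁ (sl a) * (y⁻¹ * (x * y * x))⁻¹
          = y⁻¹ * (x * (y * (x * f₁ (sl a) * x⁻¹) * y⁻¹) * x⁻¹) * y := by group
        _ = y⁻¹ * (x * g₂ (sl (sGam a)) * x⁻¹) * y := by rw [← hg, y₂ a ha]
        _ = y⁻¹ * f₁ (sl (sGam a)) * y := by rw [hxg]
        _ = _ := by rw [← y₁ a ha]; group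
    · calc y⁻¹ * (x * y * x) * g₂ (sl a) * (y⁻¹ * (x * y * x))⁻¹
          = y⁻¹ * (x * (y * (x * g₂ (sl a) * x⁻¹) * y⁻¹) * x⁻¹) * y := by group
        _ = y⁻¹ * (x * f₁ (sl (sGam a)) * x⁻¹) * y := by rw [hxg, y₁ a ha]
        _ = y⁻¹ * g₂ (sl (sGam a)) * y := by rw [hg]
        _ = _ := by rw [← y₂ a ha]; group
  exact ⟨f₁, g₂, x, y, p, q, T, hx, hy, hxx, fun a _ => (hg _).symm, y₁, y₂, hyK, hxk, hp, hq⟩

end Coord

end

end CfsgLib.Spor.UFourType
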