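import Cfsg.Agent.Lib.Spor.UFourType.ThreeAOrder
import Cfsg.Agent.Lib.Spor.UFourType.InvolFixed
import Cfsg.Agent.Lib.Spor.UFourType.Count

/-!
# The inverted elements centralizing an element of order three
-/

set_option autoImplicit false
set_option linter.unusedSectionVars false
set_option synthInstance.maxSize 4096

namespace CfsgLib.Spor.UFourType

open Subgroup

noncomputable section

theorem three_pair : ∀ c ∈ threeList, ∀ t ∈ invList, mC t c = mC (mC c c) t →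
    ∃ e ∈ threeList, mC e t = mC t e ∧ mC e c = mC c e := by decide +kernel

theorem three_classes : ∀ c ∈ threeList, ∃ k < 1152, ∃ d ∈ [aC, 400, 404, 496, 500], mC k c = mC d k := by
  decide +kernel

/-- Generators of the conjugates of the distinguished subgroup, by the sides. -/
def repList (b : Bool) : List ℕ := if b then [384, 624, 672, 768] else [16, 28, 32, 72]

theorem rep_facts : ∀ b : Bool, (repList b).length = 4 ∧ (repList b).Nodup ∧
    ∀ r ∈ repList b, r < 1152 ∧ r ∈ threeList ∧ (∃ k < 1152, mC k r = mC aC k) ∧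
      ∀ s ∈ repList b, r ≠ s → mPow (mC r s) 2 = zC ∨ mPow (mC r s) 3 = zC := by decide +kernel

theorem rep_orbit : ∀ k < 1152, ∃ b : Bool, ∃ r ∈ repList b,
    mC aC k = mC k r ∨ mC aC k = mC k (mC r r) := by decide +kernel

theorem rep_pair : ∀ r ∈ repList true, ∀ s ∈ repList false, ∃ k < 1152, ∃ c ∈ listP, ∃ d ∈ listP,
    mC k r = mC c k ∧ mC k s = mC d k ∧ ∀ e ∈ listP, ∃ i < 3, ∃ j < 3, e = mC (mPow c i) (mPow d j) := by
  decide +kernel

/-- Inverted, and commuting with an element of order three of the centralizer of the involution. -/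
def IsThree {G : Type*} [Group G] (z : G) (ψ : ℕ → G) (x : G) : Prop :=
  IsInv z x ∧ ∃ c ∈ threeList, x * ψ c = ψ c * x

namespace Model

variable {G : Type*} [Group G] [Finite G] {z : G} {Q : Subgroup G} {ψ : ℕ → G} (M : Model z Q ψ)
include M

theorem isInv_noncomm {x : G} (hx : IsInv z x) : z * x ≠ x * z := fun e => hx.1 (eq_one_of_sq hx.2.1 (by
  rw [mul_eq_one_iff_eq_inv, ← hx.2.2, e, mul_assoc, M.zz, mul_one]))

theorem isInv_conj {g x : G} (hg : g * z = z * g) (hx : IsInv z x) : IsInv z (g * x * g⁻¹) := by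
  refine ⟨fun e => hx.1 (conj_eq_one_iff.1 e), ?_, ?_⟩
  · rw [← MulAut.conj_apply, MulEquiv.orderOf_eq]; exact hx.2.1
  · have hg' : Commute g⁻¹ z := (show Commute g z from hg).inv_left
    calc z * (g * x * g⁻¹) * z = z * g * x * (g⁻¹ * z) := by group
      _ = g * (z * x * z) * g⁻¹ := by rw [hg'.eq, ← hg]; group
      _ = _ := by rw [hx.2.2]; group

/-- An inverted element whose centralizer has even order commutes with an element of order three. -/
theorem even_three {x : G} (hx : IsInv z x) (h : 2 ∣ Nat.card (centralizer ({x} : Set G))) : IsThree z ψ x := by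
  refine ⟨hx, ?_⟩
  obtain ⟨w, hwX, hw2, hw1, hwz⟩ := exists_fixed_invol M.zz (centralizer ({x} : Set G)) (fun y hy => by
    have hc : y * x = x * y := mem_centralizer_singleton_iff.1 hy
    have hc' : Commute y x⁻¹ := (show Commute y x from hc).inv_right
    refine mem_centralizer_singleton_iff.2 ?_
    have hxz : z * x⁻¹ * z = x := by
      rw [← hx.2.2, show z * (z * x * z) * z = z * z * x * (z * z) by group, M.zz, one_mul, mul_one]
    calc z * y * z * x = z * y * z * (z * x⁻¹ * z) := by rw [hxz]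
      _ = z * y * (z * z) * x⁻¹ * z := by group
      _ = z * (y * x⁻¹) * z := by rw [M.zz]; group
      _ = z * (x⁻¹ * y) * z := by rw [hc'.eq]
      _ = z * x⁻¹ * (z * z) * y * z := by rw [M.zz]; group
      _ = z * x⁻¹ * z * (z * y * z) := by group
      _ = _ := by rw [hxz]) h
  have hwx : w * x = x * w := mem_centralizer_singleton_iff.1 hwX
  obtain ⟨g, hg⟩ := M.exists_conj hw2 hw1
  have hgC : ∀ y, w * y = y * w → g * y * g⁻¹ ∈ centralizer ({z} : Set G) := fun y hy => by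
    refine mem_centralizer_singleton_iff.2 ?_
    rw [← hg, show g * y * g⁻¹ * (g * w * g⁻¹) = g * (y * w) * g⁻¹ by group,
      show g * w * g⁻¹ * (g * y * g⁻¹) = g * (w * y) * g⁻¹ by group, hy]
  have hox : Odd (orderOf (g * x * g⁻¹)) := by
    rw [← MulAut.conj_apply, MulEquiv.orderOf_eq]; exact hx.2.1
  have hC := hgC x hwx
  obtain ⟨c, hc, hce⟩ := M.three_code hC (M.cube_of_odd hC hox) fun e => hx.1 (conj_eq_one_iff.1 e)
  have lc := list_lt.2.1 c hc
  obtain ⟨t, ht, hte⟩ := M.inv_code (hgC z hwz)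
    (by rw [show g * z * g⁻¹ * (g * z * g⁻¹) = g * (z * z) * g⁻¹ by group, M.zz]; group)
    (fun e => M.z_ne (conj_eq_one_iff.1 e))
  have lt := list_lt.1 t ht
  have h3 : ψ c * ψ c * ψ c = 1 := by
    rw [M.mul c lc c lc, M.mul _ (mC_lt lc lc) c lc, (threeList_spec c hc).1, M.one]
  obtain ⟨e, he, het, hec⟩ := three_pair c hc t ht ((M.conj_iff lt lc (mC_lt lc lc)).1 (by
    rw [hte, ← M.mul c lc c lc, eq_inv_of_mul_eq_one_left h3, hce,
      show g * z * g⁻¹ * (g * x * g⁻¹) * (g * z * g⁻¹)⁻¹ = g * (z * x * z⁻¹) * g⁻¹ by group, M.z_inv, hx.2.2]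
    group))
  have le := list_lt.2.1 e he
  set q := g⁻¹ * ψ e * g with hq
  have hqz : q * z = z * q := by
    have h := (M.comm_iff le lt).2 het
    rw [hte] at h
    calc q * z = g⁻¹ * (ψ e * (g * z * g⁻¹)) * g := by rw [hq]; group
      _ = g⁻¹ * (g * z * g⁻¹ * ψ e) * g := by rw [h]
      _ = _ := by rw [hq]; group
  have hqx : x * q = q * x := by
    have h := (M.comm_iff le lc).2 hec
    rw [hce] at h
    calc x * q = g⁻¹ * (g * x * g⁻¹ * ψ e) * g := by rw [hq]; group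
      _ = g⁻¹ * (ψ e * (g * x * g⁻¹)) * g := by rw [h]
      _ = _ := by rw [hq]; group
  have he3 : ψ e ^ 3 = 1 := by
    rw [pow_succ, pow_two, M.mul e le e le, M.mul _ (mC_lt le le) e le, (threeList_spec e he).1, M.one]
  obtain ⟨d, hd, hde⟩ := M.three_code (mem_centralizer_singleton_iff.2 hqz)
    (by rw [hq, show g⁻¹ * ψ e * g = g⁻¹ * ψ e * g⁻¹⁻¹ by group, conj_pow, he3]; group)
    (fun e1 => (threeList_spec e he).2 ((M.eq_one_iff le).1 (by
      calc ψ e = g * q * g⁻¹ := by rw [hq]; group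
        _ = 1 := by rw [e1]; group)))
  exact ⟨d, hd, by rw [hde]; exact hqx⟩

/-- Up to the centralizer of the involution they centralize the distinguished element. -/
theorem three_conj {x : G} (hx : IsThree z ψ x) :
    ∃ k < 1152, ψ k * x * (ψ k)⁻¹ ∈ M.grpX ∧ ψ k * x * (ψ k)⁻¹ ∈ M.grpO := by
  obtain ⟨hI, c, hc, hxc⟩ := hx
  have lc := list_lt.2.1 c hc
  obtain ⟨k, hk, d, hd, hkd⟩ := three_classes c hc
  have ld : d < 1152 := by fin_cases hd <;> norm_num
  obtain ⟨-, ho, hz⟩ := M.isInv_conj (M.comm_z hk) hI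
  refine ⟨k, hk, ?_⟩
  set y := ψ k * x * (ψ k)⁻¹ with hy
  have hyd : y * ψ d = ψ d * y := by
    rw [← M.conj_eq hk lc ld hkd, hy, show ψ k * x * (ψ k)⁻¹ * (ψ k * ψ c * (ψ k)⁻¹) = ψ k * (x * ψ c) * (ψ k)⁻¹
      by group, hxc]
    group
  suffices hX : y ∈ M.grpX from ⟨hX, M.inverted_memO hX ho hz⟩
  by_cases hda : d = aC
  · subst hda; exact M.mem_grpX.2 hyd
  · have hd' : d ∈ [400, 404, 496, 500] := by
      rcases List.mem_cons.1 hd with h | h
      · exact absurd h hda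
      · exact h
    obtain ⟨b, hb⟩ := four_codes d hd'
    have hyH : y ∈ M.grpH b := by
      refine mem_centralizer_singleton_iff.2 ?_
      rcases hb with rfl | rfl
      · exact hyd
      · have ly := lists_lt.2.2 _ (vList_card b).2.2.2.2.1
        rw [← M.mul _ ly _ ly] at hyd
        have h3 : ψ (yC b) ^ 3 = 1 := M.grpP_cube (M.yC_memA b).1
        have h := ((show Commute y (ψ (yC b) * ψ (yC b)) from hyd).pow_right 2).eq
        rwa [← pow_two, ← pow_mul, show 2 * 2 = 3 + 1 by rfl, pow_succ, h3, one_mul] at h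
    exact M.aX_mem.2.2 (M.inverted_mem hyH ho hz)

/-- They are those commuting with one of eight elements. -/
theorem three_iff {x : G} : IsThree z ψ x ↔ ∃ b, ∃ r ∈ repList b, IsInv z x ∧ x * ψ r = ψ r * x := by
  refine ⟨fun hx => ?_, fun ⟨b, r, hr, hI, hc⟩ => ⟨hI, r, ((rep_facts b).2.2 r hr).2.1, hc⟩⟩
  obtain ⟨k, hk, hX, -⟩ := M.three_conj hx
  obtain ⟨b, r, hr, he⟩ := rep_orbit k hk
  obtain ⟨lr, hr3, -, -⟩ := (rep_facts b).2.2 r hr
  refine ⟨b, r, hr, hx.1, ?_⟩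
  have hxa : Commute x ((ψ k)⁻¹ * ψ aC * ψ k) := by
    have h := M.mem_grpX.1 hX
    show x * ((ψ k)⁻¹ * ψ aC * ψ k) = (ψ k)⁻¹ * ψ aC * ψ k * x
    calc x * ((ψ k)⁻¹ * ψ aC * ψ k) = (ψ k)⁻¹ * (ψ k * x * (ψ k)⁻¹ * ψ aC) * ψ k := by group
      _ = (ψ k)⁻¹ * (ψ aC * (ψ k * x * (ψ k)⁻¹)) * ψ k := by rw [h]
      _ = _ := by group
  have key : ∀ d < 1152, mC aC k = mC k d → (ψ k)⁻¹ * ψ aC * ψ k = ψ d := fun d hd e => by
    rw [mul_assoc, M.mul aC (by norm_num) k hk, e, ← M.mul k hk d hd, inv_mul_cancel_left]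
  rcases he with he | he
  · rw [key r lr he] at hxa
    exact hxa
  · rw [key _ (mC_lt lr lr) he, ← M.mul r lr r lr] at hxa
    have h3 : ψ r ^ 3 = 1 := by
      rw [pow_succ, pow_two, M.mul r lr r lr, M.mul _ (mC_lt lr lr) r lr, (threeList_spec r hr3).1, M.one]
    have h := (hxa.pow_right 2).eq
    rwa [← pow_two, ← pow_mul, show 2 * 2 = 3 + 1 by rfl, pow_succ, h3, one_mul] at h

/-- Eighty inverted elements centralize each. -/
theorem card_rep {b : Bool} {r : ℕ} (hr : r ∈ repList b) :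
    Nat.card {x : G // IsInv z x ∧ x * ψ r = ψ r * x} = 80 := by
  obtain ⟨lr, -, ⟨k, hk, hkr⟩, -⟩ := (rep_facts b).2.2 r hr
  have hkr' := M.conj_eq hk lr (by norm_num) hkr
  let B := {d : G // d ∈ M.grpO ∧ z * d * z = d⁻¹}
  have e : Nat.card {x : G // IsInv z x ∧ x * ψ r = ψ r * x} = Nat.card {d : B // d.1 ≠ 1} := by
    refine Nat.card_congr (((MulAut.conj (ψ k)).toEquiv.subtypeEquiv fun x => ?_).trans
      (Equiv.subtypeSubtypeEquivSubtypeInter (fun d : G => d ∈ M.grpO ∧ z * d * z = d⁻¹) (fun d => d ≠ 1)).symm)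
    show _ ↔ (ψ k * x * (ψ k)⁻¹ ∈ M.grpO ∧ z * (ψ k * x * (ψ k)⁻¹) * z = (ψ k * x * (ψ k)⁻¹)⁻¹) ∧
      ψ k * x * (ψ k)⁻¹ ≠ 1
    constructor
    · rintro ⟨hI, hc⟩
      obtain ⟨h1, ho, hz⟩ := M.isInv_conj (M.comm_z hk) hI
      refine ⟨⟨M.inverted_memO (M.mem_grpX.2 ?_) ho hz, hz⟩, h1⟩
      rw [← hkr', show ψ k * x * (ψ k)⁻¹ * (ψ k * ψ r * (ψ k)⁻¹) = ψ k * (x * ψ r) * (ψ k)⁻¹ by group, hc]
      group
    · rintro ⟨⟨hO, hz⟩, h1⟩
      have h := M.isInv_conj (g := (ψ k)⁻¹) ((show Commute (ψ k) z from M.comm_z hk).inv_left).eq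
        (x := ψ k * x * (ψ k)⁻¹) ⟨h1, M.grpO_odd' hO, hz⟩
      rw [show (ψ k)⁻¹ * (ψ k * x * (ψ k)⁻¹) * (ψ k)⁻¹⁻¹ = x by group] at h
      have hX := M.mem_grpX.1 (M.grpO_le hO)
      rw [← hkr', show ψ k * x * (ψ k)⁻¹ * (ψ k * ψ r * (ψ k)⁻¹) = ψ k * (x * ψ r) * (ψ k)⁻¹ by group,
        show ψ k * ψ r * (ψ k)⁻¹ * (ψ k * x * (ψ k)⁻¹) = ψ k * (ψ r * x) * (ψ k)⁻¹ by group] at hX
      exact ⟨h, mul_left_cancel (mul_right_cancel hX)⟩
  classical
  haveI := Fintype.ofFinite B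
  rw [e, Nat.card_eq_fintype_card, Fintype.card_subtype_compl, ← Nat.card_eq_fintype_card, M.card_O_inverted,
    (Fintype.card_eq_one_iff (α := {d : B // d.1 = 1})).2 ⟨⟨⟨1, one_mem _, by rw [mul_one, M.zz, inv_one]⟩, rfl⟩,
      fun d => Subtype.ext (Subtype.ext d.2)⟩]

/-- Two on the same side have no common one. -/
theorem rep_disjoint {b : Bool} {r s : ℕ} (hr : r ∈ repList b) (hs : s ∈ repList b) (hne : r ≠ s) {x : G}
    (hx : IsInv z x) (h1 : x * ψ r = ψ r * x) (h2 : x * ψ s = ψ s * x) : False := by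
  obtain ⟨lr, -, -, hall⟩ := (rep_facts b).2.2 r hr
  have ls := ((rep_facts b).2.2 s hs).1
  have hp : ∀ j, Commute x (ψ (mPow (mC r s) j)) := fun j => by
    rw [← M.pow (mC_lt lr ls), ← M.mul r lr s ls]
    exact ((show Commute x (ψ r) from h1).mul_right h2).pow_right j
  refine M.isInv_noncomm hx ?_
  rcases hall s hs hne with e | e
  · have h := hp 2; rw [e, M.at_z] at h; exact h.eq.symm
  · have h := hp 3; rw [e, M.at_z] at h; exact h.eq.symm

/-- Two on different sides have eight common ones. -/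
theorem card_pair {r s : ℕ} (hr : r ∈ repList true) (hs : s ∈ repList false) :
    Nat.card {x : G // IsInv z x ∧ x * ψ r = ψ r * x ∧ x * ψ s = ψ s * x} = 8 := by
  have lr := ((rep_facts true).2.2 r hr).1
  have ls := ((rep_facts false).2.2 s hs).1
  obtain ⟨k, hk, c, hc, d, hd, hkc, hkd, hgen⟩ := rep_pair r hr s hs
  have lc := lists_lt.2.2 c hc
  have ld := lists_lt.2.2 d hd
  have hc' := M.conj_eq hk lr lc hkc
  have hd' := M.conj_eq hk ls ld hkd
  let B := {d : G // d ∈ M.grpA ∧ z * d * z = d⁻¹}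
  have e : Nat.card {x : G // IsInv z x ∧ x * ψ r = ψ r * x ∧ x * ψ s = ψ s * x} = Nat.card {d : B // d.1 ≠ 1} := by
    refine Nat.card_congr (((MulAut.conj (ψ k)).toEquiv.subtypeEquiv fun x => ?_).trans
      (Equiv.subtypeSubtypeEquivSubtypeInter (fun d : G => d ∈ M.grpA ∧ z * d * z = d⁻¹) (fun d => d ≠ 1)).symm)
    show _ ↔ (ψ k * x * (ψ k)⁻¹ ∈ M.grpA ∧ z * (ψ k * x * (ψ k)⁻¹) * z = (ψ k * x * (ψ k)⁻¹)⁻¹) ∧
      ψ k * x * (ψ k)⁻¹ ≠ 1
    constructor
    · rintro ⟨hI, h1, h2⟩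
      obtain ⟨h0, ho, hz⟩ := M.isInv_conj (M.comm_z hk) hI
      refine ⟨⟨M.mem_grpA.2 ⟨M.mem_cent_grpP.2 fun e he => ?_, ho⟩, hz⟩, h0⟩
      obtain ⟨i, -, j, -, rfl⟩ := hgen e he
      rw [← M.mul _ (mPow_lt lc i) _ (mPow_lt ld j), ← M.pow lc, ← M.pow ld, ← hc', ← hd', conj_pow, conj_pow]
      have hij : Commute (ψ r ^ i * ψ s ^ j) x :=
        (((show Commute x (ψ r) from h1).pow_right i).mul_right ((show Commute x (ψ s) from h2).pow_right j)).symm
      calc ψ k * ψ r ^ i * (ψ k)⁻¹ * (ψ k * ψ s ^ j * (ψ k)⁻¹) * (ψ k * x * (ψ k)⁻¹)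
          = ψ k * (ψ r ^ i * ψ s ^ j * x) * (ψ k)⁻¹ := by group
        _ = ψ k * (x * (ψ r ^ i * ψ s ^ j)) * (ψ k)⁻¹ := by rw [hij.eq]
        _ = _ := by group
    · rintro ⟨⟨hA, hz⟩, h0⟩
      have h := M.isInv_conj (g := (ψ k)⁻¹) ((show Commute (ψ k) z from M.comm_z hk).inv_left).eq
        (x := ψ k * x * (ψ k)⁻¹) ⟨h0, M.grpA_odd hA, hz⟩
      rw [show (ψ k)⁻¹ * (ψ k * x * (ψ k)⁻¹) * (ψ k)⁻¹⁻¹ = x by group] at h
      have hcc := M.grpP_comm_grpA ⟨c, hc, rfl⟩ hA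
      have hdd := M.grpP_comm_grpA ⟨d, hd, rfl⟩ hA
      rw [← hc', show ψ k * x * (ψ k)⁻¹ * (ψ k * ψ r * (ψ k)⁻¹) = ψ k * (x * ψ r) * (ψ k)⁻¹ by group,
        show ψ k * ψ r * (ψ k)⁻¹ * (ψ k * x * (ψ k)⁻¹) = ψ k * (ψ r * x) * (ψ k)⁻¹ by group] at hcc
      rw [← hd', show ψ k * x * (ψ k)⁻¹ * (ψ k * ψ s * (ψ k)⁻¹) = ψ k * (x * ψ s) * (ψ k)⁻¹ by group,
        show ψ k * ψ s * (ψ k)⁻¹ * (ψ k * x * (ψ k)⁻¹) = ψ k * (ψ s * x) * (ψ k)⁻¹ by group] at hdd
      exact ⟨h, (mul_left_cancel (mul_right_cancel hcc)).symm, (mul_left_cancel (mul_right_cancel hdd)).symm⟩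
  classical
  haveI := Fintype.ofFinite B
  rw [e, Nat.card_eq_fintype_card, Fintype.card_subtype_compl, ← Nat.card_eq_fintype_card, M.card_A_inverted,
    (Fintype.card_eq_one_iff (α := {d : B // d.1 = 1})).2 ⟨⟨⟨1, one_mem _, by rw [mul_one, M.zz, inv_one]⟩, rfl⟩,
      fun d => Subtype.ext (Subtype.ext d.2)⟩]

theorem card_three : Nat.card {x : G // IsThree z ψ x} = 512 := by
  classical
  haveI := Fintype.ofFinite G
  let S : ℕ → Finset G := fun r => Finset.univ.filter fun x => IsInv z x ∧ x * ψ r = ψ r * x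
  let U : Bool → Finset G := fun b => (repList b).toFinset.biUnion S
  have hS : ∀ b, ∀ r ∈ repList b, (S r).card = 80 := fun b r hr => by
    rw [← M.card_rep hr, Nat.card_eq_fintype_card, Fintype.card_subtype]
  have hdis : ∀ b : Bool, ((repList b).toFinset : Set ℕ).PairwiseDisjoint S := by
    intro b r hr s hs hne
    refine Finset.disjoint_left.2 fun x hx hx' => ?_
    simp only [S, Finset.mem_filter, Finset.mem_univ, true_and] at hx hx'
    exact M.rep_disjoint (List.mem_toFinset.1 hr) (List.mem_toFinset.1 hs) hne hx.1 hx.2 hx'.2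
  have hU : ∀ b, (U b).card = 320 := fun b => by
    rw [Finset.card_biUnion (hdis b), Finset.sum_const_nat fun r hr => hS b r (List.mem_toFinset.1 hr),
      List.toFinset_card_of_nodup (rep_facts b).2.1, (rep_facts b).1]
  have hI : (U true ∩ U false).card = 128 := by
    have e : U true ∩ U false =
        ((repList true).toFinset ×ˢ (repList false).toFinset).biUnion fun p => S p.1 ∩ S p.2 := by
      ext x
      simp only [U, Finset.mem_inter, Finset.mem_biUnion, Finset.mem_product, Prod.exists]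
      exact ⟨fun ⟨⟨r, hr, h⟩, s, hs, h'⟩ => ⟨r, s, ⟨hr, hs⟩, h, h'⟩,
        fun ⟨r, s, ⟨hr, hs⟩, h, h'⟩ => ⟨⟨r, hr, h⟩, s, hs, h'⟩⟩
    rw [e, Finset.card_biUnion, Finset.sum_const_nat (m := 8), Finset.card_product,
      List.toFinset_card_of_nodup (rep_facts true).2.1, List.toFinset_card_of_nodup (rep_facts false).2.1,
      (rep_facts true).1, (rep_facts false).1]
    · intro p hp
      rw [Finset.mem_product, List.mem_toFinset, List.mem_toFinset] at hp
      rw [← M.card_pair hp.1 hp.2, Nat.card_eq_fintype_card, Fintype.card_subtype]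
      congr 1
      ext x
      simp only [S, Finset.mem_inter, Finset.mem_filter, Finset.mem_univ, true_and]
      exact ⟨fun h => ⟨h.1.1, h.1.2, h.2.2⟩, fun h => ⟨⟨h.1, h.2.1⟩, h.1, h.2.2⟩⟩
    · intro p hp q hq hne
      rw [Finset.mem_coe, Finset.mem_product] at hp hq
      refine Finset.disjoint_left.2 fun x hx hx' => hne ?_
      rw [Finset.mem_inter] at hx hx'
      refine Prod.ext ?_ ?_ <;> by_contra hn
      · exact Finset.disjoint_left.1 (hdis true hp.1 hq.1 hn) hx.1 hx'.1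
      · exact Finset.disjoint_left.1 (hdis false hp.2 hq.2 hn) hx.2 hx'.2
  have e : Nat.card {x : G // IsThree z ψ x} = (U true ∪ U false).card := by
    rw [Nat.card_eq_fintype_card, Fintype.card_subtype]
    congr 1
    ext x
    simp only [U, S, Finset.mem_union, Finset.mem_biUnion, Finset.mem_filter, Finset.mem_univ, true_and,
      List.mem_toFinset]
    rw [M.three_iff]
    exact ⟨fun ⟨b, r, h⟩ => by cases b; exacts [Or.inr ⟨r, h⟩, Or.inl ⟨r, h⟩],
      fun h => h.elim (fun ⟨r, h⟩ => ⟨true, r, h⟩) fun ⟨r, h⟩ => ⟨false, r, h⟩⟩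
  have := Finset.card_union_add_card_inter (U true) (U false)
  rw [hU, hU, hI] at this
  omega

end Model

end

end CfsgLib.Spor.UFourType
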