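import Mathlib

/-!
# Small groups with a self-centralizing four group of involutions
-/

set_option autoImplicit false
set_option linter.unusedSectionVars false

namespace CfsgLib.Spor.UFourType

open Subgroup

/-- A four group of a group, each of whose involutions has centralizer the four group. -/
structure SelfKlein {X : Type*} [Group X] (V : Subgroup X) (a b : X) : Prop where
  card : Nat.card V = 4
  mem_a : a ∈ V
  mem_b : b ∈ V
  ne_a : a ≠ 1
  ne_b : b ≠ 1
  ne_ab : a ≠ b
  sq : ∀ v ∈ V, v * v = 1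
  cent : ∀ v ∈ V, v ≠ 1 → ∀ x : X, x * v = v * x → x ∈ V

namespace SelfKlein

variable {X : Type*} [Group X] [Finite X] {V : Subgroup X} {a b : X} (S : SelfKlein V a b)
include S

theorem normal_odd (N : Subgroup X) [hN : N.Normal] (hodd : ∀ n ∈ N, Odd (orderOf n)) : N = ⊥ := by
  have inv : ∀ v ∈ V, v ≠ 1 → ∀ n ∈ N, v * n * v⁻¹ = n⁻¹ := by
    intro v hv hv1 n hn
    let φ : N → N := fun m => ⟨(m : X)⁻¹ * (v * m * v⁻¹), mul_mem (inv_mem m.2) (hN.conj_mem m m.2 v)⟩
    have hinj : Function.Injective φ := by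
      intro m m' e
      have e' : (m : X)⁻¹ * (v * m * v⁻¹) = (m' : X)⁻¹ * (v * m' * v⁻¹) := congrArg Subtype.val e
      have hc : ((m' : X) * (m : X)⁻¹) * v = v * ((m' : X) * (m : X)⁻¹) := by
        calc (m' : X) * (m : X)⁻¹ * v
            = (m' : X) * ((m : X)⁻¹ * (v * m * v⁻¹)) * (v * (m : X)⁻¹ * v⁻¹) * v := by group
          _ = v * ((m' : X) * (m : X)⁻¹) := by rw [e']; group
      have hV := S.cent v hv hv1 _ hc
      have ho := hodd _ (mul_mem m'.2 (inv_mem m.2))
      obtain ⟨k, hk⟩ := ho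
      have h := pow_orderOf_eq_one ((m' : X) * (m : X)⁻¹)
      rw [hk, pow_succ, pow_mul, pow_two, S.sq _ hV, one_pow, one_mul] at h
      exact Subtype.ext (mul_inv_eq_one.1 h).symm
    obtain ⟨m, hm⟩ := (Finite.injective_iff_surjective.1 hinj) ⟨n, hn⟩
    have hm' : (m : X)⁻¹ * (v * m * v⁻¹) = n := congrArg Subtype.val hm
    have hvi : v⁻¹ = v := inv_eq_of_mul_eq_one_right (S.sq v hv)
    rw [← hm', hvi, mul_inv_rev, mul_inv_rev, mul_inv_rev, inv_inv, hvi]
    calc v * ((m : X)⁻¹ * (v * m * v)) * v = v * (m : X)⁻¹ * v * m * (v * v) := by group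
      _ = _ := by rw [S.sq v hv]; group
  refine (Subgroup.eq_bot_iff_forall N).2 fun n hn => ?_
  have hab : a * b ≠ 1 := fun e => S.ne_ab ((eq_inv_of_mul_eq_one_left e).trans
    (inv_eq_of_mul_eq_one_right (S.sq b S.mem_b)))
  have h1 : (a * b) * n * (a * b)⁻¹ = n := by
    calc a * b * n * (a * b)⁻¹ = a * (b * n * b⁻¹) * a⁻¹ := by group
      _ = a * n⁻¹ * a⁻¹ := by rw [inv b S.mem_b S.ne_b n hn]
      _ = (a * n * a⁻¹)⁻¹ := by group
      _ = n := by rw [inv a S.mem_a S.ne_a n hn, inv_inv]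
  have h2 := inv _ (mul_mem S.mem_a S.mem_b) hab n hn
  obtain ⟨k, hk⟩ := hodd n hn
  have h := pow_orderOf_eq_one n
  rwa [hk, pow_succ, pow_mul, pow_two, mul_eq_one_iff_eq_inv.2 (h1.symm.trans h2), one_pow, one_mul] at h

theorem no_prime {r : ℕ} (hr : r.Prime) (h4 : 4 < r) (hX : Nat.card X = 4 * r) : False := by
  haveI : Fact r.Prime := ⟨hr⟩
  obtain ⟨P⟩ : Nonempty (Sylow r X) := inferInstance
  have hP : Nat.card P = r := by
    rw [P.card_eq_multiplicity, hX, Nat.factorization_mul (by norm_num) hr.ne_zero, Finsupp.add_apply,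
      hr.factorization_self, Nat.factorization_eq_zero_of_not_dvd (fun h => by
        have := Nat.le_of_dvd (by norm_num) h; omega), pow_one]
  have hidx : (P : Subgroup X).index = 4 := by
    have h := (P : Subgroup X).card_mul_index
    rw [hX, hP] at h
    exact Nat.eq_of_mul_eq_mul_left hr.pos (by linarith)
  have h1 : Nat.card (Sylow r X) = 1 := by
    have hd : Nat.card (Sylow r X) ∣ 4 := hidx ▸ P.card_dvd_index
    have hm := card_sylow_modEq_one r X
    have hle := Nat.le_of_dvd (by norm_num) hd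
    rw [Nat.ModEq, Nat.mod_eq_of_lt (by omega), Nat.mod_eq_of_lt (by omega)] at hm
    exact hm
  haveI : Subsingleton (Sylow r X) := (Nat.card_eq_one_iff_unique.1 h1).1
  haveI : (P : Subgroup X).Normal := P.normal_of_subsingleton
  have hb := S.normal_odd P fun n hn => by
    refine (hr.odd_of_ne_two (by omega)).of_dvd_nat ?_
    rw [← hP]
    exact Subgroup.orderOf_dvd_natCard _ hn
  rw [hb, Subgroup.card_bot] at hP
  exact hr.one_lt.ne hP

theorem no_nine (hX : Nat.card X = 36) : False := by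
  haveI : Fact (Nat.Prime 3) := ⟨Nat.prime_three⟩
  obtain ⟨P⟩ : Nonempty (Sylow 3 X) := inferInstance
  have hP : Nat.card P = 9 := by
    rw [P.card_eq_multiplicity, hX, show (36 : ℕ) = 3 ^ 2 * 4 by norm_num,
      Nat.factorization_mul (by norm_num) (by norm_num), Finsupp.add_apply,
      Nat.factorization_pow_self Nat.prime_three, Nat.factorization_eq_zero_of_not_dvd (by norm_num : ¬ 3 ∣ 4)]
    norm_num
  have hodd : ∀ N : Subgroup X, N ≤ P → ∀ n ∈ N, Odd (orderOf n) := fun N hN n hn => by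
    refine (by decide : Odd 9).of_dvd_nat ?_
    rw [← hP]
    exact Subgroup.orderOf_dvd_natCard _ (hN hn)
  have hd : Nat.card (Sylow 3 X) ∣ 4 := by
    have h := (P : Subgroup X).card_mul_index
    rw [hX, hP] at h
    exact (show (P : Subgroup X).index = 4 by omega) ▸ P.card_dvd_index
  have hm := card_sylow_modEq_one 3 X
  have hn : Nat.card (Sylow 3 X) ∈ Nat.divisors 4 := Nat.mem_divisors.2 ⟨hd, by norm_num⟩
  rw [show Nat.divisors 4 = {1, 2, 4} from by decide +kernel] at hn
  simp only [Finset.mem_insert, Finset.mem_singleton] at hn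
  rcases hn with h1 | h2 | h4
  · haveI : Subsingleton (Sylow 3 X) := (Nat.card_eq_one_iff_unique.1 h1).1
    haveI : (P : Subgroup X).Normal := P.normal_of_subsingleton
    have hb := S.normal_odd P (hodd P le_rfl)
    rw [hb, Subgroup.card_bot] at hP
    norm_num at hP
  · rw [h2] at hm
    exact absurd hm (by decide)
  · let f := MulAction.toPermHom X (Sylow 3 X)
    have hker : f.ker ≤ P := by
      intro x hx
      have hfix : x • P = P := congrArg (fun σ : Equiv.Perm (Sylow 3 X) => σ P) (MonoidHom.mem_ker.1 hx)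
      rw [Sylow.smul_eq_iff_mem_normalizer] at hfix
      have hN : normalizer ((P : Subgroup X) : Set X) = P := by
        refine (Subgroup.eq_of_le_of_card_ge Subgroup.le_normalizer ?_).symm
        have h := (normalizer ((P : Subgroup X) : Set X)).card_mul_index
        have hi : (normalizer ((P : Subgroup X) : Set X)).index = 4 := P.card_eq_index_normalizer ▸ h4
        rw [hi, hX] at h
        rw [hP]
        omega
      exact hN ▸ hfix
    have hb := S.normal_odd f.ker (hodd _ hker)
    have hinj : Function.Injective f := (MonoidHom.ker_eq_bot_iff f).1 hb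
    have hle := Nat.card_le_card_of_injective f hinj
    rw [hX, Nat.card_perm, h4] at hle
    norm_num [Nat.factorial] at hle

theorem normal_of_three (hX : Nat.card X = 12) : V.Normal := by
  let f := MulAction.toPermHom X (X ⧸ V)
  have hker : f.ker ≤ V := by
    intro x hx
    have h := congrArg (fun σ : Equiv.Perm (X ⧸ V) => σ ((1 : X) : X ⧸ V)) (MonoidHom.mem_ker.1 hx)
    have h' : ((x * 1 : X) : X ⧸ V) = ((1 : X) : X ⧸ V) := h
    rw [mul_one, QuotientGroup.eq, mul_one] at h'
    exact inv_mem_iff.1 h'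
  have hidx : Nat.card (X ⧸ V) = 3 := by
    have h := Subgroup.card_eq_card_quotient_mul_card_subgroup V
    rw [hX, S.card] at h
    omega
  have hne : f.ker ≠ ⊥ := fun hb => by
    have hle := Nat.card_le_card_of_injective f ((MonoidHom.ker_eq_bot_iff f).1 hb)
    rw [hX, Nat.card_perm, hidx] at hle
    norm_num [Nat.factorial] at hle
  obtain ⟨v, hv, hv1⟩ := (Subgroup.ne_bot_iff_exists_ne_one.1 hne : ∃ v : f.ker, v ≠ 1) |> fun ⟨v, h⟩ =>
    (⟨v.1, v.2, fun e => h (Subtype.ext e)⟩ : ∃ v ∈ f.ker, v ≠ 1)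
  -- the conjugates of a kernel element fill the four group
  have hall : ∀ x : X, x * v * x⁻¹ = v → x ∈ V := fun x hx =>
    S.cent v (hker hv) hv1 x (mul_inv_eq_iff_eq_mul.1 hx)
  refine ⟨fun n hn g => ?_⟩
  by_contra hcon
  obtain ⟨g₁, hg₁⟩ : ∃ g₁ : X, g₁ ∉ V := ⟨g, fun hg => hcon (mul_mem (mul_mem hg hn) (inv_mem hg))⟩
  set v' := g₁ * v * g₁⁻¹ with hv'
  have hk : v' ∈ f.ker := (inferInstance : f.ker.Normal).conj_mem v hv g₁
  have hv'v : v' ≠ v := fun e => hg₁ (hall g₁ e)
  have hv'1 : v' ≠ 1 := fun e => hv1 (conj_eq_one_iff.1 e)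
  have hVk : V ≤ f.ker := by
    classical
    haveI : Fintype V := Fintype.ofFinite V
    have hd := Subgroup.card_dvd_of_le hker
    rw [S.card] at hd
    have h3 : 2 < Nat.card f.ker := by
      haveI : Fintype f.ker := Fintype.ofFinite _
      rw [Nat.card_eq_fintype_card]
      exact Fintype.two_lt_card_iff.2 ⟨1, ⟨v, hv⟩, ⟨v', hk⟩, fun e => hv1 (congrArg Subtype.val e).symm,
        fun e => hv'1 (congrArg Subtype.val e).symm, fun e => hv'v (congrArg Subtype.val e).symm⟩
    have h4 : Nat.card f.ker = 4 := by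
      have := Nat.le_of_dvd (by norm_num) hd
      interval_cases h : Nat.card f.ker <;> omega
    exact (Subgroup.eq_of_le_of_card_ge hker (by rw [h4, S.card])).ge
  exact hcon (hker ((inferInstance : f.ker.Normal).conj_mem n (hVk hn) g))

/-- The possible orders, with the four group normal. -/
theorem small {k : ℕ} (hk : Odd k) (h13 : k ≤ 13) (hX : Nat.card X = 4 * k) :
    (k = 1 ∨ k = 3) ∧ V.Normal := by
  obtain ⟨j, rfl⟩ := hk
  have hj : j ≤ 6 := by omega
  interval_cases j <;> norm_num at hX ⊢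
  · have hV : V = ⊤ := Subgroup.eq_top_of_card_eq V (by rw [S.card, hX])
    rw [hV]; infer_instance
  · exact S.normal_of_three hX
  · exact S.no_prime (r := 5) (by norm_num) (by norm_num) (by rw [hX])
  · exact S.no_prime (r := 7) (by norm_num) (by norm_num) (by rw [hX])
  · exact S.no_nine (by rw [hX])
  · exact S.no_prime (r := 11) (by norm_num) (by norm_num) (by rw [hX])
  · exact S.no_prime (r := 13) (by norm_num) (by norm_num) (by rw [hX])

/-- With the four group normal and small index the consequences. -/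
theorem consequences {k : ℕ} (hk : Odd k) (h13 : k ≤ 13) (hX : Nat.card X = 4 * k) :
    (∀ t : X, t * t = 1 → t ∈ V) ∧ (∀ x : X, Odd (orderOf x) → a * x * a = x⁻¹ → x = 1) ∧
      (∀ x : X, Odd (orderOf x) → x ∈ V → x = 1) := by
  obtain ⟨hk13, hN⟩ := S.small hk h13 hX
  have hoddV : ∀ x : X, Odd (orderOf x) → x ∈ V → x = 1 := by
    intro x hx hV
    obtain ⟨i, hi⟩ := hx
    have h := pow_orderOf_eq_one x
    rwa [hi, pow_succ, pow_mul, pow_two, S.sq x hV, one_pow, one_mul] at h
  have hQ : Nat.card (X ⧸ V) = k := by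
    have h := Subgroup.card_eq_card_quotient_mul_card_subgroup V
    rw [hX, S.card] at h
    omega
  have hsq : ∀ q : X ⧸ V, q * q = 1 → q = 1 := by
    intro q hq
    have h : orderOf q ∣ 2 := orderOf_dvd_of_pow_eq_one (by rw [pow_two, hq])
    have h' : orderOf q ∣ k := hQ ▸ orderOf_dvd_natCard q
    exact orderOf_eq_one_iff.1 (Nat.eq_one_of_dvd_coprimes (Nat.coprime_two_left.2 hk) h h')
  refine ⟨fun t ht => ?_, fun x hx hax => hoddV x hx ?_, hoddV⟩
  · exact (QuotientGroup.eq_one_iff t).1 (hsq _ (by rw [← QuotientGroup.mk_mul, ht]; rfl))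
  · refine (QuotientGroup.eq_one_iff x).1 (hsq _ ?_)
    have ha : ((a : X) : X ⧸ V) = 1 := (QuotientGroup.eq_one_iff a).2 S.mem_a
    have h := congrArg (fun y : X => (y : X ⧸ V)) hax
    simp only [QuotientGroup.mk_mul, QuotientGroup.mk_inv, ha, one_mul, mul_one] at h
    exact mul_eq_one_iff_eq_inv.2 h

end SelfKlein

end CfsgLib.Spor.UFourType
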