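import Cfsg.Agent.Lib.Spor.UFourType.Classes

/-!
# Sets of elements of the centralizer given by lists of codes
-/

set_option autoImplicit false
set_option linter.unusedSectionVars false
set_option synthInstance.maxSize 4096

namespace CfsgLib.Spor.UFourType

open Subgroup

noncomputable section

/-- The involutions of the first elementary group of order sixteen. -/
def listE : List ℕ := [2, 48, 50, 100, 102, 148, 150, 200, 202, 248, 250, 300, 302, 348, 350]

/-- The involutions of the second elementary group of order sixteen. -/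
def listV : List ℕ := [7, 48, 55, 99, 100, 147, 148, 203, 204, 251, 252, 296, 303, 344, 351]

/-- The Sylow 3-subgroup of the centralizer. -/
def listP : List ℕ := [0, 16, 20, 384, 400, 404, 480, 496, 500]

theorem lists_lt : (∀ c ∈ listE, c < 1152) ∧ (∀ c ∈ listV, c < 1152) ∧ (∀ c ∈ listP, c < 1152) := by
  decide +kernel

variable {G : Type*} [Group G]

/-- One list of elements is carried into another. -/
def MapsTo (ψ : ℕ → G) (g : G) (L L' : List ℕ) : Prop := ∀ c ∈ L, ∃ d ∈ L', g * ψ c * g⁻¹ = ψ d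

theorem mapsTo_comp {ψ : ℕ → G} {g h : G} {L L' L'' : List ℕ} (h₁ : MapsTo ψ g L L') (h₂ : MapsTo ψ h L' L'') :
    MapsTo ψ (h * g) L L'' := fun c hc => by
  obtain ⟨d, hd, e⟩ := h₁ c hc
  obtain ⟨d', hd', e'⟩ := h₂ d hd
  exact ⟨d', hd', by rw [← e', ← e]; group⟩

namespace Model

variable {z : G} {Q : Subgroup G} {ψ : ℕ → G} (M : Model z Q ψ)
include M

theorem mapsTo_symm {g : G} {L L' : List ℕ} (h : MapsTo ψ g L L') (hn : L.Nodup) (hn' : L'.Nodup)
    (hl : ∀ c ∈ L, c < 1152) (hlen : L.length = L'.length) : MapsTo ψ g⁻¹ L' L := by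
  classical
  let f : {c // c ∈ L.toFinset} → {c // c ∈ L'.toFinset} := fun c =>
    ⟨(h c (List.mem_toFinset.1 c.2)).choose, List.mem_toFinset.2 (h c (List.mem_toFinset.1 c.2)).choose_spec.1⟩
  have hf : Function.Injective f := fun c d e => by
    have hc := (h c (List.mem_toFinset.1 c.2)).choose_spec.2
    have hd := (h d (List.mem_toFinset.1 d.2)).choose_spec.2
    rw [show (h c (List.mem_toFinset.1 c.2)).choose = (h d (List.mem_toFinset.1 d.2)).choose from
      congrArg Subtype.val e, ← hd] at hc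
    exact Subtype.ext (M.inj _ (hl _ (List.mem_toFinset.1 c.2)) _ (hl _ (List.mem_toFinset.1 d.2))
      (mul_left_cancel (mul_right_cancel hc)))
  have hs := (hf.bijective_of_nat_card_le (by
    rw [Nat.card_eq_finsetCard, Nat.card_eq_finsetCard, List.toFinset_card_of_nodup hn,
      List.toFinset_card_of_nodup hn', hlen])).2
  intro d hd
  obtain ⟨c, hc⟩ := hs ⟨d, List.mem_toFinset.2 hd⟩
  refine ⟨c, List.mem_toFinset.1 c.2, ?_⟩
  rw [show d = (h c (List.mem_toFinset.1 c.2)).choose from (congrArg Subtype.val hc).symm,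
    ← (h c (List.mem_toFinset.1 c.2)).choose_spec.2]
  group

theorem mapsTo_code {k : ℕ} (hk : k < 1152) {L L' : List ℕ} (hl : ∀ c ∈ L, c < 1152) (hl' : ∀ c ∈ L', c < 1152) :
    MapsTo ψ (ψ k) L L' ↔ ∀ c ∈ L, ∃ d ∈ L', mC k c = mC d k := by
  refine forall₂_congr fun c hc => exists_congr fun d => and_congr_right fun hd => ?_
  exact M.conj_iff hk (hl c hc) (hl' d hd)

end Model

/-- The stabilizer of a list of elements. -/
def stabList [Finite G] (ψ : ℕ → G) (L : List ℕ) : Subgroup G where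
  carrier := {g | MapsTo ψ g L L}
  one_mem' := fun c hc => ⟨c, hc, by group⟩
  mul_mem' := fun ha hb => mapsTo_comp hb ha
  inv_mem' := by
    intro g (hg : MapsTo ψ g L L)
    show MapsTo ψ g⁻¹ L L
    have key : ∀ n : ℕ, MapsTo ψ (g ^ n) L L := fun n => by
      induction n with
      | zero => exact fun c hc => ⟨c, hc, by group⟩
      | succ n ih => rw [pow_succ]; exact mapsTo_comp hg ih
    have e : g⁻¹ = g ^ (orderOf g - 1) := by
      refine inv_eq_of_mul_eq_one_right ?_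
      rw [← pow_succ', Nat.sub_add_cancel (orderOf_pos g), pow_orderOf_eq_one]
    rw [e]
    exact key _

theorem mem_stabList [Finite G] {ψ : ℕ → G} {L : List ℕ} {g : G} : g ∈ stabList ψ L ↔ MapsTo ψ g L L := Iff.rfl

/-- The subgroup of a closed list of codes. -/
def Model.listSub {z : G} {Q : Subgroup G} {ψ : ℕ → G} (M : Model z Q ψ) (L : List ℕ)
    (h : (∀ c ∈ L, c < 1152) ∧ 0 ∈ L ∧ (∀ c ∈ L, ∀ d ∈ L, mC c d ∈ L) ∧ (∀ c ∈ L, ∃ d ∈ L, mC c d = 0)) :
    Subgroup G where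
  carrier := {g | ∃ c ∈ L, ψ c = g}
  one_mem' := ⟨0, h.2.1, M.one⟩
  mul_mem' := by
    rintro _ _ ⟨c, hc, rfl⟩ ⟨d, hd, rfl⟩
    exact ⟨_, h.2.2.1 c hc d hd, (M.mul c (h.1 c hc) d (h.1 d hd)).symm⟩
  inv_mem' := by
    rintro _ ⟨c, hc, rfl⟩
    obtain ⟨d, hd, e⟩ := h.2.2.2 c hc
    exact ⟨d, hd, (inv_eq_of_mul_eq_one_right (by rw [M.mul c (h.1 c hc) d (h.1 d hd), e, M.one])).symm⟩

theorem listP_closed : (∀ c ∈ listP, c < 1152) ∧ 0 ∈ listP ∧ (∀ c ∈ listP, ∀ d ∈ listP, mC c d ∈ listP) ∧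
    (∀ c ∈ listP, ∃ d ∈ listP, mC c d = 0) := by decide +kernel

/-- The Sylow 3-subgroup of the centralizer. -/
def Model.grpP {z : G} {Q : Subgroup G} {ψ : ℕ → G} (M : Model z Q ψ) : Subgroup G := M.listSub listP listP_closed

theorem Model.mem_grpP {z : G} {Q : Subgroup G} {ψ : ℕ → G} (M : Model z Q ψ) {g : G} :
    g ∈ M.grpP ↔ ∃ c ∈ listP, ψ c = g := Iff.rfl

theorem Model.card_grpP {z : G} {Q : Subgroup G} {ψ : ℕ → G} (M : Model z Q ψ) : Nat.card M.grpP = 9 :=
  M.card_list (L := listP) lists_lt.2.2 (by decide +kernel)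

theorem Model.mem_cent_grpP {z : G} {Q : Subgroup G} {ψ : ℕ → G} (M : Model z Q ψ) {g : G} :
    g ∈ centralizer (M.grpP : Set G) ↔ ∀ c ∈ listP, ψ c * g = g * ψ c := by
  rw [mem_centralizer_iff]
  exact ⟨fun h c hc => h _ ⟨c, hc, rfl⟩, fun h x ⟨c, hc, e⟩ => e ▸ h c hc⟩

end

end CfsgLib.Spor.UFourType
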