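import Cfsg.Agent.Lib.Spor.UFourType.Fixed
import Cfsg.Agent.Lib.Spor.UFourType.KleinSmall

/-!
# The centralizer of an element of order three inside the normalizer of the odd part
-/

set_option autoImplicit false
set_option linter.unusedSectionVars false
set_option synthInstance.maxSize 4096

namespace CfsgLib.Spor.UFourType

open Subgroup

noncomputable section

/-- The three involutions of a side. -/
def uList (b : Bool) : List ℕ := [zC, wC b, wC' b]

/-- The four group of a side. -/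
def vList (b : Bool) : List ℕ := [0, zC, wC b, wC' b]

theorem vList_facts : ∀ b : Bool, ∀ e ∈ vList b, e < 1152 ∧ mC e e = 0 ∧ mC e (yC b) = mC (yC b) e ∧
    (∀ c ∈ listP, ∃ d ∈ listP, mC e c = mC d e) ∧ (∀ e' ∈ vList b, mC e e' ∈ vList b ∧ mC e e' = mC e' e) ∧
    (e ≠ 0 → e ∈ uList b ∧ e ∈ invList) := by decide +kernel

theorem vList_closed : ∀ b : Bool, (∀ c ∈ vList b, c < 1152) ∧ 0 ∈ vList b ∧
    (∀ c ∈ vList b, ∀ d ∈ vList b, mC c d ∈ vList b) ∧ (∀ c ∈ vList b, ∃ d ∈ vList b, mC c d = 0) := by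
  decide +kernel

theorem vList_card : ∀ b : Bool, (vList b).length = 4 ∧ (vList b).Nodup ∧ zC ∈ vList b ∧ wC b ∈ vList b ∧
    yC b ∈ listP ∧ (listP.filter fun c => c != 0 && c != yC b && c != mC (yC b) (yC b)).length = 6 := by
  decide +kernel

theorem four_count : ∀ d ∈ [400, 404, 496, 500],
    ((List.range 1152).filter fun c => mC c d == mC d c).length = 36 := by decide +kernel

theorem yC_mem : ∀ b : Bool, yC b ∈ [400, 404, 496, 500] := by decide +kernel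

/-- The centralizer of the element of a side. -/
def Model.grpH {G : Type*} [Group G] {z : G} {Q : Subgroup G} {ψ : ℕ → G} (_M : Model z Q ψ) (b : Bool) :
    Subgroup G := centralizer ({ψ (yC b)} : Set G)

/-- Its part normalizing the odd part. -/
def Model.grpM {G : Type*} [Group G] [Finite G] {z : G} {Q : Subgroup G} {ψ : ℕ → G} (M : Model z Q ψ) (b : Bool) :
    Subgroup G := M.grpH b ⊓ normalizer (M.grpA : Set G)

/-- The four group of a side. -/
def Model.grpV {G : Type*} [Group G] {z : G} {Q : Subgroup G} {ψ : ℕ → G} (M : Model z Q ψ) (b : Bool) :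
    Subgroup G := M.listSub (vList b) (vList_closed b)

namespace Model

variable {G : Type*} [Group G] [Finite G] {z : G} {Q : Subgroup G} {ψ : ℕ → G} (M : Model z Q ψ)
include M

theorem mem_normA {g : G} (h : ∀ a ∈ M.grpA, g * a * g⁻¹ ∈ M.grpA) : g ∈ normalizer (M.grpA : Set G) := by
  let f : M.grpA → M.grpA := fun a => ⟨g * a * g⁻¹, h a a.2⟩
  have hf : Function.Surjective f := Finite.injective_iff_surjective.1 fun a a' e =>
    Subtype.ext (mul_left_cancel (mul_right_cancel (congrArg Subtype.val e)))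
  refine mem_normalizer_iff.2 fun a => ⟨h a, fun ha => ?_⟩
  obtain ⟨a', ha'⟩ := hf ⟨_, ha⟩
  rw [← show (a' : G) = a from mul_left_cancel (mul_right_cancel (congrArg Subtype.val ha'))]
  exact a'.2

theorem normA {g a : G} (hg : g ∈ normalizer (M.grpA : Set G)) (ha : a ∈ M.grpA) : g * a * g⁻¹ ∈ M.grpA :=
  (mem_normalizer_iff.1 hg a).1 ha

theorem normA' {g a : G} (hg : g ∈ normalizer (M.grpA : Set G)) (ha : a ∈ M.grpA) : g⁻¹ * a * g ∈ M.grpA := by
  have := M.normA (inv_mem hg) ha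
  rwa [inv_inv] at this

theorem v_code {b : Bool} {v : G} (hv : v ∈ M.grpV b) : ∃ e ∈ vList b, ψ e = v := hv

theorem v_facts {b : Bool} {v : G} (hv : v ∈ M.grpV b) :
    v * v = 1 ∧ v ∈ M.grpM b ∧ (∀ v' ∈ M.grpV b, v * v' = v' * v) := by
  obtain ⟨e, he, rfl⟩ := hv
  obtain ⟨le, hee, hy, hn, hvv, -⟩ := vList_facts b e he
  have h2 : ψ e * ψ e = 1 := by rw [M.mul e le e le, hee, M.one]
  refine ⟨h2, ⟨?_, M.mem_normA fun a ha => M.grpA_conj (fun p hp => ?_) ha⟩, ?_⟩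
  · exact mem_centralizer_singleton_iff.2 ((M.comm_iff le (lists_lt.2.2 _ (vList_card b).2.2.2.2.1)).2 hy)
  · obtain ⟨c, hc, rfl⟩ := hp
    obtain ⟨d, hd, e'⟩ := hn c hc
    refine ⟨d, hd, ?_⟩
    rw [← M.conj_eq le (lists_lt.2.2 c hc) (lists_lt.2.2 d hd) e', inv_eq_of_mul_eq_one_right h2]
  · rintro v' ⟨e', he', rfl⟩
    exact (M.comm_iff le (vList_facts b e' he').1).2 (hvv e' he').2

theorem card_grpV (b : Bool) : Nat.card (M.grpV b) = 4 :=
  (M.card_list (L := vList b) (vList_closed b).1 (vList_card b).2.1).trans (vList_card b).1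

theorem z_memV (b : Bool) : z ∈ M.grpV b := ⟨zC, (vList_card b).2.2.1, M.at_z⟩

theorem yC_memA (b : Bool) : ψ (yC b) ∈ M.grpP ∧ ψ (yC b) ∈ M.grpA :=
  ⟨⟨_, (vList_card b).2.2.2.2.1, rfl⟩, M.grpP_le_grpA ⟨_, (vList_card b).2.2.2.2.1, rfl⟩⟩

theorem y_ne (b : Bool) : ψ (yC b) ≠ 1 := fun e =>
  (by decide +kernel : ∀ b : Bool, yC b ≠ 0 ∧ yC b < 1152) b |>.1 ((M.eq_one_iff
    ((by decide +kernel : ∀ b : Bool, yC b ≠ 0 ∧ yC b < 1152) b).2).1 e)

theorem grpA_leM (b : Bool) : M.grpA ≤ M.grpM b := fun a ha =>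
  ⟨mem_centralizer_singleton_iff.2 (M.grpP_comm_grpA (M.yC_memA b).1 ha).symm,
    M.mem_normA fun _ ha' => mul_mem (mul_mem ha ha') (inv_mem ha)⟩

theorem grpV_leM (b : Bool) : M.grpV b ≤ M.grpM b := fun _ hv => (M.v_facts hv).2.1

/-- Elements of the product of the odd part and the four group. -/
theorem mem_AV {b : Bool} {g : G} : g ∈ M.grpA ⊔ M.grpV b ↔ ∃ a ∈ M.grpA, ∃ v ∈ M.grpV b, g = a * v := by
  constructor
  · intro hg
    let S : Subgroup G :=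
      { carrier := {g | ∃ a ∈ M.grpA, ∃ v ∈ M.grpV b, g = a * v}
        one_mem' := ⟨1, one_mem _, 1, one_mem _, (one_mul 1).symm⟩
        mul_mem' := by
          rintro _ _ ⟨a, ha, v, hv, rfl⟩ ⟨a', ha', v', hv', rfl⟩
          exact ⟨a * (v * a' * v⁻¹), mul_mem ha (M.normA (M.v_facts hv).2.1.2 ha'), v * v', mul_mem hv hv', by group⟩
        inv_mem' := by
          rintro _ ⟨a, ha, v, hv, rfl⟩
          exact ⟨v⁻¹ * a⁻¹ * v, M.normA' (M.v_facts hv).2.1.2 (inv_mem ha), v⁻¹, inv_mem hv, by group⟩ }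
    exact (show M.grpA ⊔ M.grpV b ≤ S from sup_le (fun a ha => ⟨a, ha, 1, one_mem _, (mul_one a).symm⟩)
      (fun v hv => ⟨1, one_mem _, v, hv, (one_mul v).symm⟩)) hg
  · rintro ⟨a, ha, v, hv, rfl⟩
    exact mul_mem (mem_sup_left ha) (mem_sup_right hv)

theorem A_inter_V {b : Bool} {v : G} (hv : v ∈ M.grpV b) (ha : v ∈ M.grpA) : v = 1 := by
  have h := M.grpA_cube ha
  rwa [pow_succ, pow_two, (M.v_facts hv).1, one_mul] at h

theorem AV_unique {b : Bool} {a a' v v' : G} (ha : a ∈ M.grpA) (ha' : a' ∈ M.grpA) (hv : v ∈ M.grpV b)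
    (hv' : v' ∈ M.grpV b) (e : a * v = a' * v') : a = a' ∧ v = v' := by
  have h : v * v'⁻¹ = a⁻¹ * a' := by
    rw [mul_inv_eq_iff_eq_mul, mul_assoc, ← e, inv_mul_cancel_left]
  have h1 := M.A_inter_V (mul_mem hv (inv_mem hv')) (h ▸ mul_mem (inv_mem ha) ha')
  have hvv : v = v' := mul_inv_eq_one.1 h1
  subst hvv
  exact ⟨mul_right_cancel e, rfl⟩

/-- An involution of the product is conjugate into the four group. -/
theorem inv_conj {b : Bool} {a v : G} (ha : a ∈ M.grpA) (hv : v ∈ M.grpV b) (h : a * v * (a * v) = 1) :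
    ∃ c ∈ M.grpA, a * v = c * v * c⁻¹ := by
  obtain ⟨h2, hvM, -⟩ := M.v_facts hv
  have hvi := inv_eq_of_mul_eq_one_right h2
  have hva : v * a * v = a⁻¹ := by
    calc v * a * v = a⁻¹ * (a * v * (a * v)) := by group
      _ = a⁻¹ := by rw [h, mul_one]
  refine ⟨a ^ 2, pow_mem ha 2, ?_⟩
  have e : v * (a ^ 2)⁻¹ = a ^ 2 * v := by
    have h' : v * a ^ 2 * v⁻¹ = a⁻¹ ^ 2 := by rw [← conj_pow, hvi, hva]
    rw [inv_pow, mul_inv_eq_iff_eq_mul] at h'
    calc v * (a ^ 2)⁻¹ = v * ((a ^ 2)⁻¹ * v) * v := by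
          rw [show v * ((a ^ 2)⁻¹ * v) * v = v * (a ^ 2)⁻¹ * (v * v) by group, h2, mul_one]
      _ = v * (v * a ^ 2) * v := by rw [h']
      _ = _ := by rw [← mul_assoc v v, h2, one_mul]
  rw [mul_assoc, e, ← mul_assoc, ← pow_add, show 2 + 2 = 3 + 1 from rfl, pow_succ, M.grpA_cube ha, one_mul]

theorem v_mem_u {b : Bool} {v : G} (hv : v ∈ M.grpV b) (h1 : v ≠ 1) : ∃ u ∈ uList b, ψ u = v := by
  obtain ⟨e, he, rfl⟩ := hv
  exact ⟨e, ((vList_facts b e he).2.2.2.2.2 fun e0 => h1 (by rw [e0, M.one])).1, rfl⟩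

theorem u_memV {b : Bool} {u : ℕ} (hu : u ∈ uList b) :
    ψ u ∈ M.grpV b ∧ ψ u ≠ 1 ∧ u < 1152 ∧ ψ u * ψ u = 1 := by
  obtain ⟨hv, h1, hl⟩ : u ∈ vList b ∧ u ≠ 0 ∧ u < 1152 :=
    (by decide +kernel : ∀ b : Bool, ∀ u ∈ uList b, u ∈ vList b ∧ u ≠ 0 ∧ u < 1152) b u hu
  exact ⟨⟨u, hv, rfl⟩, fun e => h1 ((M.eq_one_iff hl).1 e), hl, (M.v_facts ⟨u, hv, rfl⟩).1⟩

theorem fixA_z : M.fixA zC = M.grpP := by
  refine le_antisymm (fun a ha => ?_) (fun p hp => ⟨M.grpP_le_grpA hp, ?_⟩)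
  · have h := ha.2
    rw [M.at_z] at h
    exact M.fixed_in_P (M.grpA_le_cent ha.1) h (M.grpA_odd ha.1)
  · rw [M.at_z]; exact M.grpP_le_C hp

/-- The fixed points of an involution of a side and the change to the centre. -/
theorem u_data {b : Bool} {u : ℕ} (hu : u ∈ uList b) :
    Nat.card (M.fixA u) = 9 ∧ ∃ g : G, g ∈ normalizer (M.grpA : Set G) ∧ g * ψ u * g⁻¹ = z ∧
      (∀ a ∈ M.fixA u, g * a * g⁻¹ ∈ M.grpP) ∧ (∀ p ∈ M.grpP, g⁻¹ * p * g ∈ M.fixA u) ∧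
      ∃ d ∈ [400, 404, 496, 500], g * ψ (yC b) * g⁻¹ = ψ d := by
  obtain ⟨h9, g, hgu, hd, hgP⟩ : Nat.card (M.fixA u) = 9 ∧ ∃ g : G, g * ψ u * g⁻¹ = z ∧
      (∃ d ∈ [400, 404, 496, 500], g * ψ (yC b) * g⁻¹ = ψ d) ∧ ∀ a ∈ M.fixA u, g * a * g⁻¹ ∈ M.grpP := by
    rcases List.mem_cons.1 hu with rfl | hu'
    · exact ⟨by rw [M.fixA_z, M.card_grpP], 1, by rw [M.at_z]; group, ⟨_, yC_mem b, by group⟩,
        fun a ha => by rw [← M.fixA_z]; simpa using ha⟩
    · obtain ⟨s, hs, hsz, hs1⟩ := M.side_exists_fix hu'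
      exact ⟨(M.side_fix_eq hu' hs hsz hs1).1, M.side_to_center hu'⟩
  have hback : ∀ p ∈ M.grpP, g⁻¹ * p * g ∈ M.fixA u := by
    intro p hp
    let f : M.fixA u → M.grpP := fun a => ⟨_, hgP a a.2⟩
    obtain ⟨a, ha⟩ := ((Function.Injective.bijective_of_nat_card_le (f := f) (fun a a' e =>
      Subtype.ext (mul_left_cancel (mul_right_cancel (congrArg Subtype.val e))))
      (by rw [h9, M.card_grpP]))).2 ⟨p, hp⟩
    rw [show p = g * a * g⁻¹ from (congrArg Subtype.val ha).symm,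
      show g⁻¹ * (g * (a : G) * g⁻¹) * g = a by group]
    exact a.2
  refine ⟨h9, g, M.mem_normA fun a ha => M.mem_grpA.2 ⟨mem_centralizer_iff.2 fun p hp => ?_, ?_⟩,
    hgu, hgP, hback, hd⟩
  · calc p * (g * a * g⁻¹) = g * (g⁻¹ * p * g * a) * g⁻¹ := by group
      _ = g * (a * (g⁻¹ * p * g)) * g⁻¹ := by rw [M.grpA_comm (hback p hp).1 ha]
      _ = _ := by group
  · rw [← MulAut.conj_apply, MulEquiv.orderOf_eq]
    exact M.grpA_odd ha

end Model

end

end CfsgLib.Spor.UFourType
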