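import Cfsg.Agent.Lib.Spor.UFourType.LocalM
import Cfsg.Agent.Lib.Char.Orthogonality

/-!
# The centralizer of an element of order three of a side normalizes the odd part
-/

set_option autoImplicit false
set_option linter.unusedSectionVars false
set_option synthInstance.maxSize 4096

namespace CfsgLib.Spor.UFourType

open Subgroup

noncomputable section

/-- An element of odd order is a power of its square. -/
theorem mem_of_sq {G : Type*} [Group G] (K : Subgroup G) {x : G} (ho : Odd (orderOf x)) (h : x * x ∈ K) : x ∈ K := by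
  obtain ⟨k, hk⟩ := ho
  have e : x = (x * x) ^ (k + 1) := by
    rw [← pow_two, ← pow_mul, show 2 * (k + 1) = (2 * k + 1) + 1 by ring, ← hk, pow_succ, pow_orderOf_eq_one, one_mul]
  rw [e]
  exact pow_mem h _

namespace Model

variable {G : Type*} [Group G] [Finite G] {z : G} {Q : Subgroup G} {ψ : ℕ → G} (M : Model z Q ψ)
include M

theorem u_part {b : Bool} {u : ℕ} (hu : u ∈ uList b) {c : G} (hc : c ∈ M.grpA) :
    ∃ e ∈ M.grpA, c * ψ u * c⁻¹ = e * ψ u := by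
  obtain ⟨hV, -, -, h2⟩ := M.u_memV hu
  refine ⟨c * (ψ u * c⁻¹ * (ψ u)⁻¹), mul_mem hc (M.normA (M.v_facts hV).2.1.2 (inv_mem hc)), ?_⟩
  group

theorem u_conj_unique {b : Bool} {u u' : ℕ} (hu : u ∈ uList b) (hu' : u' ∈ uList b) {c c' : G}
    (hc : c ∈ M.grpA) (hc' : c' ∈ M.grpA) (e : c * ψ u * c⁻¹ = c' * ψ u' * c'⁻¹) : u = u' := by
  obtain ⟨a, ha, ea⟩ := M.u_part hu hc
  obtain ⟨a', ha', ea'⟩ := M.u_part hu' hc'
  rw [ea, ea'] at e
  exact M.inj _ (M.u_memV hu).2.2.1 _ (M.u_memV hu').2.2.1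
    (M.AV_unique ha ha' (M.u_memV hu).1 (M.u_memV hu').1 e).2

/-- An element of odd order outside the odd part commutes modulo its generator with few elements. -/
theorem fix_bound {b : Bool} {τ : G} (hτ : τ ∈ M.grpM b) (ho : Odd (orderOf τ)) (hτA : τ ∉ M.grpA)
    (S : Subgroup G) (hS : S ≤ M.grpA) (hc : ∀ a ∈ S, τ * a * τ⁻¹ * a⁻¹ ∈ zpowers (ψ (yC b))) :
    Nat.card S ≤ 9 := by
  set y := ψ (yC b) with hy
  have hyA := (M.yC_memA b).2
  have hyzA : ∀ {w : G}, w ∈ zpowers y → w ∈ M.grpA := fun hw => (zpowers_le.2 hyA) hw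
  have hτV : τ ∉ M.grpA ⊔ M.grpV b := fun h => hτA (M.AV_odd h ho)
  have hzu : zC ∈ uList b := List.mem_cons_self
  have himg : ∀ j : ℕ, τ ^ j ∉ M.grpA ⊔ M.grpV b →
      ∃ c ∈ M.grpA, ∃ u ∈ uList b, u ≠ zC ∧ τ ^ j * z * (τ ^ j)⁻¹ = c * ψ u * c⁻¹ := by
    intro j hj
    have hjM := pow_mem hτ j
    have hmem : τ ^ j * z * (τ ^ j)⁻¹ ∈ M.grpM b :=
      mul_mem (mul_mem hjM (M.grpV_leM b (M.z_memV b))) (inv_mem hjM)
    have h2 : τ ^ j * z * (τ ^ j)⁻¹ * (τ ^ j * z * (τ ^ j)⁻¹) = 1 := by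
      rw [show τ ^ j * z * (τ ^ j)⁻¹ * (τ ^ j * z * (τ ^ j)⁻¹) = τ ^ j * (z * z) * (τ ^ j)⁻¹ by group, M.zz]
      group
    obtain ⟨c, hcA, u, hu, e⟩ := M.AV_invol ((M.grpM_facts b).2.1 _ hmem h2) h2
      (fun e => M.z_ne (conj_eq_one_iff.1 e))
    refine ⟨c, hcA, u, hu, fun huz => hj ?_, e⟩
    subst huz
    rw [M.at_z] at e
    have h := M.cent_u_AV hzu (h := c⁻¹ * τ ^ j) (mul_mem (inv_mem (M.grpA_leM b hcA).1) hjM.1) (by
      rw [M.at_z]
      calc c⁻¹ * τ ^ j * z = c⁻¹ * (τ ^ j * z * (τ ^ j)⁻¹) * τ ^ j := by group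
        _ = _ := by rw [e]; group)
    rw [show τ ^ j = c * (c⁻¹ * τ ^ j) by group]
    exact mul_mem (mem_sup_left hcA) h
  obtain ⟨c₁, hc₁, u₁, hu₁, hz₁, e₁⟩ := himg 1 (by rwa [pow_one])
  obtain ⟨c₂, hc₂, u₂, hu₂, hz₂, e₂⟩ := himg 2 (fun h => hτV (mem_of_sq _ ho (by rwa [← pow_two])))
  rw [pow_one] at e₁
  have hne : u₁ ≠ u₂ := by
    rintro rfl
    set d := c₂ * c₁⁻¹ with hd
    have hdA : τ⁻¹ * d * τ ∈ M.grpA := M.normA' hτ.2 (mul_mem hc₂ (inv_mem hc₁))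
    have e3 : τ * z * τ⁻¹ = (τ⁻¹ * d * τ) * z * (τ⁻¹ * d * τ)⁻¹ := by
      calc τ * z * τ⁻¹ = τ⁻¹ * (τ ^ 2 * z * (τ ^ 2)⁻¹) * τ := by group
        _ = τ⁻¹ * (d * (τ * z * τ⁻¹) * d⁻¹) * τ := by rw [e₁, e₂, hd]; group
        _ = _ := by group
    rw [e₁, ← M.at_z] at e3
    exact hz₁ (M.u_conj_unique hu₁ hzu hc₁ hdA e3)
  have act : ∀ {u : ℕ}, u ∈ uList b → ∀ {c a : G}, c ∈ M.grpA → a ∈ M.grpA →
      c * ψ u * c⁻¹ * a * (c * ψ u * c⁻¹) = ψ u * a * ψ u := by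
    intro u hu c a hcA ha
    obtain ⟨hV, -, -, h2⟩ := M.u_memV hu
    have hb : ψ u * a * (ψ u)⁻¹ ∈ M.grpA := M.normA (M.v_facts hV).2.1.2 ha
    rw [inv_eq_of_mul_eq_one_right h2] at hb
    calc c * ψ u * c⁻¹ * a * (c * ψ u * c⁻¹) = c * ψ u * (c⁻¹ * a * c) * ψ u * c⁻¹ := by group
      _ = c * (ψ u * a * ψ u) * c⁻¹ := by
          rw [mul_assoc c⁻¹, M.grpA_comm ha hcA]; group
      _ = _ := by rw [M.grpA_comm hcA hb]; group
  have hpi : ∀ a ∈ M.grpA, a * (z * a * z) ∈ M.grpP := fun a ha => by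
    rw [← M.fixA_z]
    refine ⟨mul_mem ha (M.grpA_conj_z ha), ?_⟩
    rw [M.at_z]
    refine mem_centralizer_singleton_iff.2 ?_
    calc a * (z * a * z) * z = a * z * a * (z * z) := by group
      _ = z * ((z * a * z) * a) := by
          rw [M.zz, show z * (z * a * z * a) = (z * z) * a * z * a by group, M.zz]; group
      _ = _ := by rw [M.grpA_comm (M.grpA_conj_z ha) ha]
  let f : S → M.grpP := fun a => ⟨(a : G) * (z * a * z), hpi a (hS a.2)⟩
  suffices hinj : Function.Injective f by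
    rw [← M.card_grpP]; exact Nat.card_le_card_of_injective f hinj
  intro a a' e
  have e' : (a : G) * (z * a * z) = a' * (z * a' * z) := congrArg Subtype.val e
  set d := (a' : G)⁻¹ * a with hd
  have hdS : d ∈ S := mul_mem (inv_mem a'.2) a.2
  have hdA := hS hdS
  suffices h1 : d = 1 from Subtype.ext (inv_mul_eq_one.1 h1).symm
  have hdz : z * d * z = d⁻¹ := by
    have hzi := M.z_inv
    have hw := M.grpA_conj_z (hS a.2)
    have hw' := M.grpA_conj_z (hS a'.2)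
    refine eq_inv_of_mul_eq_one_left ?_
    have h0 : ((a' : G) * (z * a' * z))⁻¹ * (a * (z * a * z)) = 1 := by rw [e', inv_mul_cancel]
    calc z * d * z * d = (z * a' * z)⁻¹ * (z * a * z) * ((a' : G)⁻¹ * a) := by
          rw [hd, mul_inv_rev, mul_inv_rev, hzi]
          rw [show z * ((a' : G)⁻¹ * a) * z * ((a' : G)⁻¹ * a) = z * (a' : G)⁻¹ * (1 : G) * a * z * ((a' : G)⁻¹ * a)
            by group, ← M.zz]
          group
      _ = (z * a' * z)⁻¹ * ((a' : G)⁻¹ * ((z * a * z) * a)) := by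
          rw [mul_assoc, ← mul_assoc (z * (a : G) * z), M.grpA_comm hw (inv_mem (hS a'.2))]; group
      _ = 1 := by rw [M.grpA_comm hw (hS a.2), ← mul_assoc, ← mul_inv_rev, h0]
  have hrel : ∀ (u : ℕ), u ∈ uList b → ∀ (σ c : G), c ∈ M.grpA → σ * z * σ⁻¹ = c * ψ u * c⁻¹ →
      (∃ k ∈ zpowers y, σ * d * σ⁻¹ = k * d) → ∃ k ∈ zpowers y, ψ u * d * ψ u = k * d⁻¹ := by
    intro u hu σ c hcA eσ ⟨k, hk, ek⟩
    have hcy : ∀ w : G, w ∈ M.grpH b → w * k = k * w := fun w hw => by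
      obtain ⟨i, rfl⟩ := mem_zpowers_iff.1 hk
      exact ((show Commute w y from mem_centralizer_singleton_iff.1 hw).zpow_right i).eq
    obtain ⟨hV, -, -, h2⟩ := M.u_memV hu
    have hkd := M.grpA_comm (hyzA hk) hdA
    have hku : ψ u * k = k * ψ u := hcy _ (M.v_facts hV).2.1.1
    refine ⟨k⁻¹ * k⁻¹, mul_mem (inv_mem hk) (inv_mem hk), ?_⟩
    have h : ψ u * (k * d) * ψ u = (k * d)⁻¹ := by
      rw [← act hu hcA (mul_mem (hyzA hk) hdA), ← eσ, ← ek]
      calc σ * z * σ⁻¹ * (σ * d * σ⁻¹) * (σ * z * σ⁻¹) = σ * (z * d * z) * σ⁻¹ := by group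
        _ = _ := by rw [hdz]; group
    rw [← mul_assoc, hku, mul_assoc, mul_assoc, ← eq_inv_mul_iff_mul_eq, ← mul_assoc, hkd, mul_inv_rev] at h
    rw [h, mul_assoc k⁻¹ k⁻¹, M.grpA_comm (inv_mem (hyzA hk)) (inv_mem hdA)]
  have hk1 : ∃ k ∈ zpowers y, τ * d * τ⁻¹ = k * d := ⟨_, hc d hdS, by group⟩
  have hk2 : ∃ k ∈ zpowers y, τ ^ 2 * d * (τ ^ 2)⁻¹ = k * d := by
    obtain ⟨k, hk, ek⟩ := hk1
    refine ⟨k * k, mul_mem hk hk, ?_⟩
    have hkτ : τ * k = k * τ := by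
      obtain ⟨i, rfl⟩ := mem_zpowers_iff.1 hk
      exact ((show Commute τ y from mem_centralizer_singleton_iff.1 hτ.1).zpow_right i).eq
    calc τ ^ 2 * d * (τ ^ 2)⁻¹ = τ * (τ * d * τ⁻¹) * τ⁻¹ := by rw [pow_two]; group
      _ = τ * k * d * τ⁻¹ := by rw [ek]; group
      _ = k * (τ * d * τ⁻¹) := by rw [hkτ]; group
      _ = _ := by rw [ek, mul_assoc]
  obtain ⟨k₁, hk₁, f₁⟩ := hrel u₁ hu₁ τ c₁ hc₁ e₁ hk1
  obtain ⟨k₂, hk₂, f₂⟩ := hrel u₂ hu₂ (τ ^ 2) c₂ hc₂ e₂ hk2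
  obtain ⟨hl, hne'⟩ : u₁ ∈ [wC b, wC' b] ∧ u₂ ∈ [wC b, wC' b] := by
    refine ⟨?_, ?_⟩
    · rcases List.mem_cons.1 hu₁ with h | h; exacts [absurd h hz₁, h]
    · rcases List.mem_cons.1 hu₂ with h | h; exacts [absurd h hz₂, h]
  have hzu₂ : ψ u₂ = z * ψ u₁ := by
    obtain ⟨h, h', -⟩ := side_pair b
    rw [← M.at_z, M.mul zC (by norm_num) _ (M.u_memV hu₁).2.2.1]
    congr 1
    simp only [List.mem_cons, List.not_mem_nil, or_false] at hl hne'
    rcases hl with rfl | rfl <;> rcases hne' with rfl | rfl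
    · exact absurd rfl hne
    · exact h.symm
    · exact h'.symm
    · exact absurd rfl hne
  have hyz : ∀ k ∈ zpowers y, z * k * z = k := fun k hk => by
    obtain ⟨i, rfl⟩ := mem_zpowers_iff.1 hk
    rw [← ((show Commute y z from mem_centralizer_singleton_iff.1 (M.grpP_le_C (M.yC_memA b).1)).zpow_left i).eq,
      mul_assoc, M.zz, mul_one]
  have hzi : z * d⁻¹ * z = d := by
    have h := congrArg (·⁻¹) hdz
    simpa [mul_inv_rev, M.z_inv, mul_assoc] using h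
  have huz : ψ u₁ * z = z * ψ u₁ := M.comm_z (M.u_memV hu₁).2.2.1
  have hdd : d * d ∈ zpowers y := by
    have h : k₁ * d = k₂ * d⁻¹ := by
      rw [← f₂, hzu₂]
      symm
      calc z * ψ u₁ * d * (z * ψ u₁) = z * (ψ u₁ * d * ψ u₁) * z := by nth_rw 2 [← huz]; group
        _ = z * k₁ * (z * z) * d⁻¹ * z := by rw [f₁, M.zz]; group
        _ = z * k₁ * z * (z * d⁻¹ * z) := by group
        _ = k₁ * d := by rw [hyz k₁ hk₁, hzi]
    rw [show d * d = k₁⁻¹ * k₂ by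
      rw [eq_inv_mul_iff_mul_eq, ← mul_assoc, h, inv_mul_cancel_right]]
    exact mul_mem (inv_mem hk₁) hk₂
  have hdy := mem_of_sq _ (M.grpA_odd hdA) hdd
  have hfix : z * d * z = d := hyz d hdy
  have h3 := M.grpA_cube hdA
  rwa [pow_succ, pow_two, mul_eq_one_iff_eq_inv.2 (hfix.symm.trans hdz), one_mul] at h3

/-- Subgroups of odd order of the part normalizing the odd part meet it largely. -/
theorem inter_big {b : Bool} (B : Subgroup G) (hB : B ≤ M.grpM b) (hodd : Odd (Nat.card B)) :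
    Nat.card B ≤ 3 * Nat.card (B ⊓ M.grpA : Subgroup G) := by
  classical
  set Mb := M.grpM b with hMb
  haveI hAn : (M.grpA.subgroupOf Mb).Normal := ⟨fun a ha g => M.normA g.2.2 ha⟩
  set A' := M.grpA.subgroupOf Mb with hA'
  let π : Mb →* Mb ⧸ A' := QuotientGroup.mk' A'
  let f : B →* Mb ⧸ A' := π.comp (Subgroup.inclusion hB)
  have hA81 : Nat.card A' = 81 :=
    (Nat.card_congr (Subgroup.subgroupOfEquivOfLe (M.grpA_leM b)).toEquiv).trans M.card_grpA
  have hQ : Nat.card (Mb ⧸ A') ∣ 12 := by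
    have h := Subgroup.card_eq_card_quotient_mul_card_subgroup A'
    rw [hA81] at h
    rcases (M.grpM_facts b).1 with h' | h'
    · have h'' : Nat.card Mb = 324 := h'
      exact ⟨3, by omega⟩
    · have h'' : Nat.card Mb = 972 := h'
      exact ⟨1, by omega⟩
  have hr : Nat.card f.range ∣ 3 := by
    have h1 : Nat.card f.range ∣ Nat.card B := Subgroup.card_range_dvd f
    have h2 : Nat.card f.range ∣ 4 * 3 := (Subgroup.card_subgroup_dvd_card f.range).trans hQ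
    refine (Nat.Coprime.dvd_mul_left ?_).1 h2
    exact Nat.Coprime.coprime_dvd_left h1 (show Nat.Coprime (Nat.card B) (2 ^ 2) from
      Nat.Coprime.pow_right 2 (Nat.coprime_two_right.2 hodd))
  have hk : Nat.card f.ker ≤ Nat.card (B ⊓ M.grpA : Subgroup G) := by
    refine Nat.card_le_card_of_injective (fun k : f.ker => (⟨(k.1 : G), k.1.2, ?_⟩ :
      (B ⊓ M.grpA : Subgroup G))) fun k k' e => Subtype.ext (Subtype.ext (congrArg Subtype.val e :))
    have h := MonoidHom.mem_ker.1 k.2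
    exact Subgroup.mem_subgroupOf.1 ((QuotientGroup.eq_one_iff (Subgroup.inclusion hB k.1)).1 h)
  have e := f.ker.card_mul_index
  rw [Subgroup.index_ker] at e
  rw [← e, mul_comm]
  exact Nat.mul_le_mul (Nat.le_of_dvd (by norm_num) hr) hk

/-- An abelian subgroup of order 81 is the odd part. -/
theorem abelian81 {b : Bool} (B : Subgroup G) (hB : B ≤ M.grpM b) (hcard : Nat.card B = 81)
    (hab : ∀ x ∈ B, ∀ x' ∈ B, x * x' = x' * x) : B = M.grpA := by
  by_contra hne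
  have hle : ¬ B ≤ M.grpA := fun h => hne (Subgroup.eq_of_le_of_card_ge h (by rw [hcard, M.card_grpA]))
  obtain ⟨τ, hτ, hτA⟩ := SetLike.not_le_iff_exists.1 hle
  have hodd : Odd (Nat.card B) := by rw [hcard]; decide
  have hbig := M.inter_big B hB hodd
  have hb := M.fix_bound (hB hτ) (hodd.of_dvd_nat (Subgroup.orderOf_dvd_natCard B hτ)) hτA (B ⊓ M.grpA) inf_le_right
    (fun a ha => by rw [hab τ hτ a ha.1]; simp)
  omega

/-- An element mapping an involution into the part normalizing the odd part lies in it. -/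
theorem embedded {b : Bool} {u h : G} (hu : u ∈ M.grpM b) (hu2 : u * u = 1) (hu1 : u ≠ 1) (hh : h ∈ M.grpH b)
    (him : h * u * h⁻¹ ∈ M.grpM b) : h ∈ M.grpM b := by
  obtain ⟨c, hc, v, hv, rfl⟩ := M.AV_invol ((M.grpM_facts b).2.1 u hu hu2) hu2 hu1
  have him2 : h * (c * ψ v * c⁻¹) * h⁻¹ * (h * (c * ψ v * c⁻¹) * h⁻¹) = 1 := by
    rw [show h * (c * ψ v * c⁻¹) * h⁻¹ * (h * (c * ψ v * c⁻¹) * h⁻¹) = h * ((c * ψ v * c⁻¹) * (c * ψ v * c⁻¹)) * h⁻¹
      by group, hu2]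
    group
  obtain ⟨c', hc', v', hv', e⟩ := M.AV_invol ((M.grpM_facts b).2.1 _ him him2) him2
    (fun e => hu1 (conj_eq_one_iff.1 e))
  set h' := c'⁻¹ * h * c with hh'
  have hh'H : h' ∈ M.grpH b := mul_mem (mul_mem (inv_mem (M.grpA_leM b hc').1) hh) (M.grpA_leM b hc).1
  have hmap : h' * ψ v * h'⁻¹ = ψ v' := by
    calc h' * ψ v * h'⁻¹ = c'⁻¹ * (h * (c * ψ v * c⁻¹) * h⁻¹) * c' := by rw [hh']; group
      _ = _ := by rw [e]; group
  have hN := M.carry hv hv' (h := h') fun a ha => by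
    have hb : h' * a * h'⁻¹ ∈ M.grpH b := mul_mem (mul_mem hh'H (M.grpA_leM b ha.1).1) (inv_mem hh'H)
    have hbc : h' * a * h'⁻¹ * ψ v' = ψ v' * (h' * a * h'⁻¹) := by
      rw [← hmap]
      calc h' * a * h'⁻¹ * (h' * ψ v * h'⁻¹) = h' * (a * ψ v) * h'⁻¹ := by group
        _ = h' * (ψ v * a) * h'⁻¹ := by rw [mem_centralizer_singleton_iff.1 ha.2]
        _ = _ := by group
    exact ⟨M.AV_odd (M.cent_u_AV hv' hb hbc) (by
      rw [← MulAut.conj_apply, MulEquiv.orderOf_eq]; exact M.grpA_odd ha.1), mem_centralizer_singleton_iff.2 hbc⟩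
  rw [show h = c' * h' * c⁻¹ by rw [hh']; group]
  exact mul_mem (mul_mem (M.grpA_leM b hc') ⟨hh'H, hN⟩) (inv_mem (M.grpA_leM b hc))

/-- In a subgroup with one class of involutions their number is the index of a centralizer. -/
theorem card_invol_sub {b : Bool} (K : Subgroup G) (hK : K ≤ M.grpH b) (hzK : z ∈ K)
    (hC : ∀ h ∈ M.grpH b, h * z = z * h → h ∈ K)
    (hall : ∀ t ∈ K, t * t = 1 → t ≠ 1 → ∃ k ∈ K, k * z * k⁻¹ = t) :
    Nat.card {t : K // t * t = 1 ∧ t ≠ 1} * 36 = Nat.card K := by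
  let zk : K := ⟨z, hzK⟩
  have e : Nat.card {t : K // t * t = 1 ∧ t ≠ 1} = Nat.card {t : K // IsConj zk t} :=
    Nat.card_congr (Equiv.subtypeEquivRight fun t => ⟨fun ⟨h2, h1⟩ => by
      obtain ⟨k, hk, e⟩ := hall t t.2 (congrArg Subtype.val h2) (fun e => h1 (Subtype.ext e))
      exact isConj_iff.2 ⟨⟨k, hk⟩, Subtype.ext e⟩, fun h => by
      obtain ⟨g, rfl⟩ := isConj_iff.1 h
      refine ⟨?_, fun he => M.z_ne (congrArg Subtype.val (conj_eq_one_iff.1 he))⟩
      rw [show g * zk * g⁻¹ * (g * zk * g⁻¹) = g * (zk * zk) * g⁻¹ by group,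
        show zk * zk = 1 from Subtype.ext M.zz]
      group⟩)
  have hzu : zC ∈ uList b := List.mem_cons_self
  have h36 : Nat.card (centralizer ({zk} : Set K)) = 36 := by
    rw [← M.card_cent_u hzu]
    exact Nat.card_congr
      { toFun := fun k => ⟨k.1.1, hK k.1.2, mem_centralizer_singleton_iff.2 (by
          rw [M.at_z]; exact congrArg Subtype.val (mem_centralizer_singleton_iff.1 k.2))⟩
        invFun := fun h => ⟨⟨h.1, hC h.1 h.2.1 (by
          simpa only [M.at_z] using mem_centralizer_singleton_iff.1 h.2.2)⟩, mem_centralizer_singleton_iff.2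
          (Subtype.ext (by simpa only [M.at_z, zk, Subgroup.coe_mul] using mem_centralizer_singleton_iff.1 h.2.2))⟩
        left_inv := fun k => rfl
        right_inv := fun h => rfl }
  rw [e, CfsgLib.Char.card_isConj, ← h36, Subgroup.index_mul_card]

/-- The centralizer normalizes the odd part. -/
theorem grpH_le (b : Bool) : M.grpH b ≤ M.grpM b := by
  classical
  by_contra hcon
  obtain ⟨h₀, hh₀, hh₀M⟩ := SetLike.not_le_iff_exists.1 hcon
  set H := M.grpH b with hH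
  set Mb := M.grpM b with hMb
  have hMH : Mb ≤ H := inf_le_left
  have hzu : zC ∈ uList b := List.mem_cons_self
  have hzM : z ∈ Mb := M.grpV_leM b (M.z_memV b)
  have hzH := hMH hzM
  have hCz : ∀ h ∈ H, h * z = z * h → h ∈ Mb := fun h hh hc =>
    M.AV_leM b (M.cent_u_AV hzu hh (by rw [M.at_z]; exact hc))
  set t₀ := h₀ * z * h₀⁻¹ with ht₀
  have ht₀H : t₀ ∈ H := mul_mem (mul_mem hh₀ hzH) (inv_mem hh₀)
  have ht₀M : t₀ ∉ Mb := fun h => hh₀M (M.embedded hzM M.zz M.z_ne hh₀ h)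
  have ht₀2 : t₀ * t₀ = 1 := by
    rw [ht₀, show h₀ * z * h₀⁻¹ * (h₀ * z * h₀⁻¹) = h₀ * (z * z) * h₀⁻¹ by group, M.zz]; group
  have conj_all : ∀ u ∈ Mb, u * u = 1 → u ≠ 1 → ∀ t ∈ H, t ∉ Mb → t * t = 1 → ∃ h ∈ H, h * u * h⁻¹ = t := by
    intro u hu hu2 hu1 t ht htM ht2
    set x := t * u with hx
    have hxH : x ∈ H := mul_mem ht (hMH hu)
    have hui := inv_eq_of_mul_eq_one_right hu2
    have hti := inv_eq_of_mul_eq_one_right ht2
    have hxu : ∀ j : ℕ, u * x ^ j * u⁻¹ = (x⁻¹) ^ j := fun j => by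
      rw [← conj_pow]
      congr 1
      rw [hx, mul_inv_rev, hui, hti, mul_assoc, mul_assoc, hu2, mul_one]
    rcases Nat.even_or_odd (orderOf x) with he | ⟨k, hk⟩
    · exfalso
      refine htM ?_
      set m := orderOf x / 2
      obtain ⟨hc2, hc1⟩ := (show x ^ m * x ^ m = 1 ∧ x ^ m ≠ 1 by
        obtain ⟨k, hk⟩ := he
        have hm := orderOf_pos x
        have e : m = k := by omega
        rw [e]
        refine ⟨by rw [← pow_add, ← hk, pow_orderOf_eq_one], fun he => ?_⟩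
        have := Nat.le_of_dvd (by omega) (orderOf_dvd_of_pow_eq_one he)
        omega)
      have hcu : x ^ m * u = u * x ^ m := by
        have h := hxu m
        rw [inv_pow, inv_eq_of_mul_eq_one_right hc2] at h
        conv_lhs => rw [← h]
        rw [mul_assoc, inv_mul_cancel, mul_one]
      have hcM : x ^ m ∈ Mb := M.embedded hu hu2 hu1 (pow_mem hxH m) (by rw [hcu, mul_inv_cancel_right]; exact hu)
      refine M.embedded hcM hc2 hc1 ht ?_
      have hct : x ^ m * t = t * x ^ m := by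
        have h : Commute (x ^ m) (x * u) := (Commute.pow_self x m).mul_right hcu
        rwa [hx, mul_assoc t u u, hu2, mul_one, ← hx] at h
      rw [← hct, mul_inv_cancel_right]
      exact hcM
    · refine ⟨x ^ (k + 1), pow_mem hxH _, ?_⟩
      have h := hxu (k + 1)
      have e : u * (x ^ (k + 1))⁻¹ = x ^ (k + 1) * u := by
        rw [← inv_pow, ← h, ← mul_assoc, ← mul_assoc, hu2, one_mul, hui]
      rw [mul_assoc, e, ← mul_assoc, ← pow_add, show k + 1 + (k + 1) = (2 * k + 1) + 1 by ring, ← hk, pow_succ,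
        pow_orderOf_eq_one, one_mul, hx, mul_assoc, hu2, mul_one]
  have allM : ∀ t ∈ Mb, t * t = 1 → t ≠ 1 → ∃ k ∈ Mb, k * z * k⁻¹ = t := by
    intro t ht ht2 ht1
    obtain ⟨g, hg, eg⟩ := conj_all t ht ht2 ht1 t₀ ht₀H ht₀M ht₀2
    refine ⟨g⁻¹ * h₀, M.embedded hzM M.zz M.z_ne (mul_mem (inv_mem hg) hh₀) ?_, ?_⟩
    all_goals
      have e : g⁻¹ * h₀ * z * (g⁻¹ * h₀)⁻¹ = t := by
        calc g⁻¹ * h₀ * z * (g⁻¹ * h₀)⁻¹ = g⁻¹ * t₀ * g := by rw [ht₀]; group
          _ = t := by rw [← eg]; group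
    · rw [e]; exact ht
    · exact e
  have allH : ∀ t ∈ H, t * t = 1 → t ≠ 1 → ∃ k ∈ H, k * z * k⁻¹ = t := by
    intro t ht ht2 ht1
    by_cases htM : t ∈ Mb
    · obtain ⟨k, hk, e⟩ := allM t htM ht2 ht1
      exact ⟨k, hMH hk, e⟩
    · exact conj_all z hzM M.zz M.z_ne t ht htM ht2
  have hw : wC b ∈ uList b := List.mem_cons_of_mem _ List.mem_cons_self
  have h972 : Nat.card Mb = 972 := by
    refine (M.grpM_facts b).1.resolve_left fun h324 => ?_
    have hMAV : M.grpA ⊔ M.grpV b = Mb := Subgroup.eq_of_le_of_card_ge (M.AV_leM b) (by rw [M.card_AV]; exact h324.le)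
    obtain ⟨hwV, hw1, -, hw2⟩ := M.u_memV hw
    obtain ⟨k, hk, e⟩ := allM _ (M.grpV_leM b hwV) hw2 hw1
    rw [← hMAV] at hk
    obtain ⟨a, ha, v, hv, rfl⟩ := M.mem_AV.1 hk
    have : zC = wC b := M.u_conj_unique hzu hw ha (one_mem _) (by
      rw [M.at_z]
      calc a * z * a⁻¹ = a * (z * v * v⁻¹) * a⁻¹ := by group
        _ = a * (v * z * v⁻¹) * a⁻¹ := by rw [(M.v_facts hv).2.2 z (M.z_memV b)]
        _ = a * v * z * (a * v)⁻¹ := by group
        _ = _ := by rw [e]; group)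
    exact (by decide +kernel : ∀ b : Bool, zC ≠ wC b) b this
  have cH := M.card_invol_sub H le_rfl hzH (fun h hh _ => hh) allH
  have cM := M.card_invol_sub Mb hMH hzM hCz allM
  rw [h972] at cM
  -- a coset with many involutions
  set M' := Mb.subgroupOf H with hM'
  let Out := {t : H // (t * t = 1 ∧ t ≠ 1) ∧ t ∉ M'}
  let In := {t : H // (t * t = 1 ∧ t ≠ 1) ∧ t ∈ M'}
  have hsum : Nat.card {t : H // t * t = 1 ∧ t ≠ 1} = Nat.card In + Nat.card Out := by
    rw [← Nat.card_sum]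
    refine Nat.card_congr ((Equiv.sumCompl fun t : {t : H // t * t = 1 ∧ t ≠ 1} => (t : H) ∈ M').symm.trans ?_)
    exact Equiv.sumCongr (Equiv.subtypeSubtypeEquivSubtypeInter (fun t : H => t * t = 1 ∧ t ≠ 1) (· ∈ M'))
      (Equiv.subtypeSubtypeEquivSubtypeInter (fun t : H => t * t = 1 ∧ t ≠ 1) fun t => t ∉ M')
  have hIn : Nat.card In = 27 := by
    have e : Nat.card In = Nat.card {t : Mb // t * t = 1 ∧ t ≠ 1} := Nat.card_congr
      { toFun := fun t => ⟨⟨t.1.1, t.2.2⟩, Subtype.ext (congrArg Subtype.val t.2.1.1 :),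
          fun e => t.2.1.2 (Subtype.ext (congrArg Subtype.val e :))⟩
        invFun := fun t => ⟨⟨t.1.1, hMH t.1.2⟩, ⟨Subtype.ext (congrArg Subtype.val t.2.1 :),
          fun e => t.2.2 (Subtype.ext (congrArg Subtype.val e :))⟩, t.1.2⟩
        left_inv := fun t => rfl
        right_inv := fun t => rfl }
    omega
  have hidx : Nat.card (H ⧸ M') * 972 = Nat.card H := by
    rw [← h972, ← (Nat.card_congr (Subgroup.subgroupOfEquivOfLe hMH).toEquiv),
      ← Subgroup.card_eq_card_quotient_mul_card_subgroup]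
  haveI : Fintype Out := Fintype.ofFinite _
  haveI : Fintype (H ⧸ M') := Fintype.ofFinite _
  let qq : Out → {q : H ⧸ M' // q ≠ ((1 : H) : H ⧸ M')} := fun t => ⟨(t.1 : H ⧸ M'), fun e => t.2.2 (by
    rw [QuotientGroup.eq, mul_one] at e
    exact inv_mem_iff.1 e)⟩
  have hm2 : 2 ≤ Fintype.card (H ⧸ M') := by
    refine Fintype.one_lt_card_iff.2 ⟨((⟨h₀, hh₀⟩ : H) : H ⧸ M'), ((1 : H) : H ⧸ M'), fun e => hh₀M ?_⟩
    rw [QuotientGroup.eq, mul_one] at e
    exact inv_mem_iff.1 e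
  have hlt : Fintype.card {q : H ⧸ M' // q ≠ ((1 : H) : H ⧸ M')} * 26 < Fintype.card Out := by
    have hc : Fintype.card {q : H ⧸ M' // q ≠ ((1 : H) : H ⧸ M')} = Fintype.card (H ⧸ M') - 1 := by
      rw [Fintype.card_subtype_compl, Fintype.card_subtype_eq]
    rw [hc, ← Nat.card_eq_fintype_card (α := Out)]
    rw [Nat.card_eq_fintype_card (α := H ⧸ M')] at hidx
    omega
  obtain ⟨⟨q, hq⟩, hfib⟩ := Fintype.exists_lt_card_fiber_of_mul_lt_card qq hlt
  obtain ⟨t₁, ht₁⟩ := Finset.card_pos.1 (lt_trans (by norm_num) hfib)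
  simp only [Finset.mem_filter, Finset.mem_univ, true_and] at ht₁
  set t : G := ((t₁.1 : H) : G) with ht
  have htH : t ∈ H := t₁.1.2
  have htM : t ∉ Mb := t₁.2.2
  have ht2 : t * t = 1 := congrArg Subtype.val t₁.2.1.1
  have ht1 : t ≠ 1 := fun e => t₁.2.1.2 (Subtype.ext e)
  have hti := inv_eq_of_mul_eq_one_right ht2
  -- the elements inverted by it
  let D := {m : G // m ∈ Mb ∧ t * m * t = m⁻¹}
  have hD : 27 ≤ Nat.card D := by
    refine le_trans (Nat.succ_le_of_lt hfib) ?_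
    rw [← Nat.card_eq_finsetCard]
    refine Nat.card_le_card_of_injective (fun s => (⟨t * (s.1.1 : G), ?_, ?_⟩ : D)) fun s s' e => ?_
    · have hs := s.2
      simp only [Finset.mem_filter, Finset.mem_univ, true_and] at hs
      have h : qq t₁ = qq s.1 := ht₁.trans hs.symm
      have h' : ((t₁.1 : H) : H ⧸ M') = ((s.1.1 : H) : H ⧸ M') := congrArg Subtype.val h
      rw [QuotientGroup.eq] at h'
      have h'' : t⁻¹ * (s.1.1 : G) ∈ Mb := h'
      rwa [hti] at h''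
    · have hs2 : (s.1.1 : G) * s.1.1 = 1 := congrArg Subtype.val s.1.2.1.1
      rw [mul_inv_rev, hti, inv_eq_of_mul_eq_one_right hs2, ← mul_assoc t t, ht2, one_mul]
    · exact Subtype.ext (Subtype.ext (Subtype.ext (mul_left_cancel (congrArg Subtype.val e))))
  let L : Subgroup G := Mb ⊓ Mb.comap (MulAut.conj t).toMonoidHom
  have hLt : ∀ {l : G}, l ∈ L → t * l * t ∈ Mb := fun {l} hl => by
    have h : t * l * t⁻¹ ∈ Mb := hl.2
    rwa [hti] at h
  have hLodd : Odd (Nat.card L) := by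
    rw [← Nat.not_even_iff_odd, even_iff_two_dvd]
    intro h2
    haveI : Fact (Nat.Prime 2) := ⟨Nat.prime_two⟩
    obtain ⟨u, hu⟩ := exists_prime_orderOf_dvd_card' (G := L) 2 h2
    rw [← Subgroup.orderOf_coe] at hu
    refine htM (M.embedded u.2.1 (by rw [← pow_two, ← hu, pow_orderOf_eq_one])
      (fun e => by rw [e, orderOf_one] at hu; norm_num at hu) htH ?_)
    exact u.2.2
  have hDL : ∀ d : D, (d : G) ∈ L := fun d => ⟨d.2.1, by
    show t * (d : G) * t⁻¹ ∈ Mb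
    rw [hti, d.2.2]; exact inv_mem d.2.1⟩
  set y := ψ (yC b) with hy
  have hyM : y ∈ Mb := M.grpA_leM b (M.yC_memA b).2
  have htyt : t * y * t⁻¹ = y := by rw [mem_centralizer_singleton_iff.1 htH, mul_inv_cancel_right]
  have hyL : y ∈ L := ⟨hyM, show t * y * t⁻¹ ∈ Mb by rw [htyt]; exact hyM⟩
  have hy3 : y ^ 3 = 1 := M.grpP_cube (M.yC_memA b).1
  have hy1 : y ≠ 1 := M.y_ne b
  have hycomm : ∀ m : G, m ∈ H → ∀ i : ℕ, m * y ^ i = y ^ i * m := fun m hm i =>
    ((show Commute m y from mem_centralizer_singleton_iff.1 hm).pow_right i).eq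
  let g : D × Fin 3 → L := fun x => ⟨x.1 * y ^ (x.2 : ℕ), mul_mem (hDL x.1) (pow_mem hyL _)⟩
  have hginj : Function.Injective g := by
    rintro ⟨d, i⟩ ⟨d', j⟩ e
    have e' : (d : G) * y ^ (i : ℕ) = d' * y ^ (j : ℕ) := congrArg Subtype.val e
    have e'' : (d : G)⁻¹ * y ^ (i : ℕ) = (d' : G)⁻¹ * y ^ (j : ℕ) := by
      have h : t * ((d : G) * y ^ (i : ℕ)) * t = t * ((d' : G) * y ^ (j : ℕ)) * t := by rw [e']
      rwa [show t * ((d : G) * y ^ (i : ℕ)) * t = t * d * (y ^ (i : ℕ) * t) by group, ← hycomm t htH,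
        show t * ((d' : G) * y ^ (j : ℕ)) * t = t * d' * (y ^ (j : ℕ) * t) by group, ← hycomm t htH,
        ← mul_assoc, ← mul_assoc, d.2.2, d'.2.2] at h
    have hsq : y ^ ((i : ℕ) + i) = y ^ ((j : ℕ) + j) := by
      rw [pow_add, pow_add]
      calc y ^ (i : ℕ) * y ^ (i : ℕ) = (d : G) * y ^ (i : ℕ) * ((d : G)⁻¹ * y ^ (i : ℕ)) := by
            rw [mul_assoc (d : G), ← mul_assoc (y ^ (i : ℕ)) (d : G)⁻¹, ← hycomm _ (inv_mem (hMH d.2.1))]
            group
        _ = (d' : G) * y ^ (j : ℕ) * ((d' : G)⁻¹ * y ^ (j : ℕ)) := by rw [e', e'']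
        _ = _ := by
            rw [mul_assoc (d' : G), ← mul_assoc (y ^ (j : ℕ)) (d' : G)⁻¹, ← hycomm _ (inv_mem (hMH d'.2.1))]
            group
    have hij : i = j := by
      rw [pow_eq_pow_iff_modEq, orderOf_eq_prime hy3 hy1] at hsq
      exact (by decide : ∀ i j : Fin 3, ((i : ℕ) + i) % 3 = ((j : ℕ) + j) % 3 → i = j) i j hsq
    subst hij
    exact Prod.ext (Subtype.ext (mul_right_cancel e')) rfl
  have hge : 81 ≤ Nat.card L := by
    have h := Nat.card_le_card_of_injective g hginj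
    rw [Nat.card_prod, Nat.card_fin] at h
    omega
  have hdvd : Nat.card L ∣ 243 := by
    have h : Nat.card L ∣ 4 * 243 := (Subgroup.card_dvd_of_le inf_le_left).trans (by rw [h972])
    exact (Nat.Coprime.dvd_mul_left (show Nat.Coprime (Nat.card L) (2 ^ 2) from
      Nat.Coprime.pow_right 2 (Nat.coprime_two_right.2 hLodd))).1 h
  have hbig := M.inter_big L inf_le_left hLodd
  have hnA : L ≠ M.grpA := fun e => htM ⟨htH, M.mem_normA fun a ha => by
    have hl : a ∈ L := e ▸ ha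
    have h : t * a * t⁻¹ ∈ L := ⟨hl.2, by
      show t * (t * a * t⁻¹) * t⁻¹ ∈ Mb
      rw [show t * (t * a * t⁻¹) * t⁻¹ = (t * t) * a * (t * t)⁻¹ by group, ht2]
      rw [inv_one, one_mul, mul_one]
      exact hl.1⟩
    exact e ▸ h⟩
  have hL2 : Nat.card L = 81 ∨ Nat.card L = 243 := by
    have h : Nat.card L ∈ Nat.divisors 243 := Nat.mem_divisors.2 ⟨hdvd, by norm_num⟩
    exact (by decide +kernel : ∀ m ∈ Nat.divisors 243, 81 ≤ m → m = 81 ∨ m = 243) _ h hge
  rcases hL2 with h81 | h243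
  · -- the commutators are powers of the element
    have hbij := hginj.bijective_of_nat_card_le (by
      rw [h81, Nat.card_prod, Nat.card_fin]; omega)
    have hcomm : ∀ d d' : D, (d : G) * d' * (d : G)⁻¹ * (d' : G)⁻¹ ∈ zpowers y := by
      intro d d'
      obtain ⟨⟨f, i⟩, hf⟩ := hbij.2 ⟨_, mul_mem (hDL d) (hDL d')⟩
      have e : (f : G) * y ^ (i : ℕ) = d * d' := congrArg Subtype.val hf
      have e2 : (d : G)⁻¹ * (d' : G)⁻¹ = (f : G)⁻¹ * y ^ (i : ℕ) := by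
        calc (d : G)⁻¹ * (d' : G)⁻¹ = t * d * t * (t * d' * t) := by rw [d.2.2, d'.2.2]
          _ = t * d * (t * t) * d' * t := by group
          _ = t * (f * y ^ (i : ℕ)) * t := by rw [ht2, e]; group
          _ = t * f * (t * y ^ (i : ℕ)) := by rw [hycomm t htH]; group
          _ = _ := by rw [← mul_assoc, f.2.2]
      have e3 : (d : G) * d' * ((d : G)⁻¹ * (d' : G)⁻¹) = y ^ (i : ℕ) * y ^ (i : ℕ) := by
        rw [e2, ← e, mul_assoc (f : G), ← mul_assoc (y ^ (i : ℕ)), ← hycomm _ (inv_mem (hMH f.2.1))]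
        group
      rw [mul_assoc ((d : G) * d'), e3]
      exact mul_mem (pow_mem (mem_zpowers y) _) (pow_mem (mem_zpowers y) _)
    have hcommL : ∀ x ∈ L, ∀ x' ∈ L, x * x' * x⁻¹ * x'⁻¹ ∈ zpowers y := by
      intro x hx x' hx'
      obtain ⟨⟨d, i⟩, hd⟩ := hbij.2 ⟨x, hx⟩
      obtain ⟨⟨d', j⟩, hd'⟩ := hbij.2 ⟨x', hx'⟩
      have ex : x = d * y ^ (i : ℕ) := (congrArg Subtype.val hd).symm
      have ex' : x' = d' * y ^ (j : ℕ) := (congrArg Subtype.val hd').symm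
      have cI : ∀ w ∈ H, Commute (y ^ (i : ℕ)) w := fun w hw => (hycomm w hw i).symm
      have cJ : ∀ w ∈ H, Commute (y ^ (j : ℕ)) w := fun w hw => (hycomm w hw j).symm
      have hd0 := hMH d.2.1
      have hd0' := hMH d'.2.1
      have e : x * x' * x⁻¹ * x'⁻¹ = (d : G) * d' * (d : G)⁻¹ * (d' : G)⁻¹ := by
        rw [ex, ex', mul_inv_rev, mul_inv_rev]
        calc (d : G) * y ^ (i : ℕ) * (d' * y ^ (j : ℕ)) * ((y ^ (i : ℕ))⁻¹ * (d : G)⁻¹) *
              ((y ^ (j : ℕ))⁻¹ * (d' : G)⁻¹)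
            = d * (y ^ (i : ℕ) * (d' * y ^ (j : ℕ))) * (y ^ (i : ℕ))⁻¹ * (d : G)⁻¹ * (y ^ (j : ℕ))⁻¹ *
                (d' : G)⁻¹ := by group
          _ = d * d' * (y ^ (j : ℕ) * (d : G)⁻¹) * (y ^ (j : ℕ))⁻¹ * (d' : G)⁻¹ := by
              rw [(cI _ (mul_mem hd0' (pow_mem (hMH hyM) _))).eq]; group
          _ = _ := by rw [(cJ _ (inv_mem hd0)).eq]; group
      rw [e]
      exact hcomm d d'
    have hnle : ¬ L ≤ M.grpA := fun h => hnA (Subgroup.eq_of_le_of_card_ge h (by rw [h81, M.card_grpA]))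
    obtain ⟨τ, hτ, hτA⟩ := SetLike.not_le_iff_exists.1 hnle
    have hb := M.fix_bound hτ.1 (hLodd.of_dvd_nat (Subgroup.orderOf_dvd_natCard L hτ)) hτA (L ⊓ M.grpA) inf_le_right
      (fun a ha => hcommL τ hτ a ha.1)
    omega
  · have hAL : M.grpA ≤ L := by
      have hd := Subgroup.card_dvd_of_le (show L ⊓ M.grpA ≤ M.grpA from inf_le_right)
      have hle := Nat.le_of_dvd (by rw [M.card_grpA]; norm_num) hd
      rw [M.card_grpA] at hle
      have e : L ⊓ M.grpA = M.grpA := Subgroup.eq_of_le_of_card_ge inf_le_right (by rw [M.card_grpA]; omega)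
      exact inf_eq_right.1 e
    let B := M.grpA.map (MulAut.conj t).toMonoidHom
    have hB : B ≤ Mb := by
      rintro _ ⟨a, ha, rfl⟩
      exact (hAL ha).2
    have hBA := M.abelian81 B hB (by rw [Subgroup.card_map_of_injective (MulAut.conj t).injective, M.card_grpA])
      (by
        rintro _ ⟨a, ha, rfl⟩ _ ⟨a', ha', rfl⟩
        rw [← map_mul, ← map_mul, M.grpA_comm ha ha'])
    exact htM ⟨htH, M.mem_normA fun a ha => hBA ▸ Subgroup.mem_map_of_mem _ ha⟩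

theorem grpH_eq (b : Bool) : M.grpH b = M.grpM b := le_antisymm (M.grpH_le b) inf_le_left

theorem card_grpH_dvd (b : Bool) : Nat.card (M.grpH b) ∣ 972 := by
  rw [M.grpH_eq]
  rcases (M.grpM_facts b).1 with h | h <;> rw [h]
  norm_num

/-- An inverted element of odd order of the centralizer lies in the odd part. -/
theorem inverted_mem {b : Bool} {x : G} (hx : x ∈ M.grpH b) (ho : Odd (orderOf x)) (hz : z * x * z = x⁻¹) :
    x ∈ M.grpA :=
  (M.grpM_facts b).2.2 x (M.grpH_le b hx) ho hz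

end Model

end

end CfsgLib.Spor.UFourType
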