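import Cfsg.Agent.Lib.Spor.UFourType.Local

/-!
# The structure of the part normalizing the odd part
-/

set_option autoImplicit false
set_option linter.unusedSectionVars false
set_option synthInstance.maxSize 4096

namespace CfsgLib.Spor.UFourType

open Subgroup

noncomputable section

namespace Model

variable {G : Type*} [Group G] [Finite G] {z : G} {Q : Subgroup G} {ψ : ℕ → G} (M : Model z Q ψ)
include M

theorem card_cent_u {b : Bool} {u : ℕ} (hu : u ∈ uList b) :
    Nat.card (M.grpH b ⊓ centralizer ({ψ u} : Set G) : Subgroup G) = 36 := by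
  obtain ⟨-, g, -, hgu, -, -, d, hd, hgy⟩ := M.u_data hu
  have ld : d < 1152 := by fin_cases hd <;> norm_num
  have hcount : Nat.card {g : G // g ∈ centralizer ({z} : Set G) ∧ g * ψ d = ψ d * g} = 36 := by
    rw [← four_count d hd, M.card_pred]
    intro c hc
    rw [beq_iff_eq, M.comm_iff hc ld]
  rw [← hcount]
  refine Nat.card_congr ((MulAut.conj g).toEquiv.subtypeEquiv fun x => ?_)
  show x ∈ M.grpH b ∧ x ∈ centralizer ({ψ u} : Set G) ↔ g * x * g⁻¹ ∈ centralizer ({z} : Set G) ∧ _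
  rw [Model.grpH, mem_centralizer_singleton_iff, mem_centralizer_singleton_iff, mem_centralizer_singleton_iff,
    ← hgu, ← hgy]
  have key : ∀ w, (g * x * g⁻¹ * (g * w * g⁻¹) = g * w * g⁻¹ * (g * x * g⁻¹)) ↔ x * w = w * x := fun w => by
    rw [show g * x * g⁻¹ * (g * w * g⁻¹) = g * (x * w) * g⁻¹ by group,
      show g * w * g⁻¹ * (g * x * g⁻¹) = g * (w * x) * g⁻¹ by group]
    exact ⟨fun h => mul_left_cancel (mul_right_cancel h), fun h => by rw [h]⟩
  rw [show (MulAut.conj g).toEquiv x = g * x * g⁻¹ from rfl, key, key]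
  exact and_comm

/-- The centralizer of an involution of a side. -/
theorem cent_u {b : Bool} {u : ℕ} (hu : u ∈ uList b) {h : G} (hh : h ∈ M.grpH b)
    (hc : h * ψ u = ψ u * h) : ∃ a ∈ M.fixA u, ∃ v ∈ M.grpV b, h = a * v := by
  set X := M.grpH b ⊓ centralizer ({ψ u} : Set G) with hX
  have huV := (M.u_memV hu).1
  let f : M.fixA u × M.grpV b → X := fun x => ⟨x.1 * x.2,
    mul_mem ⟨((M.grpA_leM b) x.1.2.1).1, x.1.2.2⟩
      ⟨((M.grpV_leM b) x.2.2).1, mem_centralizer_singleton_iff.2 ((M.v_facts x.2.2).2.2 _ huV)⟩⟩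
  have hf : Function.Injective f := fun x y e => by
    obtain ⟨h1, h2⟩ := M.AV_unique x.1.2.1 y.1.2.1 x.2.2 y.2.2 (congrArg Subtype.val e)
    exact Prod.ext (Subtype.ext h1) (Subtype.ext h2)
  obtain ⟨⟨a, v⟩, e⟩ := (hf.bijective_of_nat_card_le (by
    rw [Nat.card_prod, (M.u_data hu).1, M.card_grpV, M.card_cent_u hu])).2 ⟨h, hh, mem_centralizer_singleton_iff.2 hc⟩
  exact ⟨a, a.2, v, v.2, (congrArg Subtype.val e).symm⟩

theorem cent_u_AV {b : Bool} {u : ℕ} (hu : u ∈ uList b) {h : G} (hh : h ∈ M.grpH b)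
    (hc : h * ψ u = ψ u * h) : h ∈ M.grpA ⊔ M.grpV b := by
  obtain ⟨a, ha, v, hv, e⟩ := M.cent_u hu hh hc
  exact M.mem_AV.2 ⟨a, ha.1, v, hv, e⟩

theorem AV_leM (b : Bool) : M.grpA ⊔ M.grpV b ≤ M.grpM b := sup_le (M.grpA_leM b) (M.grpV_leM b)

/-- An element of odd order of the product lies in the odd part. -/
theorem AV_odd {b : Bool} {g : G} (hg : g ∈ M.grpA ⊔ M.grpV b) (ho : Odd (orderOf g)) : g ∈ M.grpA := by
  obtain ⟨a, ha, v, hv, rfl⟩ := M.mem_AV.1 hg
  obtain ⟨h2, hvM, -⟩ := M.v_facts hv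
  obtain ⟨k, hk⟩ := ho
  have hsq : a * v * (a * v) ∈ M.grpA := by
    rw [show a * v * (a * v) = a * (v * a * v⁻¹) * (v * v) by group, h2, mul_one]
    exact mul_mem ha (M.normA hvM.2 ha)
  have h := pow_orderOf_eq_one (a * v)
  rw [hk, pow_succ, pow_mul, pow_two] at h
  rw [eq_inv_of_mul_eq_one_right h]
  exact inv_mem (pow_mem hsq k)

/-- An involution of the product is conjugate to one of the three. -/
theorem AV_invol {b : Bool} {t : G} (ht : t ∈ M.grpA ⊔ M.grpV b) (h2 : t * t = 1) (h1 : t ≠ 1) :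
    ∃ c ∈ M.grpA, ∃ u ∈ uList b, t = c * ψ u * c⁻¹ := by
  obtain ⟨a, ha, v, hv, rfl⟩ := M.mem_AV.1 ht
  have hv1 : v ≠ 1 := fun e => h1 (by
    subst e
    rw [mul_one] at h2 ⊢
    have h3 := M.grpA_cube ha
    rwa [pow_succ, pow_two, h2, one_mul] at h3)
  obtain ⟨c, hc, e⟩ := M.inv_conj ha hv h2
  obtain ⟨u, hu, hue⟩ := M.v_mem_u hv hv1
  exact ⟨c, hc, u, hu, by rw [hue]; exact e⟩

/-- An element carrying the fixed points of one involution to those of another normalizes the odd part. -/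
theorem carry {b : Bool} {u u' : ℕ} (hu : u ∈ uList b) (hu' : u' ∈ uList b) {h : G}
    (hh : ∀ a ∈ M.fixA u, h * a * h⁻¹ ∈ M.fixA u') : h ∈ normalizer (M.grpA : Set G) := by
  obtain ⟨-, g, hgN, -, -, hback, -⟩ := M.u_data hu
  obtain ⟨-, g', hg'N, -, hg', -, -⟩ := M.u_data hu'
  have hk : ∀ p ∈ M.grpP, g' * h * g⁻¹ * p * (g' * h * g⁻¹)⁻¹ ∈ M.grpP := fun p hp => by
    rw [show g' * h * g⁻¹ * p * (g' * h * g⁻¹)⁻¹ = g' * (h * (g⁻¹ * p * g) * h⁻¹) * g'⁻¹ by group]
    exact hg' _ (hh _ (hback p hp))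
  let f : M.grpP → M.grpP := fun p => ⟨_, hk p p.2⟩
  have hf : Function.Surjective f := Finite.injective_iff_surjective.1 fun p q e =>
    Subtype.ext (mul_left_cancel (mul_right_cancel (congrArg Subtype.val e)))
  have hN : g' * h * g⁻¹ ∈ normalizer (M.grpA : Set G) := M.mem_normA fun a ha =>
    M.grpA_conj (fun p hp => by
      obtain ⟨q, hq⟩ := hf ⟨p, hp⟩
      rw [show p = g' * h * g⁻¹ * q * (g' * h * g⁻¹)⁻¹ from (congrArg Subtype.val hq).symm]
      rw [show (g' * h * g⁻¹)⁻¹ * (g' * h * g⁻¹ * (q : G) * (g' * h * g⁻¹)⁻¹) * (g' * h * g⁻¹) = q by group]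
      exact q.2) ha
  rw [show h = g'⁻¹ * (g' * h * g⁻¹) * g by group]
  exact mul_mem (mul_mem (inv_mem hg'N) hN) hgN

/-- The stabilizer of the fixed points of an involution. -/
theorem stab_line {b : Bool} {u : ℕ} (hu : u ∈ uList b) {h : G} (hh : h ∈ M.grpH b)
    (hn : ∀ a ∈ M.fixA u, h * a * h⁻¹ ∈ M.fixA u) : h ∈ M.grpA ⊔ M.grpV b := by
  obtain ⟨-, g, hgN, hgu, hgP, hback, -⟩ := M.u_data hu
  obtain ⟨huV, hu1, -, hu2⟩ := M.u_memV hu
  let f : M.fixA u → M.fixA u := fun a => ⟨_, hn a a.2⟩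
  have hf : Function.Surjective f := Finite.injective_iff_surjective.1 fun p q e =>
    Subtype.ext (mul_left_cancel (mul_right_cancel (congrArg Subtype.val e)))
  -- the conjugate of the involution centralizes the Sylow subgroup
  set t := g * (h * ψ u * h⁻¹) * g⁻¹ with ht
  have htP : t ∈ centralizer (M.grpP : Set G) := by
    refine mem_centralizer_iff.2 fun p hp => ?_
    obtain ⟨a, ha⟩ := hf ⟨_, hback p hp⟩
    have ha' : g⁻¹ * p * g = h * a * h⁻¹ := (congrArg Subtype.val ha).symm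
    have hc : (a : G) * ψ u = ψ u * a := mem_centralizer_singleton_iff.1 a.2.2
    have hp' : p = g * h * a * (g * h)⁻¹ := by
      rw [show g * h * (a : G) * (g * h)⁻¹ = g * (h * a * h⁻¹) * g⁻¹ by group, ← ha']; group
    rw [hp', ht]
    calc g * h * a * (g * h)⁻¹ * (g * (h * ψ u * h⁻¹) * g⁻¹) = g * h * (a * ψ u) * (g * h)⁻¹ := by group
      _ = g * h * (ψ u * a) * (g * h)⁻¹ := by rw [hc]
      _ = _ := by group
  have ht2 : t * t = 1 := by
    rw [ht, show g * (h * ψ u * h⁻¹) * g⁻¹ * (g * (h * ψ u * h⁻¹) * g⁻¹) = g * h * (ψ u * ψ u) * (g * h)⁻¹ by group,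
      hu2]
    group
  have ht1 : t ≠ 1 := fun e => hu1 (conj_eq_one_iff.1 (conj_eq_one_iff.1 e))
  rcases M.complement.2 t htP with htA | htA
  · have h3 := M.grpA_cube htA
    rw [pow_succ, pow_two, ht2, one_mul] at h3
    exact absurd h3 ht1
  obtain ⟨c, hc, hce⟩ := M.inv_conj htA (M.z_memV b) (by
    rw [mul_assoc t z z, M.zz, mul_one]; exact ht2)
  rw [mul_assoc t z z, M.zz, mul_one] at hce
  set c' := g⁻¹ * c * g with hc'
  have hc'A : c' ∈ M.grpA := M.normA' hgN hc
  have hcu : c'⁻¹ * h * ψ u = ψ u * (c'⁻¹ * h) := by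
    have e : h * ψ u * h⁻¹ = c' * ψ u * c'⁻¹ := by
      rw [show h * ψ u * h⁻¹ = g⁻¹ * t * g by rw [ht]; group, hce, ← hgu, hc']
      group
    calc c'⁻¹ * h * ψ u = c'⁻¹ * (h * ψ u * h⁻¹) * h := by group
      _ = _ := by rw [e]; group
  rw [show h = c' * (c'⁻¹ * h) by group]
  exact mul_mem (mem_sup_left hc'A) (M.cent_u_AV hu (mul_mem (inv_mem (M.grpA_leM b hc'A).1) hh) hcu)

theorem card_AV (b : Bool) : Nat.card (M.grpA ⊔ M.grpV b : Subgroup G) = 324 := by
  let f : M.grpA × M.grpV b → (M.grpA ⊔ M.grpV b : Subgroup G) := fun x =>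
    ⟨x.1 * x.2, mul_mem (mem_sup_left x.1.2) (mem_sup_right x.2.2)⟩
  have hf : Function.Bijective f := by
    refine ⟨fun x y e => ?_, fun g => ?_⟩
    · obtain ⟨h1, h2⟩ := M.AV_unique x.1.2 y.1.2 x.2.2 y.2.2 (congrArg Subtype.val e)
      exact Prod.ext (Subtype.ext h1) (Subtype.ext h2)
    · obtain ⟨a, ha, v, hv, e⟩ := M.mem_AV.1 g.2
      exact ⟨(⟨a, ha⟩, ⟨v, hv⟩), Subtype.ext e.symm⟩
  rw [← Nat.card_eq_of_bijective f hf, Nat.card_prod, M.card_grpA, M.card_grpV]

/-- The index of the product is odd and small. -/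
theorem card_grpM (b : Bool) : ∃ k, Odd k ∧ k ≤ 13 ∧ Nat.card (M.grpM b) = 324 * k := by
  classical
  set Mb := M.grpM b with hMb
  set AV := M.grpA ⊔ M.grpV b with hAV
  set N := AV.subgroupOf Mb with hN
  have hNcard : Nat.card N = 324 :=
    (Nat.card_congr (Subgroup.subgroupOfEquivOfLe (M.AV_leM b)).toEquiv).trans (M.card_AV b)
  have hcard : Nat.card Mb = 324 * Nat.card (Mb ⧸ N) := by
    rw [Subgroup.card_eq_card_quotient_mul_card_subgroup N, hNcard, mul_comm]
  refine ⟨Nat.card (Mb ⧸ N), ?_, ?_, hcard⟩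
  · -- no eight divides the order
    rw [← Nat.not_even_iff_odd, even_iff_two_dvd]
    intro h2
    haveI : Fact (Nat.Prime 2) := ⟨Nat.prime_two⟩
    let V' := (M.grpV b).subgroupOf Mb
    have hV' : Nat.card V' = 2 ^ 2 :=
      (Nat.card_congr (Subgroup.subgroupOfEquivOfLe (M.grpV_leM b)).toEquiv).trans (M.card_grpV b)
    obtain ⟨K, hK, hVK⟩ := Sylow.exists_subgroup_card_pow_succ (p := 2) (H := V') (by
      rw [hcard]
      obtain ⟨j, hj⟩ := h2
      rw [hj]
      exact ⟨81 * j, by ring⟩) hV'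
    have hKp : IsPGroup 2 K := IsPGroup.of_card (n := 2 + 1) hK
    haveI : Nontrivial K := Finite.one_lt_card_iff_nontrivial.1 (by rw [hK]; norm_num)
    haveI := hKp.center_nontrivial
    obtain ⟨c, hc⟩ := exists_prime_orderOf_dvd_card' (G := center K) 2 (by
      obtain ⟨n, hn⟩ := (hKp.to_subgroup (center K)).exists_card_eq
      rcases n with _ | n
      · exact absurd hn (by have := Finite.one_lt_card (α := center K); omega)
      · exact hn ▸ dvd_pow_self 2 (Nat.succ_ne_zero n))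
    set cc : G := c.1.1.1 with hccd
    have hco : orderOf cc = 2 := by
      rw [hccd, Subgroup.orderOf_coe, Subgroup.orderOf_coe, Subgroup.orderOf_coe]; exact hc
    have hc2 : cc * cc = 1 := by rw [← pow_two, ← hco, pow_orderOf_eq_one]
    have hc1 : cc ≠ 1 := fun e => by rw [e, orderOf_one] at hco; norm_num at hco
    have hcomm : ∀ k : K, (k.1.1 : G) * cc = cc * k.1.1 := fun k =>
      congrArg (fun w : K => (w.1.1 : G)) (mem_center_iff.1 c.2 k)
    have hzu : zC ∈ uList b := List.mem_cons_self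
    have hcz : cc * ψ zC = ψ zC * cc := by
      rw [M.at_z]
      exact (hcomm ⟨⟨z, M.grpV_leM b (M.z_memV b)⟩, hVK (show (⟨z, _⟩ : Mb) ∈ V' from M.z_memV b)⟩).symm
    obtain ⟨e, he, u, hu, hce⟩ := M.AV_invol (M.cent_u_AV hzu c.1.1.2.1 hcz) hc2 hc1
    have hf : ∀ k : K, e⁻¹ * (k.1.1 : G) * e ∈ M.grpH b ⊓ centralizer ({ψ u} : Set G) := fun k =>
      Subgroup.mem_inf.2 ⟨mul_mem (mul_mem (inv_mem (M.grpA_leM b he).1) k.1.2.1) (M.grpA_leM b he).1,
        mem_centralizer_singleton_iff.2 (by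
          have h := hcomm k
          rw [show cc = e * ψ u * e⁻¹ from hce] at h
          calc e⁻¹ * k.1.1 * e * ψ u = e⁻¹ * (k.1.1 * (e * ψ u * e⁻¹)) * e := by group
            _ = e⁻¹ * (e * ψ u * e⁻¹ * k.1.1) * e := by rw [h]
            _ = _ := by group)⟩
    let S : Subgroup G := (K.map Mb.subtype).map (MulAut.conj e⁻¹).toMonoidHom
    have hS : S ≤ M.grpH b ⊓ centralizer ({ψ u} : Set G) := by
      rintro _ ⟨_, ⟨k, hk, rfl⟩, rfl⟩
      have := hf ⟨k, hk⟩
      show e⁻¹ * (k : G) * e⁻¹⁻¹ ∈ _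
      rwa [inv_inv]
    have hd := Subgroup.card_dvd_of_le hS
    rw [M.card_cent_u hu, Subgroup.card_map_of_injective (MulAut.conj e⁻¹).injective,
      Subgroup.card_map_of_injective Subtype.val_injective, hK] at hd
    norm_num at hd
  · -- the conjugates of the Sylow subgroup share only the powers of the element
    obtain ⟨-, -, -, -, hyl, h6⟩ := vList_card b
    set yy := ψ (yC b) with hyy
    let L6 := listP.filter fun c => c != 0 && c != yC b && c != mC (yC b) (yC b)
    have hy3 : yy ^ 3 = 1 := M.grpP_cube (M.yC_memA b).1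
    have hy1 : yy ≠ 1 := M.y_ne b
    have hyC : ∀ q : Mb, (q : G) * yy = yy * q := fun q => mem_centralizer_singleton_iff.1 q.2.1
    have hL6 : ∀ c ∈ L6, c ∈ listP ∧ ∀ i : ℕ, ψ c ≠ yy ^ i := fun c hc => by
      obtain ⟨hcP, hc'⟩ := List.mem_filter.1 hc
      simp only [Bool.and_eq_true, bne_iff_ne] at hc'
      refine ⟨hcP, fun i e => ?_⟩
      have lc := lists_lt.2.2 c hcP
      have ly := lists_lt.2.2 _ hyl
      rw [← Nat.div_add_mod i 3, pow_add, pow_mul, hy3, one_pow, one_mul] at e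
      have := Nat.mod_lt i (show 3 > 0 by norm_num)
      interval_cases h : i % 3
      · exact hc'.1.1 ((M.eq_one_iff lc).1 (by rw [e, pow_zero]))
      · exact hc'.1.2 ((M.eq_iff lc ly).1 (by rw [e, pow_one]))
      · exact hc'.2 ((M.eq_iff lc (mC_lt ly ly)).1 (by rw [e, pow_two, hyy, M.mul _ ly _ ly]))
    let f : ((Mb ⧸ N) × {c // c ∈ L6.toFinset}) ⊕ Fin 3 → M.grpA := fun o => match o with
      | .inl (q, c) => ⟨(q.out : G) * ψ c * (q.out : G)⁻¹,
          M.normA q.out.2.2 (M.grpP_le_grpA ⟨c, (hL6 c (List.mem_toFinset.1 c.2)).1, rfl⟩)⟩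
      | .inr i => ⟨yy ^ (i : ℕ), pow_mem (M.yC_memA b).2 _⟩
    have hfy : ∀ (q : Mb ⧸ N) (c : {c // c ∈ L6.toFinset}) (i : ℕ),
        (q.out : G) * ψ c * (q.out : G)⁻¹ ≠ yy ^ i := fun q c i e => by
      refine (hL6 c (List.mem_toFinset.1 c.2)).2 i ?_
      have hc : Commute (q.out : G) (yy ^ i) := (show Commute (q.out : G) yy from hyC _).pow_right i
      calc ψ c = (q.out : G)⁻¹ * ((q.out : G) * ψ c * (q.out : G)⁻¹) * q.out := by group
        _ = (q.out : G)⁻¹ * ((yy ^ i) * q.out) := by rw [e]; group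
        _ = yy ^ i := by rw [← hc.eq]; group
    have hinj : Function.Injective f := by
      rintro (⟨q, c⟩ | i) (⟨q', c'⟩ | j) e <;> replace e := congrArg Subtype.val e <;> simp only [f] at e
      · set n := (q'.out : G)⁻¹ * q.out with hn
        have hnc : n * ψ c * n⁻¹ = ψ c' := by
          rw [hn, show (q'.out : G)⁻¹ * q.out * ψ c * ((q'.out : G)⁻¹ * q.out)⁻¹ =
            (q'.out : G)⁻¹ * ((q.out : G) * ψ c * (q.out : G)⁻¹) * q'.out by group, e]
          group
        have hnH : n ∈ M.grpH b := mul_mem (inv_mem q'.out.2.1) q.out.2.1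
        -- it normalizes the Sylow subgroup
        let T : Subgroup G := M.grpP ⊓ M.grpP.comap (MulAut.conj n).toMonoidHom
        have hyT : yy ∈ T := by
          refine ⟨(M.yC_memA b).1, ?_⟩
          show n * yy * n⁻¹ ∈ M.grpP
          rw [mem_centralizer_singleton_iff.1 hnH, mul_inv_cancel_right]
          exact (M.yC_memA b).1
        have hcP : ψ (c : ℕ) ∈ T := by
          refine ⟨⟨c, (hL6 c (List.mem_toFinset.1 c.2)).1, rfl⟩, ?_⟩
          show n * ψ c * n⁻¹ ∈ M.grpP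
          rw [hnc]
          exact ⟨c', (hL6 c' (List.mem_toFinset.1 c'.2)).1, rfl⟩
        have hTP : T = M.grpP := by
          have hd := Subgroup.card_dvd_of_le (show T ≤ M.grpP from inf_le_left)
          rw [M.card_grpP] at hd
          have h4 : 4 ≤ Nat.card T := by
            let g4 : Fin 4 → T := ![1, ⟨yy, hyT⟩, ⟨yy, hyT⟩ ^ 2, ⟨ψ c, hcP⟩]
            have hne := (hL6 c (List.mem_toFinset.1 c.2)).2
            have hinj4 : Function.Injective g4 := by
              intro a d e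
              have e' := congrArg Subtype.val e
              fin_cases a <;> fin_cases d <;> simp [g4] at e' ⊢
              all_goals first
                | exact hy1 e' | exact hy1 e'.symm | exact hne 0 (by simpa using e') | exact hne 0 (by simpa using e'.symm)
                | exact hne 1 (by simpa using e') | exact hne 1 (by simpa using e'.symm)
                | exact hne 2 e' | exact hne 2 e'.symm
                | exact hy1 (by have h := hy3; rwa [pow_succ, e', one_mul] at h)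
                | exact hy1 (by have h := hy3; rwa [pow_succ, ← e', one_mul] at h)
                | exact hy1 (by rw [pow_two] at e'; exact mul_eq_left.1 e')
                | exact hy1 (by rw [pow_two] at e'; exact mul_eq_left.1 e'.symm)
            simpa using Nat.card_le_card_of_injective g4 hinj4
          have h9 : Nat.card T = 9 := by
            have := Nat.le_of_dvd (by norm_num) hd
            interval_cases h : Nat.card T <;> omega
          exact Subgroup.eq_of_le_of_card_ge inf_le_left (by rw [h9, M.card_grpP])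
        have hstab : n ∈ M.grpA ⊔ M.grpV b := M.stab_line (u := zC) List.mem_cons_self hnH fun a ha => by
          rw [M.fixA_z] at ha ⊢
          rw [← hTP] at ha
          exact ha.2
        have hq : q' = q := by
          rw [← q'.out_eq', ← q.out_eq', QuotientGroup.eq]
          exact hstab
        subst hq
        refine congrArg Sum.inl (Prod.ext rfl (Subtype.ext (M.inj _ (lists_lt.2.2 _ (hL6 c
          (List.mem_toFinset.1 c.2)).1) _ (lists_lt.2.2 _ (hL6 c' (List.mem_toFinset.1 c'.2)).1) ?_)))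
        exact mul_left_cancel (mul_right_cancel e)
      · exact absurd e (hfy q c _)
      · exact absurd e.symm (hfy q' c' _)
      · exact congrArg Sum.inr (Fin.ext (pow_injOn_Iio_orderOf (by simp [orderOf_eq_prime hy3 hy1])
          (by simp [orderOf_eq_prime hy3 hy1]) e))
    have hle := Nat.card_le_card_of_injective f hinj
    rw [Nat.card_sum, Nat.card_prod, Nat.card_eq_finsetCard,
      List.toFinset_card_of_nodup (List.Nodup.filter _ (by decide +kernel)), h6, Nat.card_fin, M.card_grpA] at hle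
    omega

/-- The consequences for the part normalizing the odd part. -/
theorem grpM_facts (b : Bool) :
    (Nat.card (M.grpM b) = 324 ∨ Nat.card (M.grpM b) = 972) ∧
      (∀ t ∈ M.grpM b, t * t = 1 → t ∈ M.grpA ⊔ M.grpV b) ∧
      (∀ x ∈ M.grpM b, Odd (orderOf x) → z * x * z = x⁻¹ → x ∈ M.grpA) := by
  classical
  set Mb := M.grpM b with hMb
  haveI hAn : (M.grpA.subgroupOf Mb).Normal := ⟨fun a ha g => M.normA g.2.2 ha⟩
  set A' := M.grpA.subgroupOf Mb with hA'
  obtain ⟨k, hk, h13, hcard⟩ := M.card_grpM b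
  let X := Mb ⧸ A'
  let π : Mb →* X := QuotientGroup.mk' A'
  have hA81 : Nat.card A' = 81 :=
    (Nat.card_congr (Subgroup.subgroupOfEquivOfLe (M.grpA_leM b)).toEquiv).trans M.card_grpA
  have hX : Nat.card X = 4 * k := by
    have h := Subgroup.card_eq_card_quotient_mul_card_subgroup A'
    rw [hcard, hA81] at h
    show Nat.card (Mb ⧸ A') = 4 * k
    omega
  let V' := (M.grpV b).subgroupOf Mb
  let zz : Mb := ⟨z, M.grpV_leM b (M.z_memV b)⟩
  have hwv : ψ (wC b) ∈ M.grpV b := ⟨_, (vList_card b).2.2.2.1, rfl⟩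
  let ww : Mb := ⟨ψ (wC b), M.grpV_leM b hwv⟩
  have hker : ∀ g : Mb, π g = 1 ↔ (g : G) ∈ M.grpA := fun g =>
    (QuotientGroup.eq_one_iff g).trans Subgroup.mem_subgroupOf
  have hpre : ∀ g : Mb, π g ∈ V'.map π → (g : G) ∈ M.grpA ⊔ M.grpV b := by
    rintro g ⟨v, hv, e⟩
    have h : π (g * v⁻¹) = 1 := by rw [map_mul, map_inv, e, mul_inv_cancel]
    have hgv : (g : G) * (v : G)⁻¹ ∈ M.grpA := (hker _).1 h
    rw [show (g : G) = g * (v : G)⁻¹ * v by group]
    exact mul_mem (mem_sup_left hgv) (mem_sup_right hv)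
  have himg : ∀ g : Mb, (g : G) ∈ M.grpA ⊔ M.grpV b → π g ∈ V'.map π := by
    intro g hg
    obtain ⟨a, ha, v, hv, e⟩ := M.mem_AV.1 hg
    refine ⟨⟨v, M.grpV_leM b hv⟩, hv, ?_⟩
    have hga : g = ⟨a, M.grpA_leM b ha⟩ * ⟨v, M.grpV_leM b hv⟩ := Subtype.ext e
    rw [hga, map_mul, (hker ⟨a, M.grpA_leM b ha⟩).2 ha, one_mul]
  have hVinj : ∀ v v' : Mb, (v : G) ∈ M.grpV b → (v' : G) ∈ M.grpV b → π v = π v' → v = v' := by
    intro v v' hv hv' e
    have h : π (v * v'⁻¹) = 1 := by rw [map_mul, map_inv, e, mul_inv_cancel]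
    exact mul_inv_eq_one.1 (Subtype.ext (M.A_inter_V (mul_mem hv (inv_mem hv')) ((hker _).1 h)))
  have S : SelfKlein (V'.map π) (π zz) (π ww) := by
    have hz1 : π zz ≠ 1 := fun e => M.z_ne (M.A_inter_V (M.z_memV b) ((hker zz).1 e))
    have hw1 : π ww ≠ 1 := fun e => by
      have := M.A_inter_V hwv ((hker ww).1 e)
      exact (M.invol (side_facts b _ List.mem_cons_self).1).2 this
    refine ⟨?_, ⟨zz, M.z_memV b, rfl⟩, ⟨ww, hwv, rfl⟩, hz1, hw1, fun e => ?_, ?_, ?_⟩
    · have hbij : Function.Bijective (fun v : V' => (⟨π v, v, v.2, rfl⟩ : V'.map π)) := by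
        refine ⟨fun v v' e => Subtype.ext (hVinj v v' v.2 v'.2 (congrArg Subtype.val e)), ?_⟩
        rintro ⟨_, v, hv, rfl⟩
        exact ⟨⟨v, hv⟩, rfl⟩
      rw [← Nat.card_eq_of_bijective _ hbij]
      exact (Nat.card_congr (Subgroup.subgroupOfEquivOfLe (M.grpV_leM b)).toEquiv).trans (M.card_grpV b)
    · have h := congrArg Subtype.val (hVinj zz ww (M.z_memV b) hwv e)
      exact (side_facts b _ List.mem_cons_self).2.1 ((M.eq_z_iff (list_lt.1 _
        (side_facts b _ List.mem_cons_self).1)).1 h.symm)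
    · rintro _ ⟨v, hv, rfl⟩
      rw [← map_mul, show v * v = 1 from Subtype.ext (M.v_facts hv).1, map_one]
    · rintro _ ⟨v, hv, rfl⟩ hv1 x hxv
      obtain ⟨g, rfl⟩ := QuotientGroup.mk'_surjective A' x
      refine himg g ?_
      have hv1' : (v : G) ≠ 1 := fun e => hv1 (by rw [show v = 1 from Subtype.ext e, map_one])
      have hvG : (v : G) ∈ M.grpV b := hv
      obtain ⟨u, hu, hue⟩ := M.v_mem_u hvG hv1'
      have hcA : (g : G) * v * (g : G)⁻¹ * (v : G)⁻¹ ∈ M.grpA := (hker (g * v * g⁻¹ * v⁻¹)).1 (by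
        rw [map_mul, map_mul, map_mul, map_inv, map_inv, show π g * π v = π v * π g from hxv,
          mul_inv_cancel_right, mul_inv_cancel])
      obtain ⟨c, hc, e⟩ := M.inv_conj hcA hvG (by
        rw [show (g : G) * v * (g : G)⁻¹ * (v : G)⁻¹ * v = g * v * (g : G)⁻¹ by group,
          show (g : G) * v * (g : G)⁻¹ * (g * v * (g : G)⁻¹) = g * (v * v) * (g : G)⁻¹ by group, (M.v_facts hvG).1]
        group)
      rw [show (g : G) * v * (g : G)⁻¹ * (v : G)⁻¹ * v = g * v * (g : G)⁻¹ by group] at e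
      have hcg : c⁻¹ * g * ψ u = ψ u * (c⁻¹ * g) := by
        rw [hue]
        calc c⁻¹ * g * v = c⁻¹ * (g * v * (g : G)⁻¹) * g := by group
          _ = _ := by rw [e]; group
      rw [show (g : G) = c * (c⁻¹ * g) by group]
      exact mul_mem (mem_sup_left hc) (M.cent_u_AV hu (mul_mem (inv_mem (M.grpA_leM b hc).1) g.2.1) hcg)
  obtain ⟨hk13, -⟩ := S.small hk h13 hX
  obtain ⟨hinv, hodd, -⟩ := S.consequences hk h13 hX
  refine ⟨?_, fun t ht h2 => ?_, fun x hx ho hzx => ?_⟩
  · rcases hk13 with rfl | rfl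
    · exact Or.inl hcard
    · exact Or.inr hcard
  · refine hpre ⟨t, ht⟩ (hinv _ ?_)
    rw [← map_mul, show (⟨t, ht⟩ : Mb) * ⟨t, ht⟩ = 1 from Subtype.ext h2, map_one]
  · refine (hker ⟨x, hx⟩).1 (hodd _ ?_ ?_)
    · have hxo : Odd (orderOf (⟨x, hx⟩ : Mb)) := by rwa [← Subgroup.orderOf_coe]
      exact hxo.of_dvd_nat (orderOf_map_dvd π _)
    · rw [← map_mul, ← map_mul, show zz * ⟨x, hx⟩ * zz = (⟨x, hx⟩ : Mb)⁻¹ from Subtype.ext hzx, map_inv]

end Model

end

end CfsgLib.Spor.UFourType
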