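import Cfsg.Agent.Lib.Spor.UFourType.Frame

/-!
# The centralizer of the involution is the model
-/

set_option autoImplicit false
set_option linter.unusedSectionVars false
set_option synthInstance.maxSize 4096

namespace CfsgLib.Spor.UFourType

open Subgroup

noncomputable section

/-- The centralizer of the involution with its coordinates. -/
structure Model {G : Type*} [Group G] (z : G) (Q : Subgroup G) (ψ : ℕ → G) : Prop where
  ord : orderOf z = 2
  mem : ∀ c < 1152, ψ c ∈ centralizer ({z} : Set G)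
  mul : ∀ c < 1152, ∀ d < 1152, ψ c * ψ d = ψ (mC c d)
  inj : ∀ c < 1152, ∀ d < 1152, ψ c = ψ d → c = d
  surj : ∀ g ∈ centralizer ({z} : Set G), ∃ c < 1152, ψ c = g
  at_z : ψ zC = z
  memQ : ∀ c < 1152, (ψ c ∈ Q ↔ inQ c = true)
  card : Nat.card (centralizer ({z} : Set G)) = 1152
  leQ : Q ≤ centralizer ({z} : Set G)
  norm : ∀ k ∈ centralizer ({z} : Set G), ∀ q ∈ Q, k * q * k⁻¹ ∈ Q
  neighbour : ∀ g : G, g * z * g⁻¹ ∈ Q → g * z * g⁻¹ ≠ z → g⁻¹ * z * g ∈ Q
  inter : ∀ g : G, g * z * g⁻¹ ∈ Q → g * z * g⁻¹ ≠ z →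
    Nat.card (Q ⊓ Q.map (MulAut.conj g).toMonoidHom : Subgroup G) = 4
  exchange : ∃ φ : G, φ * z * φ⁻¹ = ψ uC ∧ φ * ψ uC * φ⁻¹ = z

theorem sqA_swap : ∀ p : Bool, sNeg (sqA p) = (if p then 1 else 13) := by decide

theorem sNeg_lt (a : ℕ) : sNeg a < 24 := Nat.mod_lt _ (by norm_num)

theorem ite_lt {c : Prop} [Decidable c] {a b : ℕ} (ha : a < 24) (hb : b < 24) : (if c then a else b) < 24 := by
  split_ifs <;> assumption

theorem ite_neg {c : Prop} [Decidable c] {a : ℕ} (ha : a < 24) : (if c then sNeg a else a) < 24 :=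
  ite_lt (sNeg_lt a) ha

theorem mulP_lt (p q : Bool) (c d : ℕ) (hc : c < 1152) (hd : d < 1152) : mulP p q c d < 1152 := by
  obtain ⟨hA, hB, -⟩ := code_lt c hc
  obtain ⟨ha, hb, -⟩ := code_lt d hd
  have ha' : cA d < 24 := by omega
  have hA' : cA c < 24 := by omega
  have la₁ : (if cF c then sGam (cA d) else cA d) < 24 := ite_lt (sGam_lt _ ha') ha'
  have lb₁ : (if cF c then sGam (cB d) else cB d) < 24 := ite_lt (sGam_lt _ hb) hb
  have la₃ := sMul_lt _ hA' _ (ite_lt (c := cE c = true) lb₁ la₁)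
  have lb₃ := sMul_lt _ hB _ (ite_lt (c := cE c = true) la₁ lb₁)
  have la₄ := ite_neg (c := (cF c && cE d && q) = true) la₃
  have la₅ := ite_lt (c := (cF c && cF d) = true)
    (ite_neg (c := p = true) (sMul_lt _ la₄ 1 (by norm_num))) la₄
  have lb₅ := ite_lt (c := (cF c && cF d) = true) (sMul_lt _ lb₃ 1 (by norm_num)) lb₃
  exact (code_fields _ la₅ _ lb₅ _ _).1

namespace Frame

variable {G : Type*} [Group G] {z : G} {Q H₁ H₂ : Subgroup G} {f₁ f₂ : Sl →* G} {x y : G} {p q : Bool}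
  (F : Frame z Q H₁ H₂ f₁ f₂ x y p q)
include F

theorem y_pk (f : Bool) {a b : ℕ} (ha : a < 24) (hb : b < 24) : y ^ f.toNat * pk f₁ f₂ a b =
    pk f₁ f₂ (if f then sGam a else a) (if f then sGam b else b) * y ^ f.toNat := by
  cases f
  · simp
  · simp only [Bool.toNat_true, pow_one, if_true, pk]
    rw [← F.y₁ a ha, ← F.y₂ b hb]
    group

theorem x₂ {a : ℕ} (ha : a < 24) : x * f₂ (sl a) * x⁻¹ = f₁ (sl a) := by
  rw [← F.x₁ a ha, inv_eq_of_mul_eq_one_right F.xx]
  simp [mul_assoc, F.xx, ← mul_assoc x x]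

theorem x_pk (e : Bool) {a b : ℕ} (ha : a < 24) (hb : b < 24) : x ^ e.toNat * pk f₁ f₂ a b =
    pk f₁ f₂ (if e then b else a) (if e then a else b) * x ^ e.toNat := by
  cases e
  · simp
  · simp only [Bool.toNat_true, pow_one, if_true, pk]
    rw [F.coord.comm (sl b) (sl a), ← F.x₁ a ha]
    nth_rw 1 [← F.x₂ hb]
    group

theorem x_x (e e' : Bool) : x ^ e.toNat * x ^ e'.toNat = x ^ (xor e e').toNat := by
  cases e <;> cases e' <;> simp [F.xx]

theorem x_z : x * z = z * x := mem_centralizer_singleton_iff.1 F.x_mem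

theorem y_z : y * z = z * y := mem_centralizer_singleton_iff.1 F.y_mem

theorem y_x (f e : Bool) : y ^ f.toNat * x ^ e.toNat =
    pk f₁ f₂ (if f && e && q then 12 else 0) 0 * x ^ e.toNat * y ^ f.toNat := by
  cases f <;> cases e <;> simp only [Bool.toNat_true, Bool.toNat_false, pow_one, pow_zero, mul_one, one_mul,
    Bool.false_and, Bool.true_and, if_false, Bool.false_eq_true, F.coord.pk_zero]
  have h := F.xyx
  have e : y * x = x⁻¹ * (x * y * x) := by group
  rw [e, h, inv_eq_of_mul_eq_one_right F.xx]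
  cases q
  · simp [F.coord.pk_zero]
  · simp only [if_true, F.coord.pk_z]
    rw [F.y_z, ← mul_assoc, F.x_z]

theorem psi_code {a b : ℕ} (ha : a < 24) (hb : b < 24) (e f : Bool) :
    psi f₁ f₂ x y (code a b e f) = pk f₁ f₂ a b * x ^ e.toNat * y ^ f.toNat := by
  obtain ⟨-, he, hf, hab⟩ := code_fields a ha b hb e f
  rw [psi, he, hf]
  rcases hab with ⟨h₁, h₂⟩ | ⟨h₁, h₂⟩
  · rw [h₁, h₂]
  · rw [h₁, h₂, F.coord.pk_neg ha hb]

theorem psi_mul {c d : ℕ} (hc : c < 1152) (hd : d < 1152) :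
    psi f₁ f₂ x y c * psi f₁ f₂ x y d = psi f₁ f₂ x y (mulP p q c d) := by
  obtain ⟨hA, hB, -⟩ := code_lt c hc
  obtain ⟨ha, hb, -⟩ := code_lt d hd
  set A := cA c
  set B := cB c
  set e := cE c
  set f := cF c
  set a := cA d
  set b := cB d
  set e' := cE d
  set f' := cF d
  have hA' : A < 24 := by omega
  have ha' : a < 24 := by omega
  set a₁ := if f then sGam a else a with ea₁
  set b₁ := if f then sGam b else b with eb₁
  have la₁ : a₁ < 24 := by rw [ea₁]; split_ifs <;> first | exact sGam_lt _ ha' | exact ha'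
  have lb₁ : b₁ < 24 := by rw [eb₁]; split_ifs <;> first | exact sGam_lt _ hb | exact hb
  set a₂ := if e then b₁ else a₁ with ea₂
  set b₂ := if e then a₁ else b₁ with eb₂
  have la₂ : a₂ < 24 := by rw [ea₂]; split_ifs <;> assumption
  have lb₂ : b₂ < 24 := by rw [eb₂]; split_ifs <;> assumption
  set a₃ := sMul A a₂ with ea₃
  set b₃ := sMul B b₂ with eb₃
  have la₃ : a₃ < 24 := sMul_lt _ hA' _ la₂
  have lb₃ : b₃ < 24 := sMul_lt _ hB _ lb₂
  set a₄ := if f && e' && q then sNeg a₃ else a₃ with ea₄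
  have la₄ : a₄ < 24 := by rw [ea₄]; split_ifs <;> first | exact sNeg_lt _ | assumption
  set t := if f && e' && q then 12 else 0 with et
  have lt : t < 24 := by rw [et]; split_ifs <;> norm_num
  have one : ∀ v < 24, sMul v 0 = v ∧ sMul v 12 = sNeg v ∧ sMul v 13 = sNeg (sMul v 1) := by decide +kernel
  have h4 : psi f₁ f₂ x y c * psi f₁ f₂ x y d =
      pk f₁ f₂ a₄ b₃ * x ^ (xor e e').toNat * (y ^ f.toNat * y ^ f'.toNat) := by
    calc psi f₁ f₂ x y c * psi f₁ f₂ x y d
        = pk f₁ f₂ A B * x ^ e.toNat * (y ^ f.toNat * pk f₁ f₂ a b) * x ^ e'.toNat * y ^ f'.toNat := by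
          show pk f₁ f₂ A B * x ^ e.toNat * y ^ f.toNat * (pk f₁ f₂ a b * x ^ e'.toNat * y ^ f'.toNat) = _
          group
      _ = pk f₁ f₂ A B * (x ^ e.toNat * pk f₁ f₂ a₁ b₁) * (y ^ f.toNat * x ^ e'.toNat) * y ^ f'.toNat := by
          rw [F.y_pk f ha' hb, ← ea₁, ← eb₁]; group
      _ = pk f₁ f₂ a₃ b₃ * (x ^ e.toNat * pk f₁ f₂ t 0) * x ^ e'.toNat * (y ^ f.toNat * y ^ f'.toNat) := by
          rw [F.x_pk e la₁ lb₁, ← ea₂, ← eb₂, F.y_x, ← et, ← mul_assoc (pk f₁ f₂ A B),
            F.coord.pk_mul hA' hB la₂ lb₂, ← ea₃, ← eb₃]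
          group
      _ = pk f₁ f₂ a₃ b₃ * pk f₁ f₂ t 0 * (x ^ e.toNat * x ^ e'.toNat) * (y ^ f.toNat * y ^ f'.toNat) := by
          have hx : x ^ e.toNat * pk f₁ f₂ t 0 = pk f₁ f₂ t 0 * x ^ e.toNat := by
            rw [et]
            split_ifs
            · rw [F.coord.pk_z]; exact ((show Commute x z from F.x_z).pow_left _).eq
            · rw [F.coord.pk_zero, one_mul, mul_one]
          rw [hx]; group
      _ = _ := by
          rw [F.x_x, F.coord.pk_mul la₃ lb₃ lt (by norm_num), (one _ lb₃).1]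
          congr 3
          rw [ea₄, et]
          split_ifs
          · exact (one _ la₃).2.1
          · exact (one _ la₃).1
  set a₅ := if f && f' then (if p then sNeg (sMul a₄ 1) else sMul a₄ 1) else a₄ with ea₅
  set b₅ := if f && f' then sMul b₃ 1 else b₃ with eb₅
  have la₅ : a₅ < 24 := by
    rw [ea₅]; split_ifs <;> first | exact sNeg_lt _ | exact sMul_lt _ la₄ _ (by norm_num) | assumption
  have lb₅ : b₅ < 24 := by
    rw [eb₅]; split_ifs <;> first | exact sMul_lt _ lb₃ _ (by norm_num) | assumption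
  rw [h4, show mulP p q c d = code a₅ b₅ (xor e e') (xor f f') from rfl, F.psi_code la₅ lb₅]
  cases hf : (f && f')
  · rw [ea₅, eb₅, hf]
    simp only [Bool.false_eq_true, if_false]
    congr 1
    revert hf
    cases f <;> cases f' <;> simp
  · obtain ⟨h₁, h₂⟩ := Bool.and_eq_true_iff.1 hf
    rw [ea₅, eb₅, hf, h₁, h₂]
    simp only [if_true, Bool.toNat_true, pow_one, Bool.xor_self, Bool.toNat_false, pow_zero, mul_one]
    rw [F.yy, mul_assoc, F.x_pk _ (sqA_lt p) (by norm_num), ← mul_assoc]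
    have hswap : pk f₁ f₂ 1 (sqA p) = pk f₁ f₂ (sqA p) 1 := by
      cases p
      · rfl
      · rw [← F.coord.pk_neg (by norm_num) (sqA_lt true)]; rfl
    have hsq : pk f₁ f₂ (if xor e e' then 1 else sqA p) (if xor e e' then sqA p else 1) = pk f₁ f₂ (sqA p) 1 := by
      cases xor e e' <;> simp [hswap]
    rw [hsq, F.coord.pk_mul la₄ lb₃ (sqA_lt p) (by norm_num)]
    congr 2
    cases p
    · rfl
    · exact (one _ la₄).2.2

theorem xy_side : x ∉ H₁ ⊔ H₂ ∧ x * y ∉ H₁ ⊔ H₂ :=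
  ⟨fun h => (F.x_side x h).1 rfl, fun h => (F.x_side _ h).2 rfl⟩

theorem psi_zero : psi f₁ f₂ x y 0 = 1 := by
  have : code 0 0 false false = 0 := by decide
  rw [← this, F.psi_code (by norm_num) (by norm_num), F.coord.pk_zero]
  simp

theorem psi_mem {c : ℕ} (hc : c < 1152) : psi f₁ f₂ x y c ∈ centralizer ({z} : Set G) :=
  mul_mem (mul_mem (F.coord.K_le (F.coord.pk_mem_K _ _)) (pow_mem F.x_mem _)) (pow_mem F.y_mem _)

theorem coset {c : ℕ} (hc : c < 1152) : psi f₁ f₂ x y c ∈ H₁ ⊔ H₂ ↔ cE c = false ∧ cF c = false := by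
  have hp := F.coord.pk_mem_K (cA c) (cB c)
  obtain ⟨hxK, hxyK⟩ := F.xy_side
  rw [psi]
  cases cE c <;> cases cF c <;> simp only [Bool.toNat_true, Bool.toNat_false, pow_one, pow_zero, mul_one,
    and_self, and_true, true_and, reduceCtorEq, iff_true, iff_false]
  · exact hp
  · exact fun h => F.y_notMem ((mul_mem_cancel_left hp).1 h)
  · exact fun h => hxK ((mul_mem_cancel_left hp).1 h)
  · exact fun h => hxyK ((mul_mem_cancel_left hp).1 (by rwa [← mul_assoc]))

theorem psi_inj {c d : ℕ} (hc : c < 1152) (hd : d < 1152) (h : psi f₁ f₂ x y c = psi f₁ f₂ x y d) : c = d := by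
  obtain ⟨hA, hB, ec⟩ := code_lt c hc
  obtain ⟨ha, hb, ed⟩ := code_lt d hd
  set K := H₁ ⊔ H₂ with hK
  have hp : pk f₁ f₂ (cA c) (cB c) ∈ K := F.coord.pk_mem_K _ _
  have hq : pk f₁ f₂ (cA d) (cB d) ∈ K := F.coord.pk_mem_K _ _
  have hef : cE c = cE d ∧ cF c = cF d := by
    have hw : x ^ (cE c).toNat * y ^ (cF c).toNat * (x ^ (cE d).toNat * y ^ (cF d).toNat)⁻¹ ∈ K := by
      have : (pk f₁ f₂ (cA c) (cB c))⁻¹ * pk f₁ f₂ (cA d) (cB d) ∈ K := mul_mem (inv_mem hp) hq
      convert this using 1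
      rw [mul_inv_eq_iff_eq_mul, mul_assoc, eq_inv_mul_iff_mul_eq, ← mul_assoc, ← mul_assoc]
      exact h
    obtain ⟨hxK, hxyK⟩ := F.xy_side
    have hyy : y * y ∈ K := by rw [F.yy]; exact F.coord.pk_mem_K _ _
    have hyK := F.y_notMem
    have hxi : x⁻¹ = x := inv_eq_of_mul_eq_one_right F.xx
    have hxy' : x * y⁻¹ ∉ K := fun h' => hxyK (by
      rw [show x * y = x * y⁻¹ * (y * y) by group]; exact mul_mem h' hyy)
    revert hw
    cases cE c <;> cases cF c <;> cases cE d <;> cases cF d <;>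
      simp only [Bool.toNat_true, Bool.toNat_false, pow_one, pow_zero, mul_one, one_mul, mul_inv_rev,
        inv_one, and_self, and_true, true_and, reduceCtorEq, imp_false, implies_true, and_false,
        mul_inv_cancel, mul_inv_cancel_left, mul_inv_cancel_right]
    all_goals intro h'
    · exact hyK (inv_mem_iff.1 h')
    · exact hxK (inv_mem_iff.1 h')
    · exact hxyK (inv_mem_iff.1 (by rwa [mul_inv_rev]))
    · exact hyK h'
    · exact hxy' (inv_mem_iff.1 (by rwa [mul_inv_rev, inv_inv]))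
    · exact hxK (inv_mem_iff.1 h')
    · exact hxK h'
    · exact hxy' h'
    · refine hyK (inv_mem_iff.1 ?_)
      have := F.coord.hyp.normal x F.x_mem _ h'
      rwa [show x * (x * (y⁻¹ * x⁻¹)) * x⁻¹ = x * x * y⁻¹ * (x * x)⁻¹ by group, F.xx, one_mul, inv_one,
        mul_one] at this
    · exact hxyK h'
    · exact hxK h'
    · have := F.coord.hyp.normal x F.x_mem _ h'
      rw [show x * (x * y * x⁻¹) * x⁻¹ = x * x * y * (x * x)⁻¹ by group, F.xx, one_mul, inv_one, mul_one] at this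
      exact hyK this
  rw [psi, psi, hef.1, hef.2] at h
  rcases F.coord.pk_eq (by omega) hB (by omega) hb (mul_right_cancel (mul_right_cancel h)) with
    ⟨e₁, e₂⟩ | ⟨e₁, -⟩
  · rw [← ec, ← ed, e₁, e₂, hef.1, hef.2]
  · exfalso
    rw [sNeg] at e₁
    omega

theorem psi_surj [Finite G] : ∀ g ∈ centralizer ({z} : Set G), ∃ c < 1152, psi f₁ f₂ x y c = g := by
  let f : Fin 1152 → centralizer ({z} : Set G) := fun c => ⟨_, F.psi_mem c.isLt⟩
  have hf : Function.Injective f := fun c d e => Fin.ext (F.psi_inj c.isLt d.isLt (congrArg Subtype.val e))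
  have hs := (hf.bijective_of_nat_card_le (by rw [F.coord.hyp.card, Nat.card_fin])).2
  intro g hg
  obtain ⟨c, hc⟩ := hs ⟨g, hg⟩
  exact ⟨c, c.isLt, congrArg Subtype.val hc⟩

theorem psi_memQ {c : ℕ} (hc : c < 1152) : psi f₁ f₂ x y c ∈ Q ↔ inQ c = true := by
  obtain ⟨hA, hB, -⟩ := code_lt c hc
  by_cases hK : cE c = false ∧ cF c = false
  · have : psi f₁ f₂ x y c = pk f₁ f₂ (cA c) (cB c) := by rw [psi, hK.1, hK.2]; simp
    rw [this, F.coord.pk_memQ (by omega) hB]
    simp [inQ, hK.1, hK.2]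
  · refine iff_of_false (fun h => hK ((F.coset hc).1 (F.coord.Q_le h))) ?_
    revert hK
    cases he : cE c <;> cases hf : cF c <;> simp [inQ, he, hf]

end Frame

theorem mList_iff' : ∀ p q : Bool, ∀ c < 1152, (mulP p q c uC = mulP p q uC c ↔ c ∈ mList) := by
  decide +kernel

/-- Squares in the centralizer of two involutions of the extraspecial group. -/
theorem sq_small : ∀ p q : Bool, ∀ c ∈ mList, mulP p q c (code 2 2 false false) = mulP p q (code 2 2 false false) c ∨
    mulP p q c (code 3 2 false false) = mulP p q (code 3 2 false false) c →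
      mulP p q c c = 0 ∨ mulP p q c c = zC := by decide +kernel

/-- The candidates for the conjugates of the involutions of the extraspecial group. -/
def good (p q : Bool) (c : ℕ) : Bool :=
  (cE c || cF c) && mulP p q c c == 0 &&
    mList.all fun k => mulP p q k c != mulP p q c k || mulP p q k k == 0 || mulP p q k k == uC

theorem force : ∀ p q : Bool, ∀ c ∈ mList.filter (good p q), ∀ d ∈ mList.filter (good p q),
    mulP p q (mulP p q c d) (mulP p q c d) = uC → (cE (mulP p q c d) || cF (mulP p q c d)) = true →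
      p = true ∧ q = true := by decide +kernel

/-- Non-obvious facts about the three elements whose conjugates are used. -/
theorem three_facts : ∀ a ∈ [(2, 2), (3, 2), (sMul 2 3, sMul 2 2)], a.1 < 24 ∧ a.2 < 24 ∧
    (sMul a.1 a.1 = 0 ∨ sMul a.1 a.1 = 12) ∧ (sMul a.2 a.2 = 0 ∨ sMul a.2 a.2 = 12) ∧
    ∀ p q : Bool, code a.1 a.2 false false ∉ [0, zC, uC, mulP p q zC uC] ∧
      code a.1 a.2 false false ∈ mList := by decide +kernel

theorem product_facts : ∀ p q : Bool,
    mulP p q (code 2 2 false false) (code 3 2 false false) = code (sMul 2 3) (sMul 2 2) false false ∧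
    mulP p q (code (sMul 2 3) (sMul 2 2) false false) (code (sMul 2 3) (sMul 2 2) false false) = zC ∧
    mulP p q (code 2 2 false false) (code 2 2 false false) = 0 ∧
    mulP p q (code 3 2 false false) (code 3 2 false false) = 0 := by decide +kernel

theorem inQ_of_K : ∀ p q : Bool, ∀ c ∈ mList, cE c = false → cF c = false →
    (mulP p q c c = 0 ∨ mulP p q c c = uC) → inQ c = true := by decide +kernel

theorem mList_lt : ∀ c ∈ mList, c < 1152 := by decide +kernel

theorem Frame.model {G : Type*} [Group G] [Finite G] {z : G} {Q H₁ H₂ : Subgroup G} {f₁ f₂ : Sl →* G} {x y : G}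
    {p q : Bool} (F : Frame z Q H₁ H₂ f₁ f₂ x y p q) : Model z Q (psi f₁ f₂ x y) := by
  classical
  set ψ := psi f₁ f₂ x y with hψ
  obtain ⟨φ, φz, φu⟩ := F.coord.exchange
  have hu : ψ uC = pk f₁ f₂ 1 1 := by
    rw [hψ, show uC = code 1 1 false false from rfl, F.psi_code (by norm_num) (by norm_num)]; simp
  have hz : ψ zC = z := by
    rw [hψ, show zC = code 12 0 false false from rfl, F.psi_code (by norm_num) (by norm_num), F.coord.pk_z]; simp
  rw [← hu] at φz φu
  have hpk : ∀ a < 24, ∀ b < 24, pk f₁ f₂ a b = ψ (code a b false false) := fun a ha b hb => by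
    rw [hψ, F.psi_code ha hb]; simp
  have hmul : ∀ {c d}, c < 1152 → d < 1152 → ψ c * ψ d = ψ (mulP p q c d) := fun hc hd => F.psi_mul hc hd
  have hinj : ∀ {c d}, c < 1152 → d < 1152 → ψ c = ψ d → c = d := fun hc hd => F.psi_inj hc hd
  have h0 : ψ 0 = 1 := F.psi_zero
  have hlu : uC < 1152 := by norm_num
  have hlz : zC < 1152 := by norm_num
  obtain ⟨hzQ, huQ⟩ : z ∈ Q ∧ ψ uC ∈ Q := ⟨F.coord.mem_z, hu ▸ F.coord.pk11.1⟩
  have hne : φ * z * φ⁻¹ ≠ z := by rw [φz, hu]; exact F.coord.pk11.2.2.1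
  -- the extraspecial group meets its conjugate in the four group
  have hQ4 : ∀ g ∈ Q, φ * g * φ⁻¹ ∈ Q → g = 1 ∨ g = z ∨ g = ψ uC ∨ g = z * ψ uC := by
    intro g hg hg'
    by_contra hcon
    push Not at hcon
    obtain ⟨c1, c2, c3, c4⟩ := hcon
    have h1 : z ≠ 1 := F.coord.z_ne
    have h2 : ψ uC ≠ 1 := hu ▸ F.coord.pk11.2.1
    have h3 : ψ uC ≠ z := hu ▸ F.coord.pk11.2.2.1
    have h4 : z * ψ uC ≠ 1 := fun e => h3 (by
      rw [← inv_eq_of_mul_eq_one_right e, inv_eq_of_mul_eq_one_right F.coord.zz])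
    have h5 : z * ψ uC ≠ z := fun e => h2 (mul_eq_left.1 e)
    have h6 : z * ψ uC ≠ ψ uC := fun e => h1 (mul_eq_right.1 e)
    let T : Finset G := {g, 1, z, ψ uC, z * ψ uC}
    have hT : ∀ t ∈ T, φ * t * φ⁻¹ ∈ Q ⊓ Q.map (MulAut.conj φ).toMonoidHom := by
      intro t ht
      simp only [T, Finset.mem_insert, Finset.mem_singleton] at ht
      rcases ht with rfl | rfl | rfl | rfl | rfl
      · exact ⟨hg', Subgroup.mem_map_of_mem _ hg⟩
      · simp [one_mem]
      · exact ⟨φz ▸ huQ, Subgroup.mem_map_of_mem _ hzQ⟩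
      · exact ⟨φu ▸ hzQ, Subgroup.mem_map_of_mem _ huQ⟩
      · refine ⟨?_, Subgroup.mem_map_of_mem _ (mul_mem hzQ huQ)⟩
        rw [show φ * (z * ψ uC) * φ⁻¹ = φ * z * φ⁻¹ * (φ * ψ uC * φ⁻¹) by group, φz, φu]
        exact mul_mem huQ hzQ
    have hcard : T.card = 5 := by
      simp [T, c1, c2, c3, c4, h1.symm, h2.symm, h3.symm, h4.symm, h5.symm, h6.symm]
    have hle : T.card ≤ Nat.card (Q ⊓ Q.map (MulAut.conj φ).toMonoidHom : Subgroup G) := by
      rw [← Nat.card_eq_finsetCard]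
      refine Nat.card_le_card_of_injective (fun t : T => (⟨_, hT t t.2⟩ :
        (Q ⊓ Q.map (MulAut.conj φ).toMonoidHom : Subgroup G))) fun s t e => Subtype.ext ?_
      exact mul_left_cancel (mul_right_cancel (congrArg Subtype.val e))
    rw [F.coord.hyp.inter φ (φz ▸ huQ) hne] at hle
    omega
  -- conjugates of elements commuting with both involutions
  have img : ∀ c ∈ mList, ∃ d ∈ mList, φ * ψ c * φ⁻¹ = ψ d ∧ φ⁻¹ * (ψ d) * φ = ψ c := by
    intro c hc
    have lc := mList_lt c hc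
    have hcu : ψ c * ψ uC = ψ uC * ψ c := by
      rw [hmul lc hlu, hmul hlu lc, (mList_iff' p q c lc).2 hc]
    have hcz : ψ c * z = z * ψ c := mem_centralizer_singleton_iff.1 (F.psi_mem lc)
    have hC : φ * ψ c * φ⁻¹ ∈ centralizer ({z} : Set G) := by
      refine mem_centralizer_singleton_iff.2 ?_
      calc φ * ψ c * φ⁻¹ * z = φ * ψ c * φ⁻¹ * (φ * ψ uC * φ⁻¹) := by rw [φu]
        _ = φ * (ψ c * ψ uC) * φ⁻¹ := by group
        _ = φ * (ψ uC * ψ c) * φ⁻¹ := by rw [hcu]
        _ = (φ * ψ uC * φ⁻¹) * (φ * ψ c * φ⁻¹) := by group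
        _ = _ := by rw [φu]
    obtain ⟨d, ld, hd⟩ := F.psi_surj _ hC
    rw [← hψ] at hd
    refine ⟨d, (mList_iff' p q d ld).1 (hinj (mulP_lt p q _ _ ld hlu) (mulP_lt p q _ _ hlu ld) ?_), hd.symm,
      by rw [hd]; group⟩
    rw [← hmul ld hlu, ← hmul hlu ld, hd, ← φz]
    calc φ * ψ c * φ⁻¹ * (φ * z * φ⁻¹) = φ * (ψ c * z) * φ⁻¹ := by group
      _ = φ * (z * ψ c) * φ⁻¹ := by rw [hcz]
      _ = _ := by group
  have pre : ∀ k ∈ mList, ∃ j ∈ mList, ψ k = φ * ψ j * φ⁻¹ := by
    let f : {c // c ∈ mList.toFinset} → {c // c ∈ mList.toFinset} := fun c =>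
      ⟨(img c (List.mem_toFinset.1 c.2)).choose,
        List.mem_toFinset.2 (img c (List.mem_toFinset.1 c.2)).choose_spec.1⟩
    have hf : Function.Injective f := fun c d e => by
      have hc := (img c (List.mem_toFinset.1 c.2)).choose_spec
      have hd := (img d (List.mem_toFinset.1 d.2)).choose_spec
      have e' : (img c (List.mem_toFinset.1 c.2)).choose = (img d (List.mem_toFinset.1 d.2)).choose :=
        congrArg Subtype.val e
      refine Subtype.ext (hinj (mList_lt _ (List.mem_toFinset.1 c.2)) (mList_lt _ (List.mem_toFinset.1 d.2)) ?_)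
      rw [← hc.2.2, ← hd.2.2, e']
    intro k hk
    obtain ⟨j, hj⟩ := (Finite.injective_iff_surjective.1 hf) ⟨k, List.mem_toFinset.2 hk⟩
    have hs := (img j (List.mem_toFinset.1 j.2)).choose_spec
    refine ⟨j, List.mem_toFinset.1 j.2, ?_⟩
    rw [show k = (img j (List.mem_toFinset.1 j.2)).choose from (congrArg Subtype.val hj).symm]
    exact hs.2.1.symm
  have out : ∀ a ∈ [(2, 2), (3, 2), (sMul 2 3, sMul 2 2)], ∀ d ∈ mList,
      φ * ψ (code a.1 a.2 false false) * φ⁻¹ = ψ d → inQ d = false := by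
    intro a ha d hd e
    obtain ⟨l₁, l₂, s₁, s₂, hn⟩ := three_facts a ha
    obtain ⟨hn, -⟩ := hn p q
    have lc := (code_fields a.1 l₁ a.2 l₂ false false).1
    by_contra hin
    have hQd : ψ d ∈ Q := (F.psi_memQ (mList_lt d hd)).2 (by simpa using hin)
    have hgQ : ψ (code a.1 a.2 false false) ∈ Q := by
      rw [← hpk _ l₁ _ l₂]; exact (F.coord.pk_memQ l₁ l₂).2 ⟨s₁, s₂⟩
    refine hn ?_
    rcases hQ4 _ hgQ (e ▸ hQd) with h | h | h | h
    · simp [hinj lc (show 0 < 1152 by norm_num) (h.trans h0.symm)]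
    · simp [hinj lc hlz (h.trans hz.symm)]
    · simp [hinj lc hlu h]
    · rw [← hz, hmul hlz hlu] at h
      simp [hinj lc (mulP_lt p q _ _ hlz hlu) h]
  have lm : ∀ {a : ℕ × ℕ}, a ∈ [(2, 2), (3, 2), (sMul 2 3, sMul 2 2)] → code a.1 a.2 false false ∈ mList :=
    fun ha => ((three_facts _ ha).2.2.2.2 p q).2
  obtain ⟨p₁, p₂, p₃, p₄⟩ := product_facts p q
  have hgood : ∀ a ∈ [(2, 2), (3, 2)], ∀ d ∈ mList, φ * ψ (code a.1 a.2 false false) * φ⁻¹ = ψ d →
      d ∈ mList.filter (good p q) := by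
    intro a ha d hd e
    have ha' : a ∈ [(2, 2), (3, 2), (sMul 2 3, sMul 2 2)] := List.mem_append_left _ ha
    have lc := mList_lt _ (lm ha')
    have ld := mList_lt d hd
    have hsq : mulP p q d d = 0 := by
      refine hinj (mulP_lt p q _ _ ld ld) (by norm_num) ?_
      have h2 : mulP p q (code a.1 a.2 false false) (code a.1 a.2 false false) = 0 := by
        fin_cases ha <;> assumption
      rw [← hmul ld ld, ← e, show φ * ψ (code a.1 a.2 false false) * φ⁻¹ * (φ * ψ (code a.1 a.2 false false) * φ⁻¹) =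
        φ * (ψ (code a.1 a.2 false false) * ψ (code a.1 a.2 false false)) * φ⁻¹ by group, hmul lc lc, h2, h0]
      group
    have hnK : (cE d || cF d) = true := by
      by_contra hK
      simp only [Bool.or_eq_true, not_or, Bool.not_eq_true] at hK
      have := out a ha' d hd e
      rw [inQ_of_K p q d hd hK.1 hK.2 (Or.inl hsq)] at this
      exact absurd this (by simp)
    refine List.mem_filter.2 ⟨hd, ?_⟩
    rw [good, hnK, hsq]
    simp only [Bool.true_and, beq_self_eq_true, List.all_eq_true, Bool.or_eq_true, bne_iff_ne, beq_iff_eq]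
    intro k hk
    by_cases hcomm : mulP p q k d = mulP p q d k
    · obtain ⟨j, hj, ej⟩ := pre k hk
      have lj := mList_lt j hj
      have lk := mList_lt k hk
      have hjc : mulP p q j (code a.1 a.2 false false) = mulP p q (code a.1 a.2 false false) j := by
        refine hinj (mulP_lt p q _ _ lj lc) (mulP_lt p q _ _ lc lj) ?_
        rw [← hmul lj lc, ← hmul lc lj]
        refine mul_left_cancel (a := φ) (mul_right_cancel (b := φ⁻¹) ?_)
        calc φ * (ψ j * ψ (code a.1 a.2 false false)) * φ⁻¹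
            = φ * ψ j * φ⁻¹ * (φ * ψ (code a.1 a.2 false false) * φ⁻¹) := by group
          _ = ψ d * ψ k := by rw [← ej, e, hmul lk ld, hmul ld lk, hcomm]
          _ = _ := by rw [← e, ej]; group
      have hkk : ψ (mulP p q k k) = φ * ψ (mulP p q j j) * φ⁻¹ := by
        rw [← hmul lk lk, ← hmul lj lj, ej]; group
      rcases sq_small p q j hj (by fin_cases ha <;> [exact Or.inl hjc; exact Or.inr hjc]) with h | h
      · refine Or.inl (Or.inr (hinj (mulP_lt p q _ _ lk lk) (by norm_num) ?_))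
        rw [hkk, h, h0]; group
      · refine Or.inr (hinj (mulP_lt p q _ _ lk lk) hlu ?_)
        rw [hkk, h, hz, φz]
    · exact Or.inl (Or.inl hcomm)
  obtain ⟨c, hc, ec, -⟩ := img _ (lm (a := (2, 2)) (by simp))
  obtain ⟨d, hd, ed, -⟩ := img _ (lm (a := (3, 2)) (by simp))
  obtain ⟨g, hg, eg, -⟩ := img _ (lm (a := (sMul 2 3, sMul 2 2)) (by simp))
  have lc := mList_lt c hc
  have ld := mList_lt d hd
  have lg := mList_lt g hg
  have l22 := mList_lt _ (lm (a := (2, 2)) (by simp))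
  have l32 := mList_lt _ (lm (a := (3, 2)) (by simp))
  have lgg := mList_lt _ (lm (a := (sMul 2 3, sMul 2 2)) (by simp))
  have hcd : mulP p q c d = g := by
    refine hinj (mulP_lt p q _ _ lc ld) lg ?_
    rw [← hmul lc ld, ← ec, ← ed, ← eg, ← p₁, ← hmul l22 l32]; group
  have hgg : mulP p q g g = uC := by
    refine hinj (mulP_lt p q _ _ lg lg) hlu ?_
    rw [← hmul lg lg, ← eg, show φ * ψ (code (sMul 2 3) (sMul 2 2) false false) * φ⁻¹ *
      (φ * ψ (code (sMul 2 3) (sMul 2 2) false false) * φ⁻¹) =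
      φ * (ψ (code (sMul 2 3) (sMul 2 2) false false) * ψ (code (sMul 2 3) (sMul 2 2) false false)) * φ⁻¹ by group,
      hmul lgg lgg, p₂, hz, φz]
  have hgK : (cE g || cF g) = true := by
    by_contra hK
    simp only [Bool.or_eq_true, not_or, Bool.not_eq_true] at hK
    have := out (sMul 2 3, sMul 2 2) (by simp) g hg eg
    rw [inQ_of_K p q g hg hK.1 hK.2 (Or.inr hgg)] at this
    exact absurd this (by simp)
  obtain ⟨rfl, rfl⟩ := force p q c (hgood (2, 2) (by simp) c hc ec) d (hgood (3, 2) (by simp) d hd ed)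
    (by rw [hcd, hgg]) (by rw [hcd]; exact hgK)
  exact ⟨F.coord.hyp.ord, fun _ h => F.psi_mem h, fun _ h₁ _ h₂ => hmul h₁ h₂, fun _ h₁ _ h₂ => hinj h₁ h₂,
    F.psi_surj, hz, fun _ h => F.psi_memQ h, F.coord.hyp.card, fun _ h => F.coord.K_le (F.coord.Q_le h),
    fun _ hk _ hq => F.coord.norm hk hq,
    fun _ h₁ h₂ => F.coord.neighbour_mem h₁ h₂, F.coord.hyp.inter, ⟨φ, φz, φu⟩⟩

end

end CfsgLib.Spor.UFourType
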