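import Cfsg.Agent.Lib.Spor.UFourType.Basic

/-!
# Neighbouring involutions
-/

set_option autoImplicit false
set_option linter.unusedSectionVars false

namespace CfsgLib.Spor.UFourType

open Subgroup
open scoped commutatorElement
open CfsgLib.SympPairs

noncomputable section

theorem mem_map_conj {G : Type*} [Group G] {H : Subgroup G} {g x : G} :
    x ∈ H.map (MulAut.conj g).toMonoidHom ↔ g⁻¹ * x * g ∈ H := by
  constructor
  · rintro ⟨a, ha, rfl⟩
    show g⁻¹ * (g * a * g⁻¹) * g ∈ H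
    simpa [mul_assoc] using ha
  · exact fun h => ⟨_, h, show g * (g⁻¹ * x * g) * g⁻¹ = x by group⟩

namespace Coord

variable {G : Type*} [Group G] {z : G} {Q H₁ H₂ : Subgroup G} {f₁ f₂ : Sl →* G} (S : Coord z Q H₁ H₂ f₁ f₂)
include S

theorem norm {c q : G} (hc : c ∈ centralizer ({z} : Set G)) (hq : q ∈ Q) : c * q * c⁻¹ ∈ Q := by
  obtain ⟨hk, h4⟩ := (S.hyp.memQ q).1 hq
  exact (S.hyp.memQ _).2 ⟨S.hyp.normal c hc q hk, by rw [conj_pow, h4]; group⟩

theorem Q_cz {q : G} (hq : q ∈ Q) : q * z = z * q :=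
  mem_centralizer_singleton_iff.1 (S.K_le (S.Q_le hq))

theorem mem_z : z ∈ Q := by
  rw [← S.pk_z]
  exact (S.pk_memQ (by norm_num) (by norm_num)).2 ⟨by decide +kernel, by decide +kernel⟩

theorem card_Q : Nat.card Q = 32 := by
  classical
  let T := {p : Fin 12 × Fin 24 //
    (sMul p.1 p.1 = 0 ∨ sMul p.1 p.1 = 12) ∧ (sMul p.2 p.2 = 0 ∨ sMul p.2 p.2 = 12)}
  let f : T → Q := fun p => ⟨pk f₁ f₂ p.1.1 p.1.2,
    (S.pk_memQ (p.1.1.isLt.trans (by norm_num)) p.1.2.isLt).2 p.2⟩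
  have hf : Function.Bijective f := by
    constructor
    · rintro ⟨⟨a, b⟩, hp⟩ ⟨⟨c, d⟩, hp'⟩ e
      replace e : pk f₁ f₂ a b = pk f₁ f₂ c d := congrArg Subtype.val e
      rcases S.pk_eq (a.isLt.trans (by norm_num)) b.isLt (c.isLt.trans (by norm_num)) d.isLt e with
        ⟨e₁, e₂⟩ | ⟨e₁, -⟩
      · exact Subtype.ext (Prod.ext (Fin.ext e₁) (Fin.ext e₂))
      · exfalso
        have h₁ := a.isLt
        have h₂ := c.isLt
        rw [sNeg] at e₁
        omega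
    · rintro ⟨q, hq⟩
      obtain ⟨a, ha, b, hb, hp, rfl⟩ := S.Q_eq hq
      by_cases h : a < 12
      · exact ⟨⟨(⟨a, h⟩, ⟨b, hb⟩), hp⟩, rfl⟩
      · have key : ∀ x < 24, ¬ x < 12 → (sNeg x < 12 ∧ sMul (sNeg x) (sNeg x) = sMul x x) := by decide +kernel
        have key' : ∀ x < 24, (sNeg x < 24 ∧ sMul (sNeg x) (sNeg x) = sMul x x) := by decide +kernel
        refine ⟨⟨(⟨sNeg a, (key a ha h).1⟩, ⟨sNeg b, (key' b hb).1⟩),
          by simpa only [(key a ha h).2, (key' b hb).2] using hp⟩, Subtype.ext ?_⟩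
        exact S.pk_neg ha hb
  rw [← Nat.card_eq_of_bijective f hf, Nat.card_eq_fintype_card]
  show Fintype.card T = 32
  decide +kernel

theorem sq_or {q : G} (hq : q ∈ Q) : q * q = 1 ∨ q * q = z := by
  obtain ⟨a, ha, b, hb, ⟨h₁, h₂⟩, rfl⟩ := S.Q_eq hq
  rw [S.pk_mul ha hb ha hb]
  rcases h₁ with h₁ | h₁ <;> rcases h₂ with h₂ | h₂ <;> rw [h₁, h₂]
  · exact Or.inl S.pk_zero
  · exact Or.inr (by rw [pk, sl_zero, sl_twelve, S.neg₂, map_one, one_mul])
  · exact Or.inr S.pk_z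
  · exact Or.inl (by rw [pk, sl_twelve, S.neg₁, S.neg₂, S.zz])

theorem comm_or {p q : G} (hp : p ∈ Q) (hq : q ∈ Q) : ⁅p, q⁆ = 1 ∨ ⁅p, q⁆ = z := by
  have hc : ∀ {r}, r ∈ Q → r * z = z * r := fun {r} hr => S.Q_cz hr
  have hr : p * q * (p * q) = 1 ∨ p * q * (p * q) = z := S.sq_or (mul_mem hp hq)
  rcases S.sq_or hp with ep | ep <;> rcases S.sq_or hq with eq' | eq' <;> rcases hr with er | er
  all_goals
    have hzi : z⁻¹ = z := inv_eq_of_mul_eq_one_right S.zz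
    rw [show ⁅p, q⁆ = (p * q * (p * q)) * (q⁻¹ * (p⁻¹ * p⁻¹) * q) * (q⁻¹ * q⁻¹) by
      rw [commutatorElement_def]; group]
    rw [show p⁻¹ * p⁻¹ = (p * p)⁻¹ by group, show q⁻¹ * q⁻¹ = (q * q)⁻¹ by group, er, ep, eq']
    simp [hzi, S.zz, ← hc hq, mul_assoc]

theorem extraspecial : Cfsg.IsExtraspecial 2 Q := by
  haveI : Fact (Nat.Prime 2) := ⟨Nat.prime_two⟩
  haveI : Finite Q := Nat.finite_of_card_ne_zero (by rw [S.card_Q]; norm_num)
  let zq : Q := ⟨z, S.mem_z⟩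
  have hmem : ∀ {e : Q}, (e = 1 ∨ (e : G) = z) → e ∈ zpowers zq := by
    rintro e (rfl | h)
    · exact one_mem _
    · rw [show e = zq from Subtype.ext h]; exact mem_zpowers _
  refine CfsgLib.Spor.Affine.isExtraspecial_congr (Subgroup.topEquiv (G := Q))
    (CfsgLib.SympPairs.isExtraspecial_of_data (p := 2) (z := zq) ⊤ ?_ ⟨?_, ?_, mem_top _, ?_, ?_⟩ ?_ ?_ ?_)
  · exact IsPGroup.of_card (n := 5) (by rw [Nat.card_congr Subgroup.topEquiv.toEquiv, S.card_Q]; norm_num)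
  · exact Subtype.ext (by show z ^ 2 = 1; rw [pow_two, S.zz])
  · exact fun e => S.z_ne (congrArg Subtype.val e)
  · exact fun g => Subtype.ext (S.Q_cz g.2)
  · intro x _ y _
    refine hmem ?_
    rcases S.comm_or x.2 y.2 with e | e
    · exact Or.inl (Subtype.ext e)
    · exact Or.inr e
  · intro e _
    refine hmem ?_
    rcases S.sq_or e.2 with h | h
    · exact Or.inl (Subtype.ext (by rw [pow_two]; exact h))
    · exact Or.inr (by rw [pow_two]; exact h)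
  · intro e _ he
    refine hmem ?_
    rcases S.cent_Q (S.K_le (S.Q_le e.2)) (fun q hq =>
      (congrArg Subtype.val (mem_centralizer_iff.1 he ⟨q, hq⟩ (mem_top _))).symm) with h | h
    · exact Or.inl (Subtype.ext h)
    · exact Or.inr h
  · refine ⟨⟨pk f₁ f₂ 1 0, (S.pk_memQ (by norm_num) (by norm_num)).2 ⟨by decide +kernel, by decide +kernel⟩⟩,
      mem_top _, ⟨pk f₁ f₂ 2 0, (S.pk_memQ (by norm_num) (by norm_num)).2 ⟨by decide +kernel, by decide +kernel⟩⟩,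
      mem_top _, fun e => ?_⟩
    have h := congrArg Subtype.val (commutatorElement_eq_one_iff_mul_comm.1 e)
    simp only [Subgroup.coe_mul] at h
    rw [S.pk_mul (by norm_num) (by norm_num) (by norm_num) (by norm_num),
      S.pk_mul (by norm_num) (by norm_num) (by norm_num) (by norm_num)] at h
    have l₁ := sMul_lt 1 (by norm_num) 2 (by norm_num)
    have l₂ := sMul_lt 2 (by norm_num) 1 (by norm_num)
    rcases S.pk_eq l₁ (sMul_lt 0 (by norm_num) 0 (by norm_num)) l₂ (sMul_lt 0 (by norm_num) 0 (by norm_num)) h with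
      ⟨h', -⟩ | ⟨-, h'⟩
    · exact absurd h' (by decide +kernel)
    · exact absurd h' (by decide +kernel)

theorem conj_trans {x y : G} (hx : x ∈ centralizer ({z} : Set G)) :
    (x * y * x⁻¹) * z = z * (x * y * x⁻¹) ↔ y * z = z * y := by
  have hz : x * z * x⁻¹ = z := by rw [mem_centralizer_singleton_iff.1 hx, mul_inv_cancel_right]
  constructor
  · intro h
    conv_lhs at h => arg 2; rw [← hz]
    conv_rhs at h => arg 1; rw [← hz]
    refine mul_left_cancel (a := x) (mul_right_cancel (b := x⁻¹) ?_)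
    calc x * (y * z) * x⁻¹ = x * y * x⁻¹ * (x * z * x⁻¹) := by group
      _ = x * z * x⁻¹ * (x * y * x⁻¹) := h
      _ = _ := by group
  · intro h
    conv_lhs => arg 2; rw [← hz]
    conv_rhs => arg 1; rw [← hz]
    rw [show x * y * x⁻¹ * (x * z * x⁻¹) = x * (y * z) * x⁻¹ by group, h]; group

/-- The centre lies in the extraspecial group of a neighbour. -/
theorem neighbour_mem [Finite G] {g : G} (hg : g * z * g⁻¹ ∈ Q) (hne : g * z * g⁻¹ ≠ z) : g⁻¹ * z * g ∈ Q := by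
  have hz : ∀ x, x ∈ (center Q).map Q.subtype ↔ x = 1 ∨ x = z := by
    intro x
    constructor
    · rintro ⟨q, hq, rfl⟩
      exact S.cent_Q (S.K_le (S.Q_le q.2)) fun r hr =>
        (congrArg Subtype.val (mem_center_iff.1 hq ⟨r, hr⟩)).symm
    · rintro (rfl | rfl)
      · exact one_mem _
      · exact ⟨⟨_, S.mem_z⟩, mem_center_iff.2 fun q => Subtype.ext (S.Q_cz q.2), rfl⟩
  have hL2 : centralizer (Q : Set G) = (center Q).map Q.subtype := by
    refine le_antisymm (fun c hc => ?_) ?_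
    · rw [mem_centralizer_iff] at hc
      exact (hz c).2 (S.cent_Q (mem_centralizer_singleton_iff.2 (hc z S.mem_z).symm) fun q hq => (hc q hq).symm)
    · rintro _ ⟨q, hq, rfl⟩
      exact mem_centralizer_iff.2 fun r hr => congrArg Subtype.val (mem_center_iff.1 hq ⟨r, hr⟩)
  exact mem_map_conj.1 (LargeQ.centre_mem_conj Q z S.extraspecial hz S.hyp.ord hL2
    (fun c hc q hq => S.norm (mem_centralizer_singleton_iff.2 hc) hq) (by rw [S.card_Q]) g hne hg)

/-- The non-central involutions of the extraspecial group form one class in the product of the two groups. -/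
theorem move_u {u : G} (hu : u ∈ Q) (h2 : u * u = 1) (h1 : u ≠ 1) (hz : u ≠ z) :
    ∃ k ∈ centralizer ({z} : Set G), k * u * k⁻¹ = pk f₁ f₂ 1 1 := by
  obtain ⟨a, ha, b, hb, ⟨h₁, h₂⟩, rfl⟩ := S.Q_eq hu
  rw [S.pk_mul ha hb ha hb] at h2
  have key : ∀ x < 24, (sMul x x = 0 → x = 0 ∨ x = 12) ∧
      (sMul x x = 12 → ∃ h < 24, sMul (sMul h x) (sInv h) = 1) := by decide +kernel
  rcases S.pk_eq_one (sMul_lt a ha a ha) (sMul_lt b hb b hb) h2 with ⟨e₁, e₂⟩ | ⟨e₁, e₂⟩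
  · exfalso
    rcases (key a ha).1 e₁ with rfl | rfl <;> rcases (key b hb).1 e₂ with rfl | rfl
    · exact h1 S.pk_zero
    · exact hz (by rw [pk, sl_zero, sl_twelve, S.neg₂, map_one, one_mul])
    · exact hz S.pk_z
    · exact h1 (by rw [pk, sl_twelve, S.neg₁, S.neg₂, S.zz])
  · obtain ⟨h, hh, e⟩ := (key a ha).2 e₁
    obtain ⟨h', hh', e'⟩ := (key b hb).2 e₂
    refine ⟨pk f₁ f₂ h h', S.K_le (S.pk_mem_K h h'), ?_⟩
    rw [S.pk_inv hh hh', S.pk_mul hh hh' ha hb,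
      S.pk_mul (sMul_lt h hh a ha) (sMul_lt h' hh' b hb) (sInv_spec h hh).1 (sInv_spec h' hh').1, e, e']

theorem pk11 : pk f₁ f₂ 1 1 ∈ Q ∧ pk f₁ f₂ 1 1 ≠ 1 ∧ pk f₁ f₂ 1 1 ≠ z ∧ pk f₁ f₂ 1 1 * pk f₁ f₂ 1 1 = 1 := by
  refine ⟨(S.pk_memQ (by norm_num) (by norm_num)).2 ⟨by decide +kernel, by decide +kernel⟩, fun e => ?_, fun e => ?_, ?_⟩
  · rcases S.pk_eq_one (by norm_num) (by norm_num) e with ⟨h, -⟩ | ⟨h, -⟩ <;> omega
  · rw [← S.pk_z] at e
    rcases S.pk_eq (by norm_num) (by norm_num) (by norm_num) (by norm_num) e with ⟨h, -⟩ | ⟨-, h⟩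
    · omega
    · rw [sNeg] at h; omega
  · rw [S.pk_mul (by norm_num) (by norm_num) (by norm_num) (by norm_num), show sMul 1 1 = 12 from by decide +kernel,
      pk, sl_twelve, S.neg₁, S.neg₂, S.zz]

/-- An element exchanging the centre and the reference involution. -/
theorem exchange [Finite G] : ∃ φ : G, φ * z * φ⁻¹ = pk f₁ f₂ 1 1 ∧ φ * pk f₁ f₂ 1 1 * φ⁻¹ = z := by
  obtain ⟨g, hg, hne⟩ := S.hyp.nwc
  obtain ⟨k, hk, hk'⟩ := S.move_u hg (by
    rw [show g * z * g⁻¹ * (g * z * g⁻¹) = g * (z * z) * g⁻¹ by group, S.zz]; group)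
    (fun e => S.z_ne (by simpa using e)) hne
  have hkz : k * z * k⁻¹ = z := by rw [mem_centralizer_singleton_iff.1 hk, mul_inv_cancel_right]
  set g₀ := k * g with hg₀
  have e₀ : g₀ * z * g₀⁻¹ = pk f₁ f₂ 1 1 := by rw [hg₀, ← hk']; group
  have hm : g₀⁻¹ * z * g₀ ∈ Q := S.neighbour_mem (by rw [e₀]; exact S.pk11.1) (by rw [e₀]; exact S.pk11.2.2.1)
  obtain ⟨k', hk₂, hk₂'⟩ := S.move_u hm (by
    rw [show g₀⁻¹ * z * g₀ * (g₀⁻¹ * z * g₀) = g₀⁻¹ * (z * z) * g₀ by group, S.zz]; group)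
    (fun e => S.z_ne (by
      calc z = g₀ * (g₀⁻¹ * z * g₀) * g₀⁻¹ := by group
        _ = 1 := by rw [e]; group))
    (fun e => S.pk11.2.2.1 (by
      calc pk f₁ f₂ 1 1 = g₀ * z * g₀⁻¹ := e₀.symm
        _ = g₀ * (g₀⁻¹ * z * g₀) * g₀⁻¹ := by rw [e]
        _ = z := by group))
  have hk₂z : k' * z * k'⁻¹ = z := by rw [mem_centralizer_singleton_iff.1 hk₂, mul_inv_cancel_right]
  refine ⟨k' * g₀⁻¹, ?_, ?_⟩
  · rw [← hk₂']; group
  · conv_rhs => rw [← hk₂z]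
    rw [← e₀]; group

end Coord

end

end CfsgLib.Spor.UFourType
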