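import Cfsg.Agent.Lib.Spor.UFourType.LocalH

/-!
# Elements of order three inverted by one involution and centralized by another
-/

set_option autoImplicit false
set_option linter.unusedSectionVars false
set_option synthInstance.maxSize 4096

namespace CfsgLib.Spor.UFourType

open Subgroup

noncomputable section

theorem inverted_class : ∀ c ∈ threeList, (∃ t ∈ invList, mC t c = mC (mC c c) t) →
    ∃ k < 1152, ∃ d ∈ [400, 404, 496, 500], mC k c = mC d k := by decide +kernel

theorem four_codes : ∀ d ∈ [400, 404, 496, 500], ∃ b : Bool, d = yC b ∨ d = mC (yC b) (yC b) := by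
  decide +kernel

/-- An odd element has only itself as square root among elements of odd order commuting with it. -/
theorem eq_one_of_sq {G : Type*} [Group G] {d : G} (ho : Odd (orderOf d)) (h : d * d = 1) : d = 1 := by
  obtain ⟨k, hk⟩ := ho
  have h' := pow_orderOf_eq_one d
  rwa [hk, pow_succ, pow_mul, pow_two, h, one_pow, one_mul] at h'

/-- Inverted elements are determined modulo commuting fixed elements. -/
theorem inverted_unique_gen {G : Type*} [Group G] {z p d e : G} (hz : z * z = 1) (hp : Odd (orderOf p))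
    (hpd : p * d = d * p) (hpz : z * p * z = p) (hdz : z * d * z = d⁻¹) (hez : z * e * z = e⁻¹) (he : e = p * d) :
    p = 1 ∧ e = d := by
  have h : p * d⁻¹ = (p * d)⁻¹ := by
    rw [← he, ← hez, he]
    calc p * d⁻¹ = z * p * z * (z * d * z) := by rw [hpz, hdz]
      _ = z * p * (z * z) * d * z := by group
      _ = z * (p * d) * z := by rw [hz]; group
  rw [mul_inv_rev, show d⁻¹ * p⁻¹ = p⁻¹ * d⁻¹ by rw [← mul_inv_rev, ← mul_inv_rev, hpd]] at h
  have h1 : p = 1 := eq_one_of_sq hp (by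
    rw [mul_eq_one_iff_eq_inv]
    exact mul_right_cancel h)
  exact ⟨h1, by rw [he, h1, one_mul]⟩

namespace Model

variable {G : Type*} [Group G] [Finite G] {z : G} {Q : Subgroup G} {ψ : ℕ → G} (M : Model z Q ψ)
include M

/-- An element of order three of the centralizer inverted by an involution of it is of a side. -/
theorem inverted_code {c : ℕ} (hc : c ∈ threeList) {t : G} (ht : t ∈ centralizer ({z} : Set G)) (ht2 : t * t = 1)
    (hti : t * ψ c * t = (ψ c)⁻¹) :
    ∃ b, ∃ g : G, ∀ x, x * ψ c = ψ c * x ↔ g * x * g⁻¹ ∈ M.grpH b := by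
  have lc := list_lt.2.1 c hc
  have ht1 : t ≠ 1 := fun e => by
    rw [e, one_mul, mul_one] at hti
    have h := M.eq_one_iff lc
    refine (threeList_spec c hc).2 (h.1 ?_)
    have h3 : ψ c ^ 3 = 1 := by
      rw [pow_succ, pow_two, M.mul c lc c lc, M.mul _ (mC_lt lc lc) c lc, (threeList_spec c hc).1, M.one]
    rwa [pow_succ, pow_two, mul_eq_one_iff_eq_inv.2 hti, one_mul] at h3
  obtain ⟨e, he, hee⟩ := M.inv_code ht ht2 ht1
  have le := list_lt.1 e he
  have h3 : ψ c * ψ c * ψ c = 1 := by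
    rw [M.mul c lc c lc, M.mul _ (mC_lt lc lc) c lc, (threeList_spec c hc).1, M.one]
  obtain ⟨k, hk, d, hd, hkd⟩ := inverted_class c hc ⟨e, he, (M.conj_iff le lc (mC_lt lc lc)).1 (by
    rw [hee, inv_eq_of_mul_eq_one_right ht2, hti, ← M.mul c lc c lc]
    exact (eq_inv_of_mul_eq_one_left h3).symm)⟩
  obtain ⟨b, hb⟩ := four_codes d hd
  have ly := lists_lt.2.2 _ (vList_card b).2.2.2.2.1
  have ld : d < 1152 := by fin_cases hd <;> norm_num
  refine ⟨b, ψ k, fun x => ?_⟩
  have hd' : ψ k * ψ c * (ψ k)⁻¹ = ψ d := M.conj_eq hk lc ld hkd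
  have key : x * ψ c = ψ c * x ↔ ψ k * x * (ψ k)⁻¹ * ψ d = ψ d * (ψ k * x * (ψ k)⁻¹) := by
    rw [← hd', show ψ k * x * (ψ k)⁻¹ * (ψ k * ψ c * (ψ k)⁻¹) = ψ k * (x * ψ c) * (ψ k)⁻¹ by group,
      show ψ k * ψ c * (ψ k)⁻¹ * (ψ k * x * (ψ k)⁻¹) = ψ k * (ψ c * x) * (ψ k)⁻¹ by group]
    exact ⟨fun h => by rw [h], fun h => mul_left_cancel (mul_right_cancel h)⟩
  rw [key, Model.grpH, mem_centralizer_singleton_iff]
  rcases hb with rfl | rfl
  · exact Iff.rfl
  · set w := ψ k * x * (ψ k)⁻¹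
    rw [← M.mul _ ly _ ly]
    set y := ψ (yC b) with hy
    have hy3 : y ^ 3 = 1 := M.grpP_cube (M.yC_memA b).1
    refine ⟨fun h => ?_, fun h => ((show Commute w y from h).mul_right h).eq⟩
    have h4 : y * y * (y * y) = y := by
      rw [← mul_assoc, show y * y * y = y ^ 3 by rw [pow_succ, pow_two], hy3, one_mul]
    have h' := ((show Commute w (y * y) from h).mul_right h).eq
    rwa [h4] at h'

/-- An element inverted by one and centralized by another of two commuting involutions is of a side. -/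
theorem real_pair {s u t : G} (hs3 : s ^ 3 = 1) (hs1 : s ≠ 1) (hu2 : u * u = 1) (hu1 : u ≠ 1) (ht2 : t * t = 1)
    (hut : u * t = t * u) (hus : u * s = s * u) (hts : t * s * t = s⁻¹) :
    ∃ b, ∃ g : G, ∀ x, x * s = s * x ↔ g * x * g⁻¹ ∈ M.grpH b := by
  obtain ⟨g, hg⟩ := M.exists_conj hu2 hu1
  have hC : ∀ x, u * x = x * u → g * x * g⁻¹ ∈ centralizer ({z} : Set G) := fun x hx => by
    refine mem_centralizer_singleton_iff.2 ?_
    rw [← hg]
    calc g * x * g⁻¹ * (g * u * g⁻¹) = g * (x * u) * g⁻¹ := by group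
      _ = g * (u * x) * g⁻¹ := by rw [hx]
      _ = _ := by group
  obtain ⟨c, hc, hce⟩ := M.three_code (hC s hus) (by rw [conj_pow, hs3]; group) (fun e => hs1 (conj_eq_one_iff.1 e))
  obtain ⟨b, k, hk⟩ := M.inverted_code hc (hC t hut)
    (by rw [show g * t * g⁻¹ * (g * t * g⁻¹) = g * (t * t) * g⁻¹ by group, ht2]; group)
    (by rw [hce, show g * t * g⁻¹ * (g * s * g⁻¹) * (g * t * g⁻¹) = g * (t * s * t) * g⁻¹ by group, hts]; group)
  refine ⟨b, k * g, fun x => ?_⟩
  rw [show k * g * x * (k * g)⁻¹ = k * (g * x * g⁻¹) * k⁻¹ by group, ← hk, hce,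
    show g * x * g⁻¹ * (g * s * g⁻¹) = g * (x * s) * g⁻¹ by group,
    show g * s * g⁻¹ * (g * x * g⁻¹) = g * (s * x) * g⁻¹ by group]
  exact ⟨fun h => by rw [h], fun h => mul_left_cancel (mul_right_cancel h)⟩

/-- The centralizer of such an element has order dividing 972. -/
theorem card_real {s g : G} {b : Bool} (h : ∀ x, x * s = s * x ↔ g * x * g⁻¹ ∈ M.grpH b) :
    Nat.card (centralizer ({s} : Set G)) ∣ 972 := by
  have e : (centralizer ({s} : Set G)).map (MulAut.conj g).toMonoidHom = M.grpH b := by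
    refine le_antisymm ?_ fun x hx => ⟨g⁻¹ * x * g, ?_, ?_⟩
    · rintro _ ⟨x, hx, rfl⟩
      exact (h x).1 (mem_centralizer_singleton_iff.1 hx)
    · refine mem_centralizer_singleton_iff.2 ((h _).2 ?_)
      rwa [show g * (g⁻¹ * x * g) * g⁻¹ = x by group]
    · show g * (g⁻¹ * x * g) * g⁻¹ = x
      group
  rw [← Subgroup.card_map_of_injective (f := (MulAut.conj g).toMonoidHom) (MulAut.conj g).injective, e]
  exact M.card_grpH_dvd b

end Model

end

end CfsgLib.Spor.UFourType
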