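import Cfsg.Agent.Lib.Spor.UFourType.Neighbour
import Cfsg.Agent.Lib.Spor.UFourType.Aut

/-!
# An involution exchanging the two linear groups
-/

set_option autoImplicit false
set_option synthInstance.maxSize 4096
set_option linter.unusedSectionVars false

namespace CfsgLib.Spor.UFourType

open Subgroup

noncomputable section

theorem gens_comm : ∀ a < 24, sMul a 1 = sMul 1 a → sMul a 2 = sMul 2 a → a = 0 ∨ a = 12 := by decide +kernel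

theorem single_flip : ∀ f g : Bool, ∀ h h' : Fin 24,
    (aut f h 1 = 1 ∧ aut g h' 1 = 1 ∨ aut f h 1 = sNeg 1 ∧ aut g h' 1 = sNeg 1) →
    (∃ p ∈ [(0, 0), (12, 0), (1, 1), (13, 1)],
      (sMul (aut f h 2) (sInv 2), sMul (aut g h' 2) (sInv 2)) ∈ [p, (sNeg p.1, sNeg p.2)]) → f = g := by
  decide +kernel

variable {G : Type*} [Group G] {z : G} {Q H₁ H₂ : Subgroup G} {f₁ f₂ : Sl →* G}

namespace Coord

variable (S : Coord z Q H₁ H₂ f₁ f₂)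
include S

theorem pk_left (a : ℕ) : pk f₁ f₂ a 0 = f₁ (sl a) := by rw [pk, sl_zero, map_one, mul_one]

theorem pk_right (b : ℕ) : pk f₁ f₂ 0 b = f₂ (sl b) := by rw [pk, sl_zero, map_one, one_mul]

theorem sq_side {q : G} (hq : q ∈ Q) (h : q * q = z) : q ∈ H₁ ∨ q ∈ H₂ := by
  obtain ⟨a, ha, b, hb, ⟨h₁, h₂⟩, rfl⟩ := S.Q_eq hq
  have key : ∀ x < 24, sMul x x = 0 → x = 0 ∨ x = 12 := by decide +kernel
  have hn : ∀ {x}, x = 0 ∨ x = 12 → f₁ (sl x) ∈ H₁ ⊓ H₂ ∧ f₂ (sl x) ∈ H₁ ⊓ H₂ := by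
    rintro x (rfl | rfl)
    · rw [sl_zero, map_one, map_one]; exact ⟨one_mem _, one_mem _⟩
    · rw [sl_twelve, S.neg₁, S.neg₂, S.hyp.meet]; exact ⟨mem_zpowers z, mem_zpowers z⟩
  rw [S.pk_mul ha hb ha hb] at h
  rcases h₁ with h₁ | h₁
  · exact Or.inr (mul_mem (hn (key a ha h₁)).1.2 (S.mem₂ _))
  · rcases h₂ with h₂ | h₂
    · exact Or.inl (mul_mem (S.mem₁ _) (hn (key b hb h₂)).2.1)
    · exfalso
      rw [h₁, h₂, pk, sl_twelve, S.neg₁, S.neg₂, S.zz] at h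
      exact S.z_ne h.symm

theorem symm : Coord z Q H₂ H₁ f₂ f₁ :=
  ⟨⟨S.hyp.ord, S.hyp.le₂, S.hyp.le₁, S.hyp.iso₂, S.hyp.iso₁, fun a ha b hb => (S.hyp.comm b hb a ha).symm,
    by rw [inf_comm]; exact S.hyp.meet, by rw [sup_comm]; exact S.hyp.odd_mem,
    by rw [sup_comm]; exact S.hyp.normal, by rw [sup_comm]; exact S.hyp.memQ, S.hyp.self, S.hyp.card,
    S.hyp.nwc, S.hyp.inter⟩, S.inj₂, S.inj₁, S.range₂, S.range₁⟩

/-- A pair of non-commuting elements of order four in one factor determines the other factor. -/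
theorem comm_pair {p q k : G} (hp : p ∈ H₁) (hq : q ∈ H₁) (hpq : p * q ≠ q * p) (hpz : p * p = z)
    (hqz : q * q = z) (hk : k ∈ H₁ ⊔ H₂) (e1 : k * p = p * k) (e2 : k * q = q * k) : k ∈ H₂ := by
  rw [← S.range₁] at hp hq
  obtain ⟨a, rfl⟩ := hp
  obtain ⟨b, rfl⟩ := hq
  obtain ⟨m, hm, n, hn, rfl⟩ := S.K_eq k hk
  have key : ∀ a b : Fin 24, ∀ m : Fin 24, sMul a b ≠ sMul b a → sMul a a = 12 → sMul b b = 12 →
      sMul m a = sMul a m → sMul m b = sMul b m → (m : ℕ) = 0 ∨ (m : ℕ) = 12 := by decide +kernel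
  have hnum : ∀ s t : Sl, sMul (num s) (num t) = num (s * t) := fun s t =>
    sl_injective _ (sMul_lt _ (num s).isLt _ (num t).isLt) _ (num _).isLt
      (by rw [sl_num, sl_mul _ (num s).isLt _ (num t).isLt, sl_num, sl_num])
  have hc' : ∀ s : Sl, pk f₁ f₂ m n * f₁ s = f₁ s * pk f₁ f₂ m n → sMul m (num s) = sMul (num s) m := by
    intro s e
    rw [← sl_num s, ← S.pk_left, S.pk_mul hm hn (num s).isLt (by norm_num),
      S.pk_mul (num s).isLt (by norm_num) hm hn] at e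
    have one : ∀ x < 24, sMul x 0 = x ∧ sMul 0 x = x ∧ x ≠ sNeg x := by decide +kernel
    rw [(one n hn).1, (one n hn).2.1] at e
    rcases S.pk_eq (sMul_lt m hm _ (num s).isLt) hn (sMul_lt _ (num s).isLt m hm) hn e with ⟨e', -⟩ | ⟨-, e'⟩
    · exact e'
    · exact absurd e' (one n hn).2.2
  have hneg : (num (-1 : Sl) : ℕ) = 12 := by decide +kernel
  rcases key (num a) (num b) ⟨m, hm⟩
      (fun e => hpq (by
        rw [hnum, hnum, ← Fin.ext_iff] at e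
        rw [← map_mul, ← map_mul, show a * b = b * a by rw [← sl_num (a * b), e, sl_num]]))
      (by rw [hnum, show a * a = -1 from S.inj₁ (by rw [map_mul, hpz, S.neg₁]), hneg])
      (by rw [hnum, show b * b = -1 from S.inj₁ (by rw [map_mul, hqz, S.neg₁]), hneg])
      (hc' a e1) (hc' b e2) with h | h
  · rw [show m = 0 from h, S.pk_right]; exact S.mem₂ _
  · rw [show m = 12 from h, pk, sl_twelve, S.neg₁, ← S.neg₂, ← map_mul]; exact S.mem₂ _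

/-- Elements of the centralizer fix or exchange the two groups. -/
theorem side_or {c : G} (hc : c ∈ centralizer ({z} : Set G)) :
    ((∀ s, c * f₁ s * c⁻¹ ∈ H₁) ∧ ∀ s, c * f₂ s * c⁻¹ ∈ H₂) ∨
      ((∀ s, c * f₁ s * c⁻¹ ∈ H₂) ∧ ∀ s, c * f₂ s * c⁻¹ ∈ H₁) := by
  have hz : c * z * c⁻¹ = z := by rw [mem_centralizer_singleton_iff.1 hc, mul_inv_cancel_right]
  have hzz : sl 1 * sl 1 = -1 ∧ sl 2 * sl 2 = -1 ∧ sl 1 * sl 2 ≠ sl 2 * sl 1 := by decide +kernel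
  have hQ : ∀ i, (i = 1 ∨ i = 2) → f₁ (sl i) ∈ Q ∧ f₂ (sl i) ∈ Q := by
    rintro i (rfl | rfl) <;> rw [← S.pk_left, ← S.pk_right] <;>
      exact ⟨(S.pk_memQ (by norm_num) (by norm_num)).2 ⟨by decide +kernel, by decide +kernel⟩,
        (S.pk_memQ (by norm_num) (by norm_num)).2 ⟨by decide +kernel, by decide +kernel⟩⟩
  have himg : ∀ (F : Sl →* G), F (-1) = z → (∀ i, (i = 1 ∨ i = 2) → F (sl i) ∈ Q) →
      ∀ i, (i = 1 ∨ i = 2) → c * F (sl i) * c⁻¹ ∈ H₁ ∨ c * F (sl i) * c⁻¹ ∈ H₂ := by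
    intro F hF hFQ i hi
    refine S.sq_side (S.norm hc (hFQ i hi)) ?_
    rw [show c * F (sl i) * c⁻¹ * (c * F (sl i) * c⁻¹) = c * (F (sl i) * F (sl i)) * c⁻¹ by group, ← map_mul]
    rcases hi with rfl | rfl
    · rw [hzz.1, hF, hz]
    · rw [hzz.2.1, hF, hz]
  have hsame : ∀ (F : Sl →* G), Function.Injective F → F (-1) = z → (∀ i, (i = 1 ∨ i = 2) → F (sl i) ∈ Q) →
      (∀ i, (i = 1 ∨ i = 2) → c * F (sl i) * c⁻¹ ∈ H₁) ∨ (∀ i, (i = 1 ∨ i = 2) → c * F (sl i) * c⁻¹ ∈ H₂) := by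
    intro F hi hF hFQ
    have hne : ∀ {a b : G}, a ∈ H₁ → b ∈ H₂ → c * F (sl 1) * c⁻¹ * (c * F (sl 2) * c⁻¹) ≠
        c * F (sl 2) * c⁻¹ * (c * F (sl 1) * c⁻¹) := by
      intro _ _ _ _ e
      refine hzz.2.2 (hi ?_)
      rw [map_mul, map_mul]
      refine mul_left_cancel (a := c) (mul_right_cancel (b := c⁻¹) ?_)
      calc c * (F (sl 1) * F (sl 2)) * c⁻¹ = c * F (sl 1) * c⁻¹ * (c * F (sl 2) * c⁻¹) := by group
        _ = _ := e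
        _ = _ := by group
    rcases himg F hF hFQ 1 (Or.inl rfl) with h | h <;> rcases himg F hF hFQ 2 (Or.inr rfl) with h' | h'
    · exact Or.inl (by rintro i (rfl | rfl) <;> assumption)
    · exact absurd (S.hyp.comm _ h _ h') (hne h h')
    · exact absurd (S.hyp.comm _ h' _ h).symm (hne h' h)
    · exact Or.inr (by rintro i (rfl | rfl) <;> assumption)
  have hcross : ∀ (F F' : Sl →* G), (∀ s t, F s * F' t = F' t * F s) → ∀ i, c * F (sl i) * c⁻¹ *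
      (c * F' (sl 1) * c⁻¹) = c * F' (sl 1) * c⁻¹ * (c * F (sl i) * c⁻¹) ∧ c * F (sl i) * c⁻¹ *
      (c * F' (sl 2) * c⁻¹) = c * F' (sl 2) * c⁻¹ * (c * F (sl i) * c⁻¹) := by
    intro F F' h i
    constructor <;>
    · rw [show ∀ a b : G, c * a * c⁻¹ * (c * b * c⁻¹) = c * (a * b) * c⁻¹ from fun a b => by group, h]
      group
  have hK : ∀ (F : Sl →* G), (∀ s, F s ∈ H₁ ⊔ H₂) → ∀ s, c * F s * c⁻¹ ∈ H₁ ⊔ H₂ :=
    fun F hF s => S.hyp.normal c hc _ (hF s)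
  have hK₁ := hK f₁ fun s => mem_sup_left (S.mem₁ s)
  have hK₂ := hK f₂ fun s => mem_sup_right (S.mem₂ s)
  have conv : ∀ (F : Sl →* G) (H : Subgroup G), (∀ i, c * F (sl i) * c⁻¹ ∈ H) → ∀ s, c * F s * c⁻¹ ∈ H :=
    fun F H h s => sl_num s ▸ h (num s)
  have hsq : ∀ (F : Sl →* G), F (-1) = z → c * F (sl 1) * c⁻¹ * (c * F (sl 1) * c⁻¹) = z ∧
      c * F (sl 2) * c⁻¹ * (c * F (sl 2) * c⁻¹) = z := by
    intro F hF
    constructor <;> rw [show ∀ a : G, c * a * c⁻¹ * (c * a * c⁻¹) = c * (a * a) * c⁻¹ from fun a => by group,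
      ← map_mul]
    · rw [hzz.1, hF, hz]
    · rw [hzz.2.1, hF, hz]
  have hnc : ∀ (F : Sl →* G), Function.Injective F →
      c * F (sl 1) * c⁻¹ * (c * F (sl 2) * c⁻¹) ≠ c * F (sl 2) * c⁻¹ * (c * F (sl 1) * c⁻¹) := by
    intro F hi e
    refine hzz.2.2 (hi ?_)
    rw [map_mul, map_mul]
    refine mul_left_cancel (a := c) (mul_right_cancel (b := c⁻¹) ?_)
    calc c * (F (sl 1) * F (sl 2)) * c⁻¹ = c * F (sl 1) * c⁻¹ * (c * F (sl 2) * c⁻¹) := by group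
      _ = _ := e
      _ = _ := by group
  have hc₁ := hcross f₂ f₁ fun s t => (S.comm t s).symm
  have hc₂ := hcross f₁ f₂ S.comm
  rcases hsame f₁ S.inj₁ S.neg₁ (fun i hi => (hQ i hi).1) with h | h
  · left
    have h₂ : ∀ i, c * f₂ (sl i) * c⁻¹ ∈ H₂ := fun i => S.comm_pair (h 1 (Or.inl rfl)) (h 2 (Or.inr rfl))
      (hnc f₁ S.inj₁) (hsq f₁ S.neg₁).1 (hsq f₁ S.neg₁).2 (hK₂ _) (hc₁ i).1 (hc₁ i).2
    have h₁ : ∀ i, c * f₁ (sl i) * c⁻¹ ∈ H₁ := fun i => S.symm.comm_pair (h₂ 1) (h₂ 2)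
      (hnc f₂ S.inj₂) (hsq f₂ S.neg₂).1 (hsq f₂ S.neg₂).2 (sup_comm H₁ H₂ ▸ hK₁ _) (hc₂ i).1 (hc₂ i).2
    exact ⟨conv f₁ _ h₁, conv f₂ _ h₂⟩
  · right
    have h₂ : ∀ i, c * f₂ (sl i) * c⁻¹ ∈ H₁ := fun i => S.symm.comm_pair (h 1 (Or.inl rfl)) (h 2 (Or.inr rfl))
      (hnc f₁ S.inj₁) (hsq f₁ S.neg₁).1 (hsq f₁ S.neg₁).2 (sup_comm H₁ H₂ ▸ hK₂ _) (hc₁ i).1 (hc₁ i).2
    have h₁ : ∀ i, c * f₁ (sl i) * c⁻¹ ∈ H₂ := fun i => S.comm_pair (h₂ 1) (h₂ 2)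
      (hnc f₂ S.inj₂) (hsq f₂ S.neg₂).1 (hsq f₂ S.neg₂).2 (hK₁ _) (hc₂ i).1 (hc₂ i).2
    exact ⟨conv f₁ _ h₁, conv f₂ _ h₂⟩

/-- An element fixing the two groups induces automorphisms. -/
theorem acts {c : G} {F F' : Sl →* G} (hF : Function.Injective F) (hF' : Function.Injective F')
    (h : ∀ s, c * F s * c⁻¹ ∈ F'.range) : ∃ (f : Bool) (k : Fin 24), ∀ s, c * F s * c⁻¹ = F' (autHom f k s) := by
  choose φ hφ using h
  let α : Sl →* Sl := MonoidHom.mk' φ fun s t => hF' (by rw [map_mul, hφ, hφ, hφ, map_mul]; group)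
  obtain ⟨f, k, e⟩ := hom_eq_aut α fun s t e => hF (mul_left_cancel (mul_right_cancel (b := c⁻¹) (a := c * F s) (c := c * F t)
    (by rw [← hφ s, ← hφ t]; exact congrArg F' e)))
  exact ⟨f, k, fun s => by rw [← e]; exact (hφ s).symm⟩

/-- An element acting innerly on both groups lies in their product. -/
theorem mem_K_of_inner {c : G} (hc : c ∈ centralizer ({z} : Set G)) {k k' : Fin 24}
    (h₁ : ∀ s, c * f₁ s * c⁻¹ = f₁ (autHom false k s)) (h₂ : ∀ s, c * f₂ s * c⁻¹ = f₂ (autHom false k' s)) :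
    c ∈ H₁ ⊔ H₂ := by
  set m := pk f₁ f₂ k k' with hm
  have hmK : m ∈ H₁ ⊔ H₂ := S.pk_mem_K _ _
  have hmc : m⁻¹ * c ∈ centralizer ({z} : Set G) := mul_mem (inv_mem (S.K_le hmK)) hc
  have hinn : ∀ (i : Fin 24) (s : Sl), autHom false i s = sl i * s * (sl i)⁻¹ := fun i s => by
    conv_rhs => rw [← sl_num s]
    rw [← sl_inv _ i.isLt, ← sl_mul _ i.isLt _ (num s).isLt, ← sl_mul _ (sMul_lt _ i.isLt _ (num s).isLt) _
      (sInv_spec _ i.isLt).1]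
    rfl
  have hm₁ : ∀ s, m * f₁ s * m⁻¹ = f₁ (autHom false k s) := fun s => by
    rw [hinn, map_mul, map_mul, map_inv, hm, pk, mul_inv_rev]
    calc f₁ (sl k) * f₂ (sl k') * f₁ s * ((f₂ (sl k'))⁻¹ * (f₁ (sl k))⁻¹)
        = f₁ (sl k) * (f₂ (sl k') * f₁ s) * (f₂ (sl k'))⁻¹ * (f₁ (sl k))⁻¹ := by group
      _ = _ := by rw [← S.comm s]; group
  have hm₂ : ∀ s, m * f₂ s * m⁻¹ = f₂ (autHom false k' s) := fun s => by
    rw [hinn, map_mul, map_mul, map_inv, hm, pk, mul_inv_rev]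
    calc f₁ (sl k) * f₂ (sl k') * f₂ s * ((f₂ (sl k'))⁻¹ * (f₁ (sl k))⁻¹)
        = f₁ (sl k) * (f₂ (sl k') * f₂ s * (f₂ (sl k'))⁻¹) * (f₁ (sl k))⁻¹ := by group
      _ = f₁ (sl k) * f₂ (sl k' * s * (sl k')⁻¹) * (f₁ (sl k))⁻¹ := by rw [map_mul, map_mul, map_inv]
      _ = _ := by rw [S.comm, map_mul, map_mul, map_inv]; group
  have hcomm : ∀ g : G, c * g * c⁻¹ = m * g * m⁻¹ → m⁻¹ * c * g = g * (m⁻¹ * c) := fun g e => by
    calc m⁻¹ * c * g = m⁻¹ * (c * g * c⁻¹) * c := by group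
      _ = m⁻¹ * (m * g * m⁻¹) * c := by rw [e]
      _ = _ := by group
  rcases S.cent_K hmc fun a ha b hb => by
      have e₁ := hcomm (f₁ (sl a)) (by rw [h₁, hm₁])
      have e₂ := hcomm (f₂ (sl b)) (by rw [h₂, hm₂])
      exact ((show Commute (m⁻¹ * c) (f₁ (sl a)) from e₁).mul_right e₂).eq with h | h
  · rwa [inv_mul_eq_one.1 h] at hmK
  · rw [show c = m * z by rw [← h]; group]
    exact mul_mem hmK (by rw [← S.pk_z]; exact S.pk_mem_K _ _)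

/-- The intersection of two neighbouring extraspecial groups. -/
theorem inter_list [Finite G] {φ y : G} (hφz : φ * z * φ⁻¹ = pk f₁ f₂ 1 1)
    (hφu : φ * pk f₁ f₂ 1 1 * φ⁻¹ = z) (hy : y ∈ Q ⊓ Q.map (MulAut.conj φ).toMonoidHom) :
    ∃ r ∈ [(0, 0), (12, 0), (1, 1), (13, 1)], y = pk f₁ f₂ r.1 r.2 := by
  classical
  obtain ⟨huQ, hu1, huz, huu⟩ := S.pk11
  set I := Q ⊓ Q.map (MulAut.conj φ).toMonoidHom with hI
  have hcard : Nat.card I = 4 := S.hyp.inter φ (by rw [hφz]; exact huQ) (by rw [hφz]; exact huz)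
  have hzI : z ∈ I := ⟨S.mem_z, by rw [← hφu]; exact mem_map_of_mem _ huQ⟩
  have huI : pk f₁ f₂ 1 1 ∈ I := ⟨huQ, by rw [← hφz]; exact mem_map_of_mem _ S.mem_z⟩
  have hlist : ∀ r, r ∈ [(0, 0), (12, 0), (1, 1), (13, 1)] → pk f₁ f₂ r.1 r.2 ∈ I := by
    intro r hr
    rcases (show r = (0, 0) ∨ r = (12, 0) ∨ r = (1, 1) ∨ r = (13, 1) by simpa using hr) with rfl | rfl | rfl | rfl
    · rw [S.pk_zero]; exact one_mem _
    · rw [S.pk_z]; exact hzI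
    · exact huI
    · rw [show pk f₁ f₂ 13 1 = pk f₁ f₂ 12 0 * pk f₁ f₂ 1 1 by
        rw [S.pk_mul (by norm_num) (by norm_num) (by norm_num) (by norm_num)]
        congr 1 <;> decide +kernel, S.pk_z]
      exact mul_mem hzI huI
  let T := {r : ℕ × ℕ // r ∈ [(0, 0), (12, 0), (1, 1), (13, 1)]}
  haveI : Fintype T := Fintype.ofList ([(0, 0), (12, 0), (1, 1), (13, 1)].attach) (fun r => List.mem_attach _ r)
  let m : T → I := fun r => ⟨_, hlist r.1 r.2⟩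
  have hkey : ∀ r ∈ [(0, 0), (12, 0), (1, 1), (13, 1)], ∀ r' ∈ [(0, 0), (12, 0), (1, 1), (13, 1)], r.1 < 24 ∧ r.2 < 24 ∧
      ((r.1 = r'.1 ∧ r.2 = r'.2 ∨ r.1 = sNeg r'.1 ∧ r.2 = sNeg r'.2) → r = r') := by decide +kernel
  have hm : Function.Injective m := fun r r' e =>
    Subtype.ext ((hkey _ r.2 _ r'.2).2.2 (S.pk_eq (hkey _ r.2 _ r.2).1 (hkey _ r.2 _ r.2).2.1
      (hkey _ r'.2 _ r'.2).1 (hkey _ r'.2 _ r'.2).2.1 (congrArg Subtype.val e)))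
  haveI : Finite I := Nat.finite_of_card_ne_zero (by rw [hcard]; norm_num)
  have hT : Nat.card T = 4 := by
    let e : T ≃ Fin 4 :=
      { toFun := fun r => ⟨([(0, 0), (12, 0), (1, 1), (13, 1)]).idxOf r.1, by
          have := List.idxOf_lt_length_iff.2 r.2
          simpa using this⟩
        invFun := fun i => ⟨([(0, 0), (12, 0), (1, 1), (13, 1)]).getD i (0, 0), by fin_cases i <;> simp⟩
        left_inv := fun ⟨r, hr⟩ => Subtype.ext (by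
          rcases (show r = (0, 0) ∨ r = (12, 0) ∨ r = (1, 1) ∨ r = (13, 1) by simpa using hr) with
            rfl | rfl | rfl | rfl <;> rfl)
        right_inv := fun i => by fin_cases i <;> rfl }
    rw [Nat.card_congr e, Nat.card_fin]
  obtain ⟨r, hr⟩ := ((Nat.bijective_iff_injective_and_card m).2 ⟨hm, hT.trans hcard.symm⟩).2 ⟨y, hy⟩
  exact ⟨r.1, r.2, (congrArg Subtype.val hr).symm⟩

/-- Two involutions of the centralizer in different outer classes, commuting with the reference involution. -/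
theorem outer_pair [Finite G] : ∃ φ c₁ c₂ : G, φ * z * φ⁻¹ = pk f₁ f₂ 1 1 ∧ φ * pk f₁ f₂ 1 1 * φ⁻¹ = z ∧
    c₁ = φ * pk f₁ f₂ 2 2 * φ⁻¹ ∧ c₂ = φ * pk f₁ f₂ 3 2 * φ⁻¹ ∧ c₁ ∈ centralizer ({z} : Set G) ∧
    c₂ ∈ centralizer ({z} : Set G) ∧ c₁ * pk f₁ f₂ 1 1 = pk f₁ f₂ 1 1 * c₁ ∧
    c₂ * pk f₁ f₂ 1 1 = pk f₁ f₂ 1 1 * c₂ ∧ c₁ ∉ H₁ ⊔ H₂ ∧ c₂ ∉ H₁ ⊔ H₂ ∧ c₁ * c₂ ∉ H₁ ⊔ H₂ := by
  obtain ⟨φ, hφz, hφu⟩ := S.exchange
  set u := pk f₁ f₂ 1 1 with hu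
  obtain ⟨huQ, hu1, huz, huu⟩ := S.pk11
  have hcomm : ∀ a b, (a = 2 ∧ b = 2) ∨ (a = 3 ∧ b = 2) → pk f₁ f₂ a b * u = u * pk f₁ f₂ a b ∧
      pk f₁ f₂ a b * z = z * pk f₁ f₂ a b ∧ pk f₁ f₂ a b ^ 4 = 1 := by
    intro a b hab
    have hQ : pk f₁ f₂ a b ∈ Q := by
      rcases hab with ⟨rfl, rfl⟩ | ⟨rfl, rfl⟩ <;>
        exact (S.pk_memQ (by norm_num) (by norm_num)).2 ⟨by decide +kernel, by decide +kernel⟩
    refine ⟨?_, S.Q_cz hQ, ((S.hyp.memQ _).1 hQ).2⟩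
    rcases hab with ⟨rfl, rfl⟩ | ⟨rfl, rfl⟩ <;>
      rw [S.pk_mul (by norm_num) (by norm_num) (by norm_num) (by norm_num),
        S.pk_mul (by norm_num) (by norm_num) (by norm_num) (by norm_num),
        ← S.pk_neg (sMul_lt 1 (by norm_num) _ (by norm_num)) (sMul_lt 1 (by norm_num) _ (by norm_num))] <;>
      congr 1 <;> decide +kernel
  have hcz : ∀ {c}, c * u = u * c → φ * c * φ⁻¹ ∈ centralizer ({z} : Set G) := fun {c} h =>
    mem_centralizer_singleton_iff.2 (by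
      rw [← hφu, show φ * c * φ⁻¹ * (φ * u * φ⁻¹) = φ * (c * u) * φ⁻¹ by group, h]; group)
  have hcu : ∀ {c}, c * z = z * c → φ * c * φ⁻¹ * u = u * (φ * c * φ⁻¹) := fun {c} h => by
    rw [← hφz, show φ * c * φ⁻¹ * (φ * z * φ⁻¹) = φ * (c * z) * φ⁻¹ by group, h]; group
  have hout : ∀ {c}, c ^ 4 = 1 → c ∈ Q → (∀ r, r ∈ [(0, 0), (12, 0), (1, 1), (13, 1)] → c ≠ pk f₁ f₂ r.1 r.2) →
      φ * c * φ⁻¹ ∉ H₁ ⊔ H₂ := by
    intro c h4 hcQ hne hK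
    obtain ⟨r, hr, e⟩ := S.inter_list hφz hφu ⟨(S.hyp.memQ _).2 ⟨hK, by rw [conj_pow, h4]; group⟩,
      mem_map_of_mem _ hcQ⟩
    -- the conjugating element preserves the four group
    have hzu : z * u = pk f₁ f₂ 13 1 := by
      rw [hu, ← S.pk_z, S.pk_mul (by norm_num) (by norm_num) (by norm_num) (by norm_num)]
      congr 1 <;> decide +kernel
    have hcz' : u * z = z * u := S.Q_cz huQ
    have hc : c = φ⁻¹ * pk f₁ f₂ r.1 r.2 * φ := by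
      rw [← e]
      show c = φ⁻¹ * (φ * c * φ⁻¹) * φ
      group
    rcases (show r = (0, 0) ∨ r = (12, 0) ∨ r = (1, 1) ∨ r = (13, 1) by simpa using hr) with rfl | rfl | rfl | rfl
    · exact hne (0, 0) (by simp) (by rw [hc, S.pk_zero]; group)
    · refine hne (1, 1) (by simp) ?_
      rw [hc, S.pk_z]
      show φ⁻¹ * z * φ = u
      rw [← hφu]; group
    · refine hne (12, 0) (by simp) ?_
      rw [hc, S.pk_z]
      show φ⁻¹ * u * φ = z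
      rw [← hφz]; group
    · refine hne (13, 1) (by simp) ?_
      rw [hc, ← hzu]
      calc φ⁻¹ * (z * u) * φ = φ⁻¹ * ((φ * u * φ⁻¹) * (φ * z * φ⁻¹)) * φ := by rw [hφu, hφz]
        _ = u * z := by group
        _ = z * u := hcz'
  have hne : ∀ a < 24, ∀ b < 24, (∀ r ∈ [(0, 0), (12, 0), (1, 1), (13, 1)],
      ¬ ((a = r.1 ∧ b = r.2) ∨ (a = sNeg r.1 ∧ b = sNeg r.2))) →
      ∀ r ∈ [(0, 0), (12, 0), (1, 1), (13, 1)], pk f₁ f₂ a b ≠ pk f₁ f₂ r.1 r.2 := by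
    intro a ha b hb h r hr e
    exact h r hr (S.pk_eq ha hb (by fin_cases hr <;> norm_num) (by fin_cases hr <;> norm_num) e)
  obtain ⟨u₁, z₁, p₁⟩ := hcomm 2 2 (Or.inl ⟨rfl, rfl⟩)
  obtain ⟨u₂, z₂, p₂⟩ := hcomm 3 2 (Or.inr ⟨rfl, rfl⟩)
  have q₁ : pk f₁ f₂ 2 2 ∈ Q := (S.pk_memQ (by norm_num) (by norm_num)).2 ⟨by decide +kernel, by decide +kernel⟩
  have q₂ : pk f₁ f₂ 3 2 ∈ Q := (S.pk_memQ (by norm_num) (by norm_num)).2 ⟨by decide +kernel, by decide +kernel⟩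
  have q₃ := mul_mem q₁ q₂
  refine ⟨φ, _, _, hφz, hφu, rfl, rfl, hcz u₁, hcz u₂, hcu z₁, hcu z₂,
    hout p₁ q₁ (hne 2 (by norm_num) 2 (by norm_num) (by decide +kernel)),
    hout p₂ q₂ (hne 3 (by norm_num) 2 (by norm_num) (by decide +kernel)), ?_⟩
  rw [show φ * pk f₁ f₂ 2 2 * φ⁻¹ * (φ * pk f₁ f₂ 3 2 * φ⁻¹) = φ * (pk f₁ f₂ 2 2 * pk f₁ f₂ 3 2) * φ⁻¹ by group]
  refine hout ((S.hyp.memQ _).1 q₃).2 q₃ fun r hr e => ?_
  rw [S.pk_mul (by norm_num) (by norm_num) (by norm_num) (by norm_num)] at e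
  exact hne _ (sMul_lt 2 (by norm_num) 3 (by norm_num)) _ (sMul_lt 2 (by norm_num) 2 (by norm_num))
    (by decide +kernel) r hr e

/-- Some involution exchanges the two groups. -/
theorem exists_swap [Finite G] : ∃ x ∈ centralizer ({z} : Set G), x * x = 1 ∧
    (∀ s, x * f₁ s * x⁻¹ ∈ H₂) ∧ ∀ s, x * f₂ s * x⁻¹ ∈ H₁ := by
  obtain ⟨φ, c₁, c₂, hφz, hφu, hc₁, hc₂, hz₁, hz₂, hu₁, hu₂, hK₁, hK₂, hK₃⟩ := S.outer_pair
  have hsq : ∀ a b, (a = 2 ∧ b = 2) ∨ (a = 3 ∧ b = 2) → φ * pk f₁ f₂ a b * φ⁻¹ * (φ * pk f₁ f₂ a b * φ⁻¹) = 1 := by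
    intro a b h
    have e : pk f₁ f₂ a b * pk f₁ f₂ a b = 1 := by
      rcases h with ⟨rfl, rfl⟩ | ⟨rfl, rfl⟩ <;>
        rw [S.pk_mul (by norm_num) (by norm_num) (by norm_num) (by norm_num),
          show sMul 2 2 = 12 from by decide +kernel] <;>
        (try rw [show sMul 3 3 = 12 from by decide +kernel]) <;>
        rw [pk, sl_twelve, S.neg₁, S.neg₂, S.zz]
    rw [show φ * pk f₁ f₂ a b * φ⁻¹ * (φ * pk f₁ f₂ a b * φ⁻¹) = φ * (pk f₁ f₂ a b * pk f₁ f₂ a b) * φ⁻¹ by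
      group, e]
    group
  rcases S.side_or hz₁ with ⟨a₁, b₁⟩ | h
  swap
  · exact ⟨c₁, hz₁, hc₁ ▸ hsq 2 2 (Or.inl ⟨rfl, rfl⟩), h⟩
  rcases S.side_or hz₂ with ⟨a₂, b₂⟩ | h
  swap
  · exact ⟨c₂, hz₂, hc₂ ▸ hsq 3 2 (Or.inr ⟨rfl, rfl⟩), h⟩
  exfalso
  -- both fix the two groups, so both are outer on both
  have heq : ∀ {c : G} {f g : Bool} {k k' : Fin 24}, (∀ s, c * f₁ s * c⁻¹ = f₁ (autHom f k s)) →
      (∀ s, c * f₂ s * c⁻¹ = f₂ (autHom g k' s)) → c ∈ centralizer ({z} : Set G) →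
      c * pk f₁ f₂ 1 1 = pk f₁ f₂ 1 1 * c → c ∈ Q.map (MulAut.conj φ).toMonoidHom → f = g := by
    intro c f g k k' e₁ e₂ hcz hcu hcQ
    have himg : ∀ a b, a < 24 → b < 24 → c * pk f₁ f₂ a b * c⁻¹ = pk f₁ f₂ (aut f k a) (aut g k' b) := by
      intro a b ha hb
      rw [pk, pk, show c * (f₁ (sl a) * f₂ (sl b)) * c⁻¹ = (c * f₁ (sl a) * c⁻¹) * (c * f₂ (sl b) * c⁻¹) by group,
        e₁, e₂, autHom_sl f k ha, autHom_sl g k' hb]
    have hfix := himg 1 1 (by norm_num) (by norm_num)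
    rw [hcu, mul_inv_cancel_right] at hfix
    have l₁ := aut_lt f k k.isLt 1 (by norm_num)
    have l₂ := aut_lt g k' k'.isLt 1 (by norm_num)
    set q := pk f₁ f₂ 2 2 with hq
    have hqQ : q ∈ Q := (S.pk_memQ (by norm_num) (by norm_num)).2 ⟨by decide +kernel, by decide +kernel⟩
    have hd : c * q * c⁻¹ * q⁻¹ ∈ Q ⊓ Q.map (MulAut.conj φ).toMonoidHom := by
      refine ⟨mul_mem (S.norm hcz hqQ) (Subgroup.inv_mem _ hqQ), ?_⟩
      rw [show c * q * c⁻¹ * q⁻¹ = c * (q * c⁻¹ * q⁻¹) by group]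
      refine mul_mem hcQ (mem_map_conj.2 ?_)
      rw [show φ⁻¹ * (q * c⁻¹ * q⁻¹) * φ = (φ⁻¹ * q * φ) * (φ⁻¹ * c * φ)⁻¹ * (φ⁻¹ * q * φ)⁻¹ by group]
      refine S.norm (mem_centralizer_singleton_iff.2 ?_) (inv_mem (mem_map_conj.1 hcQ))
      have hqu : q * pk f₁ f₂ 1 1 = pk f₁ f₂ 1 1 * q := by
        rw [hq, S.pk_mul (by norm_num) (by norm_num) (by norm_num) (by norm_num),
          S.pk_mul (by norm_num) (by norm_num) (by norm_num) (by norm_num),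
          ← S.pk_neg (sMul_lt 1 (by norm_num) 2 (by norm_num)) (sMul_lt 1 (by norm_num) 2 (by norm_num))]
        congr 1 <;> decide +kernel
      calc φ⁻¹ * q * φ * z = φ⁻¹ * (q * (φ * z * φ⁻¹)) * φ := by group
        _ = φ⁻¹ * ((φ * z * φ⁻¹) * q) * φ := by rw [hφz, hqu]
        _ = _ := by group
    -- the intersection is the four group
    obtain ⟨r, hr, er⟩ := S.inter_list hφz hφu hd
    refine single_flip f g k k' ?_ ⟨r, hr, ?_⟩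
    · exact (S.pk_eq l₁ l₂ (by norm_num) (by norm_num) hfix.symm)
    · rw [himg 2 2 (by norm_num) (by norm_num), hq, S.pk_inv (by norm_num) (by norm_num),
        S.pk_mul (aut_lt f k k.isLt 2 (by norm_num)) (aut_lt g k' k'.isLt 2 (by norm_num))
          (sInv_spec 2 (by norm_num)).1 (sInv_spec 2 (by norm_num)).1] at er
      rcases S.pk_eq (sMul_lt _ (aut_lt f k k.isLt 2 (by norm_num)) _ (sInv_spec 2 (by norm_num)).1)
        (sMul_lt _ (aut_lt g k' k'.isLt 2 (by norm_num)) _ (sInv_spec 2 (by norm_num)).1)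
        (by fin_cases hr <;> norm_num) (by fin_cases hr <;> norm_num) er with ⟨x₁, x₂⟩ | ⟨x₁, x₂⟩ <;>
        rw [x₁, x₂] <;> simp
  have hq : ∀ a b, (a = 2 ∧ b = 2) ∨ (a = 3 ∧ b = 2) → φ * pk f₁ f₂ a b * φ⁻¹ ∈ Q.map (MulAut.conj φ).toMonoidHom := by
    intro a b h
    refine mem_map_of_mem _ ?_
    rcases h with ⟨rfl, rfl⟩ | ⟨rfl, rfl⟩ <;>
      exact (S.pk_memQ (by norm_num) (by norm_num)).2 ⟨by decide +kernel, by decide +kernel⟩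
  have r₁ := fun {c : G} (h : ∀ s, c * f₁ s * c⁻¹ ∈ H₁) => S.acts (F := f₁) (F' := f₁) S.inj₁ S.inj₁ (c := c)
    (by rw [S.range₁]; exact h)
  have r₂ := fun {c : G} (h : ∀ s, c * f₂ s * c⁻¹ ∈ H₂) => S.acts (F := f₂) (F' := f₂) S.inj₂ S.inj₂ (c := c)
    (by rw [S.range₂]; exact h)
  obtain ⟨f, k, e₁⟩ := r₁ a₁
  obtain ⟨g, k', e₁'⟩ := r₂ b₁
  obtain rfl := heq e₁ e₁' hz₁ hu₁ (hc₁ ▸ hq 2 2 (Or.inl ⟨rfl, rfl⟩))
  obtain ⟨f', l, e₂⟩ := r₁ a₂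
  obtain ⟨g', l', e₂'⟩ := r₂ b₂
  obtain rfl := heq e₂ e₂' hz₂ hu₂ (hc₂ ▸ hq 3 2 (Or.inr ⟨rfl, rfl⟩))
  cases f
  · exact hK₁ (S.mem_K_of_inner hz₁ e₁ e₁')
  cases f'
  · exact hK₂ (S.mem_K_of_inner hz₂ e₂ e₂')
  obtain ⟨m, hm⟩ := aut_comp k l
  obtain ⟨m', hm'⟩ := aut_comp k' l'
  refine hK₃ (S.mem_K_of_inner (mul_mem hz₁ hz₂) (k := m) (k' := m') (fun s => ?_) fun s => ?_)
  · rw [← hm, MonoidHom.comp_apply, show c₁ * c₂ * f₁ s * (c₁ * c₂)⁻¹ = c₁ * (c₂ * f₁ s * c₂⁻¹) * c₁⁻¹ by group,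
      e₂, e₁]
  · rw [← hm', MonoidHom.comp_apply, show c₁ * c₂ * f₂ s * (c₁ * c₂)⁻¹ = c₁ * (c₂ * f₂ s * c₂⁻¹) * c₁⁻¹ by group,
      e₂', e₁']

end Coord

end

end CfsgLib.Spor.UFourType
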