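import Cfsg.Agent.Lib.Spor.UFourType.Real
import Cfsg.Agent.Lib.Invol.BrauerSuzuki

/-!
# The centralizer of an element of order three of the other kind
-/

set_option autoImplicit false
set_option linter.unusedSectionVars false
set_option synthInstance.maxSize 4096

namespace CfsgLib.Spor.UFourType

open Subgroup

noncomputable section

/-- The code of the element. -/
abbrev aC : ℕ := 384

/-- The quaternion group in its centralizer. -/
def qList : List ℕ := [0, 4, 8, 12, 48, 52, 56, 60]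

theorem qList_closed : (∀ c ∈ qList, c < 1152) ∧ 0 ∈ qList ∧ (∀ c ∈ qList, ∀ d ∈ qList, mC c d ∈ qList) ∧
    (∀ c ∈ qList, ∃ d ∈ qList, mC c d = 0) := by decide +kernel

theorem qList_facts : (∀ c ∈ qList, mC c aC = mC aC c ∧ mC c zC = mC zC c ∧
    (c = 0 ∨ c = zC ∨ mC c c = zC)) ∧ qList.length = 8 ∧ qList.Nodup := by decide +kernel

theorem a_facts : aC ∈ listP ∧ aC ≠ 0 ∧ (16 : ℕ) ∈ listP ∧
    (∀ c ∈ invList, mC c aC = mC aC c → c = zC) ∧
    (∀ c ∈ listP, ∃ i < 3, ∃ j < 3, c = mC (mPow aC i) (mPow 16 j)) ∧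
    (16 : ℕ) ≠ 0 ∧ mC 16 aC = mC aC 16 ∧ (∀ i < 3, 16 ≠ mPow aC i) := by decide +kernel

theorem a_core : ∀ c ∈ threeList, mC c aC = mC aC c → c = aC ∨ c = mC aC aC ∨
    ∃ k < 1152, mC k aC = mC aC k ∧ ∃ d ∈ threeList, mC k c = mC d k ∧ mC (mC (mC c d) (mC c d)) (mC c d) ≠ 0 := by
  decide +kernel

theorem b_gen : ∃ k < 1152, mC k aC = mC aC k ∧ mC k 16 = mC 28 k ∧
    mPow (mC 16 28) 3 = zC ∧ mC 28 aC = mC aC 28 := by decide +kernel

/-- Its centralizer. -/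
def Model.grpX {G : Type*} [Group G] {z : G} {Q : Subgroup G} {ψ : ℕ → G} (_M : Model z Q ψ) : Subgroup G :=
  centralizer ({ψ aC} : Set G)

/-- The odd core of its centralizer. -/
def Model.grpO {G : Type*} [Group G] [Finite G] {z : G} {Q : Subgroup G} {ψ : ℕ → G} (M : Model z Q ψ) :
    Subgroup G := (Cfsg.pPrimeCore 2 M.grpX).map M.grpX.subtype

namespace Model

variable {G : Type*} [Group G] [Finite G] {z : G} {Q : Subgroup G} {ψ : ℕ → G} (M : Model z Q ψ)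
include M

theorem mem_grpX {g : G} : g ∈ M.grpX ↔ g * ψ aC = ψ aC * g := mem_centralizer_singleton_iff

theorem aX_mem : ψ aC ∈ M.grpP ∧ z ∈ M.grpX ∧ M.grpA ≤ M.grpX :=
  ⟨⟨aC, a_facts.1, rfl⟩, M.mem_grpX.2 (M.comm_z (by norm_num)).symm,
    fun _ ha => M.mem_grpX.2 (M.grpP_comm_grpA ⟨aC, a_facts.1, rfl⟩ ha).symm⟩

theorem grpO_le : M.grpO ≤ M.grpX := by rintro _ ⟨x, -, rfl⟩; exact x.2

theorem grpO_conj {g o : G} (hg : g ∈ M.grpX) (ho : o ∈ M.grpO) : g * o * g⁻¹ ∈ M.grpO := by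
  haveI := Coprime.pPrimeCore_characteristic (G := M.grpX) 2
  obtain ⟨x, hx, rfl⟩ := ho
  exact ⟨⟨g, hg⟩ * x * ⟨g, hg⟩⁻¹, (inferInstance : (Cfsg.pPrimeCore 2 M.grpX).Normal).conj_mem x hx _, rfl⟩

theorem grpO_odd : Odd (Nat.card M.grpO) := by
  rw [grpO, Subgroup.card_map_of_injective Subtype.val_injective, Nat.odd_iff]
  have := Coprime.pPrimeCore_not_dvd (G := M.grpX) Nat.prime_two
  omega

theorem grpO_odd' {o : G} (ho : o ∈ M.grpO) : Odd (orderOf o) :=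
  M.grpO_odd.of_dvd_nat (Subgroup.orderOf_dvd_natCard _ ho)

/-- The centre is central modulo the core. -/
theorem z_centralX {g : G} (hg : g ∈ M.grpX) : z * g * z * g⁻¹ ∈ M.grpO := by
  haveI : Fact (Nat.Prime 2) := ⟨Nat.prime_two⟩
  let zx : M.grpX := ⟨z, M.aX_mem.2.1⟩
  have hz2 : orderOf zx = 2 := by rw [← Subgroup.orderOf_coe]; exact M.ord
  obtain ⟨P, hP⟩ := (IsPGroup.of_card (n := 1) (G := zpowers zx) (by
    rw [Nat.card_zpowers, hz2, pow_one])).exists_le_sylow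
  have hzP : zx ∈ (P : Subgroup M.grpX) := hP (mem_zpowers zx)
  have inC : ∀ x : M.grpX, x * x = 1 → x ≠ 1 → x * zx = zx * x → x = zx := by
    intro x h2 h1 hc
    obtain ⟨c, hc', hce⟩ := M.inv_code (g := (x : G)) (mem_centralizer_singleton_iff.2 (congrArg Subtype.val hc :))
      (congrArg Subtype.val h2 :) (fun e => h1 (Subtype.ext e))
    have : c = zC := a_facts.2.2.2.1 c hc' ((M.comm_iff (list_lt.1 c hc') (by norm_num)).1 (by
      rw [hce]; exact M.mem_grpX.1 x.2))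
    subst this
    rw [M.at_z] at hce
    exact Subtype.ext hce.symm
  haveI : Nontrivial (P : Subgroup M.grpX) :=
    ⟨⟨⟨zx, hzP⟩, 1, fun e => M.z_ne (congrArg (fun w : (P : Subgroup M.grpX) => (w.1 : G)) e)⟩⟩
  haveI := P.2.center_nontrivial
  obtain ⟨c, hc⟩ := exists_prime_orderOf_dvd_card' (G := center (P : Subgroup M.grpX)) 2 (by
    obtain ⟨n, hn⟩ := (P.2.to_subgroup (center (P : Subgroup M.grpX))).exists_card_eq
    rcases n with _ | n
    · exact absurd hn (by have := Finite.one_lt_card (α := center (P : Subgroup M.grpX)); omega)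
    · exact hn ▸ dvd_pow_self 2 (Nat.succ_ne_zero n))
  have hco : orderOf (c.1.1 : M.grpX) = 2 := by rw [Subgroup.orderOf_coe, Subgroup.orderOf_coe]; exact hc
  have hcomm : ∀ x : (P : Subgroup M.grpX), (x : M.grpX) * c.1.1 = c.1.1 * x := fun x =>
    congrArg Subtype.val (mem_center_iff.1 c.2 x)
  have hcz : (c.1.1 : M.grpX) = zx := inC _ (by
      have h := pow_orderOf_eq_one (c.1.1 : M.grpX)
      rwa [hco, pow_two] at h)
    (fun e => by rw [e, orderOf_one] at hco; norm_num at hco) (hcomm ⟨zx, hzP⟩).symm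
  have hZ : CfsgLib.Invol.IsZCentral zx := CfsgLib.Invol.zcentral_of_unique_invol P hz2 fun x hx hxo =>
    inC x (by rw [← pow_two, ← hxo, pow_orderOf_eq_one]) (fun e => by rw [e, orderOf_one] at hxo; norm_num at hxo)
      (by have h := hcomm ⟨x, hx⟩; rwa [hcz] at h)
  refine ⟨_, hZ ⟨g, hg⟩, ?_⟩
  show z * g * z⁻¹ * g⁻¹ = _
  rw [M.z_inv]

/-- Inverted elements of the centralizer lie in the core. -/
theorem inverted_memO {x : G} (hx : x ∈ M.grpX) (ho : Odd (orderOf x)) (hz : z * x * z = x⁻¹) : x ∈ M.grpO := by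
  have h := M.z_centralX hx
  rw [hz, ← mul_inv_rev, inv_mem_iff] at h
  exact mem_of_sq _ ho h

theorem O_fixed {x : G} (hx : x ∈ M.grpO) (hz : z * x = x * z) : x ∈ zpowers (ψ aC) := by
  by_cases h1 : x = 1
  · rw [h1]; exact one_mem _
  obtain ⟨c, hc, rfl⟩ := M.three_code (g := x) (mem_centralizer_singleton_iff.2 hz.symm)
    (M.cube_of_odd (mem_centralizer_singleton_iff.2 hz.symm) (M.grpO_odd' hx)) h1
  have lc := list_lt.2.1 c hc
  rcases a_core c hc ((M.comm_iff lc (by norm_num)).1 (M.mem_grpX.1 (M.grpO_le hx))) with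
    rfl | rfl | ⟨k, hk, hka, d, hd, hkd, h3⟩
  · exact mem_zpowers _
  · rw [← M.mul aC (by norm_num) aC (by norm_num)]
    exact mul_mem (mem_zpowers _) (mem_zpowers _)
  · exfalso
    have ld := list_lt.2.1 d hd
    have hdO : ψ d ∈ M.grpO := by
      rw [← M.conj_eq hk lc ld hkd]
      exact M.grpO_conj (M.mem_grpX.2 ((M.comm_iff hk (by norm_num)).2 hka)) hx
    have lcd := mC_lt lc ld
    have hp := M.cube_of_odd (M.mem _ lcd) (by rw [← M.mul c lc d ld]; exact M.grpO_odd' (mul_mem hx hdO))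
    rw [pow_succ, pow_two, M.mul _ lcd _ lcd, M.mul _ (mC_lt lcd lcd) _ lcd,
      M.eq_one_iff (mC_lt (mC_lt lcd lcd) lcd)] at hp
    exact h3 hp

theorem aO_mem : ψ aC ∈ M.grpO := by
  haveI : (zpowers (⟨ψ aC, M.mem_grpX.2 rfl⟩ : M.grpX)).Normal := ⟨fun n hn g => by
    obtain ⟨i, rfl⟩ := mem_zpowers_iff.1 hn
    have hc : Commute g (⟨ψ aC, M.mem_grpX.2 rfl⟩ : M.grpX) := Subtype.ext (M.mem_grpX.1 g.2)
    rw [(hc.zpow_right i).eq, mul_inv_cancel_right]
    exact hn⟩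
  have ho : orderOf (⟨ψ aC, M.mem_grpX.2 rfl⟩ : M.grpX) = 3 := by
    rw [← Subgroup.orderOf_coe]
    exact orderOf_eq_prime (M.grpP_cube M.aX_mem.1) (fun e => a_facts.2.1 ((M.eq_one_iff (by norm_num)).1 e))
  exact ⟨_, Coprime.le_pPrimeCore_of_not_dvd Nat.prime_two (by rw [Nat.card_zpowers, ho]; norm_num)
    (mem_zpowers _), rfl⟩

theorem a_power {x : G} (hx : x ∈ zpowers (ψ aC)) : x ∈ M.grpP ∧ z * x * z = x ∧ ∀ g ∈ M.grpX, g * x = x * g := by
  refine ⟨zpowers_le.2 M.aX_mem.1 hx, ?_, fun g hg => ?_⟩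
  · rw [← mem_centralizer_singleton_iff.1 (zpowers_le.2 (M.mem aC (by norm_num)) hx), mul_assoc, M.zz, mul_one]
  · obtain ⟨i, rfl⟩ := mem_zpowers_iff.1 hx
    exact ((show Commute g (ψ aC) from M.mem_grpX.1 hg).zpow_right i).eq

theorem split_O {x : G} (hx : x ∈ M.grpO) :
    ∃ p ∈ zpowers (ψ aC), ∃ d ∈ M.grpO, x = p * d ∧ z * d * z = d⁻¹ := by
  obtain ⟨p, hp, d, hd, e, hpz, hdz⟩ := split_odd M.zz M.grpO (fun g hg => M.grpO_odd' hg) hx (by
    have h := M.grpO_conj M.aX_mem.2.1 hx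
    rwa [M.z_inv] at h)
  refine ⟨p, M.O_fixed hp ?_, d, hd, e, hdz⟩
  calc z * p = z * p * z * z := by rw [mul_assoc (z * p), M.zz, mul_one]
    _ = p * z := by rw [hpz]

theorem O_unique {p d e : G} (hp : p ∈ zpowers (ψ aC)) (hd : d ∈ M.grpO) (hdz : z * d * z = d⁻¹)
    (hez : z * e * z = e⁻¹) (he : e = p * d) : p = 1 ∧ e = d :=
  inverted_unique_gen M.zz (M.odd_of_cube (M.grpP_cube (M.a_power hp).1)) ((M.a_power hp).2.2 d (M.grpO_le hd)).symm
    (M.a_power hp).2.1 hdz hez he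

/-- The commutators of the core lie in the subgroup of order three. -/
theorem O_comm {x x' : G} (hx : x ∈ M.grpO) (hx' : x' ∈ M.grpO) : x * x' * x⁻¹ * x'⁻¹ ∈ zpowers (ψ aC) := by
  obtain ⟨p, hp, d, hd, rfl, hdz⟩ := M.split_O hx
  obtain ⟨p', hp', e, he, rfl, hez⟩ := M.split_O hx'
  obtain ⟨r, hr, f, hf, h, hfz⟩ := M.split_O (mul_mem hd he)
  have hrz := (M.a_power hr).2.1
  have cen : ∀ {q w : G}, q ∈ zpowers (ψ aC) → w ∈ M.grpO → Commute q w := fun hq hw =>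
    ((M.a_power hq).2.2 _ (M.grpO_le hw)).symm
  have h2 : d⁻¹ * e⁻¹ = r * f⁻¹ := by
    calc d⁻¹ * e⁻¹ = z * d * z * (z * e * z) := by rw [hdz, hez]
      _ = z * d * (z * z) * e * z := by group
      _ = z * (d * e) * z := by rw [M.zz]; group
      _ = z * r * (z * z) * f * z := by rw [h, M.zz]; group
      _ = z * r * z * (z * f * z) := by group
      _ = _ := by rw [hrz, hfz]
  have e1 : p * d * (p' * e) * (p * d)⁻¹ * (p' * e)⁻¹ = r * r := by
    have c1 := cen hp' hd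
    have c2 := cen (inv_mem hp) (inv_mem he)
    have c3 := cen (mul_mem (inv_mem hp) (inv_mem hp')) (mul_mem (mul_mem (mul_mem hd he) (inv_mem hd)) (inv_mem he))
    calc p * d * (p' * e) * (p * d)⁻¹ * (p' * e)⁻¹ = p * (d * p') * e * d⁻¹ * (p⁻¹ * e⁻¹) * p'⁻¹ := by group
      _ = p * p' * ((d * e * d⁻¹ * e⁻¹) * (p⁻¹ * p'⁻¹)) := by rw [← c1.eq, c2.eq]; group
      _ = p * p' * (p⁻¹ * p'⁻¹) * (d * e * d⁻¹ * e⁻¹) := by rw [← c3.eq]; group
      _ = d * e * d⁻¹ * e⁻¹ := by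
          have hpp : p' * p = p * p' := M.grpP_le_cent (M.a_power hp).1 p' (M.a_power hp').1
          rw [show p * p' * (p⁻¹ * p'⁻¹) = 1 by rw [← mul_inv_rev, hpp, mul_inv_cancel], one_mul]
      _ = r * (f * r) * f⁻¹ := by rw [mul_assoc (d * e), h2, h]; group
      _ = r * r := by rw [← (cen hr hf).eq]; group
  rw [e1]
  exact mul_mem hr hr

end Model

end

end CfsgLib.Spor.UFourType
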