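import Cfsg.Agent.Lib.Spor.UFourType.ThreeA
import Cfsg.Agent.Lib.Spor.UFourType.InvolFixed

/-!
# The core has order 243 and the element is not real
-/

set_option autoImplicit false
set_option linter.unusedSectionVars false
set_option synthInstance.maxSize 4096

namespace CfsgLib.Spor.UFourType

open Subgroup

noncomputable section

/-- The elements acting trivially on the core modulo the subgroup of order three. -/
def Model.grpK {G : Type*} [Group G] [Finite G] {z : G} {Q : Subgroup G} {ψ : ℕ → G} (M : Model z Q ψ) :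
    Subgroup G where
  carrier := {k | k ∈ M.grpX ∧ ∀ x ∈ M.grpO, k * x * k⁻¹ * x⁻¹ ∈ zpowers (ψ aC)}
  one_mem' := ⟨one_mem _, fun x _ => by simp⟩
  mul_mem' := by
    rintro k l ⟨hk, hk'⟩ ⟨hl, hl'⟩
    refine ⟨mul_mem hk hl, fun x hx => ?_⟩
    have h := hl' x hx
    have e : k * l * x * (k * l)⁻¹ * x⁻¹ = k * (l * x * l⁻¹ * x⁻¹) * k⁻¹ * (k * x * k⁻¹ * x⁻¹) := by group
    rw [e, (M.a_power h).2.2 k hk, mul_inv_cancel_right]
    exact mul_mem h (hk' x hx)
  inv_mem' := by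
    rintro k ⟨hk, hk'⟩
    refine ⟨inv_mem hk, fun x hx => ?_⟩
    have hy : k⁻¹ * x * k ∈ M.grpO := by
      have := M.grpO_conj (inv_mem hk) hx
      rwa [inv_inv] at this
    have h := inv_mem (hk' _ hy)
    have e : k⁻¹ * x * k⁻¹⁻¹ * x⁻¹ = (k * (k⁻¹ * x * k) * k⁻¹ * (k⁻¹ * x * k)⁻¹)⁻¹ := by group
    rwa [e]

namespace Model

variable {G : Type*} [Group G] [Finite G] {z : G} {Q : Subgroup G} {ψ : ℕ → G} (M : Model z Q ψ)
include M

theorem b_memX : ψ 16 ∈ M.grpX ∧ ψ 16 ∈ M.grpP :=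
  ⟨M.mem_grpX.2 ((M.comm_iff (by norm_num) (by norm_num)).2 a_facts.2.2.2.2.2.2.1), ⟨16, a_facts.2.2.1, rfl⟩⟩

theorem A_inverted_memO {d : G} (hd : d ∈ M.grpA) (hz : z * d * z = d⁻¹) : d ∈ M.grpO :=
  M.inverted_memO (M.aX_mem.2.2 hd) (M.grpA_odd hd) hz

/-- The second generator does not act trivially on the core modulo the first. -/
theorem b_notMemK : ψ 16 ∉ M.grpK := by
  intro hb
  obtain ⟨k, hk, hka, hkb, h3, h28⟩ := b_gen
  have hkX : ψ k ∈ M.grpX := M.mem_grpX.2 ((M.comm_iff hk (by norm_num)).2 hka)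
  have hb' : ψ 28 ∈ M.grpK := by
    rw [← M.conj_eq hk (by norm_num) (by norm_num) hkb]
    refine ⟨mul_mem (mul_mem hkX hb.1) (inv_mem hkX), fun x hx => ?_⟩
    have hy : (ψ k)⁻¹ * x * ψ k ∈ M.grpO := by
      have := M.grpO_conj (inv_mem hkX) hx
      rwa [inv_inv] at this
    have h := hb.2 _ hy
    have e : ψ k * ψ 16 * (ψ k)⁻¹ * x * (ψ k * ψ 16 * (ψ k)⁻¹)⁻¹ * x⁻¹ =
        ψ k * (ψ 16 * ((ψ k)⁻¹ * x * ψ k) * (ψ 16)⁻¹ * ((ψ k)⁻¹ * x * ψ k)⁻¹) * (ψ k)⁻¹ := by group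
    rw [e, (M.a_power h).2.2 _ hkX, mul_inv_cancel_right]
    exact h
  have hz : z ∈ M.grpK := by
    have h := pow_mem (mul_mem hb hb') 3
    rwa [M.mul 16 (by norm_num) 28 (by norm_num), M.pow (mC_lt (by norm_num) (by norm_num)), h3, M.at_z] at h
  obtain ⟨d, hd, hdz, hd1⟩ := M.exists_inverted
  have h := hz.2 d (M.A_inverted_memO hd hdz)
  rw [M.z_inv, hdz, ← mul_inv_rev, inv_mem_iff] at h
  have h' := mem_of_sq _ (M.grpA_odd hd) h
  exact hd1 (eq_one_of_sq (M.grpA_odd hd) (mul_eq_one_iff_eq_inv.2 ((M.a_power h').2.1.symm.trans hdz)))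

theorem a_ne : ψ aC ≠ 1 := fun e => a_facts.2.1 ((M.eq_one_iff (by norm_num)).1 e)

theorem a_order : orderOf (ψ aC) = 3 := orderOf_eq_prime (M.grpP_cube M.aX_mem.1) M.a_ne

/-- The elements are products of a power and an inverted element, uniquely. -/
theorem card_split_O : Nat.card M.grpO = 3 * Nat.card {d : G // d ∈ M.grpO ∧ z * d * z = d⁻¹} := by
  let f : zpowers (ψ aC) × {d : G // d ∈ M.grpO ∧ z * d * z = d⁻¹} → M.grpO := fun x =>
    ⟨x.1 * x.2, mul_mem (zpowers_le.2 M.aO_mem x.1.2) x.2.2.1⟩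
  have hf : Function.Bijective f := by
    refine ⟨fun x y e => ?_, fun o => ?_⟩
    · have e' : (x.1 : G) * x.2 = y.1 * y.2 := congrArg Subtype.val e
      obtain ⟨h1, h2⟩ := M.O_unique (mul_mem (inv_mem y.1.2) x.1.2) x.2.2.1 x.2.2.2 y.2.2.2
        (by rw [mul_assoc, e', inv_mul_cancel_left])
      exact Prod.ext (Subtype.ext (inv_mul_eq_one.1 h1).symm) (Subtype.ext h2.symm)
    · obtain ⟨p, hp, d, hd, e, hdz⟩ := M.split_O o.2
      exact ⟨(⟨p, hp⟩, ⟨d, hd, hdz⟩), Subtype.ext e.symm⟩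
  rw [← Nat.card_eq_of_bijective f hf, Nat.card_prod, Nat.card_zpowers, M.a_order]

/-- The centralizer of a fixed inverted element of a side, in side coordinates. -/
theorem side_real {b : Bool} {u : ℕ} (hu : u ∈ [wC b, wC' b]) {s : G} (hs : s ∈ M.fixA u)
    (hsz : z * s * z = s⁻¹) (hs1 : s ≠ 1) :
    ∃ b', ∃ g : G, ∀ x, x * s = s * x ↔ g * x * g⁻¹ ∈ M.grpH b' := by
  obtain ⟨lu, hu2, huz, -⟩ := M.side_u hu
  exact M.real_pair (M.side_fix_eq hu hs hsz hs1).2.1 hs1 hu2 (M.invol (side_facts b u hu).1).2 M.zz huz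
    (mem_centralizer_singleton_iff.1 hs.2).symm hsz

/-- The index of a centralizer in the core. -/
theorem O_index {s : G} (hs : s ∈ M.grpO) :
    ∃ r, r ∣ 3 ∧ Nat.card M.grpO = Nat.card (M.grpO ⊓ centralizer ({s} : Set G) : Subgroup G) * r := by
  let φ : M.grpO →* zpowers (ψ aC) := MonoidHom.mk' (fun x => ⟨_, M.O_comm x.2 hs⟩) fun x y => Subtype.ext (by
    show (x : G) * y * s * ((x : G) * y)⁻¹ * s⁻¹ = (x : G) * s * (x : G)⁻¹ * s⁻¹ * (y * s * (y : G)⁻¹ * s⁻¹)
    have h := (M.a_power (M.O_comm y.2 hs)).2.2 _ (M.grpO_le x.2)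
    have h' := (M.a_power (M.O_comm y.2 hs)).2.2 _ (M.grpO_le (mul_mem (mul_mem (mul_mem x.2 hs) (inv_mem x.2))
      (inv_mem hs)))
    rw [show (x : G) * y * s * ((x : G) * y)⁻¹ * s⁻¹ = (x : G) * (y * s * (y : G)⁻¹ * s⁻¹) * (s * (x : G)⁻¹ * s⁻¹)
      by group, h, h']
    group)
  refine ⟨Nat.card φ.range, ?_, ?_⟩
  · rw [← M.a_order, ← Nat.card_zpowers]
    exact Subgroup.card_subgroup_dvd_card _
  · have e := φ.ker.card_mul_index
    rw [Subgroup.index_ker] at e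
    rw [← e]
    congr 1
    refine Nat.card_congr
      { toFun := fun k => ⟨k.1.1, k.1.2, mem_centralizer_singleton_iff.2 (by
          have h : (k.1 : G) * s * (k.1 : G)⁻¹ * s⁻¹ = 1 := congrArg Subtype.val (MonoidHom.mem_ker.1 k.2)
          exact mul_inv_eq_iff_eq_mul.1 (mul_inv_eq_one.1 h))⟩
        invFun := fun k => ⟨⟨k.1, k.2.1⟩, MonoidHom.mem_ker.2 (Subtype.ext (by
          show (k : G) * s * (k : G)⁻¹ * s⁻¹ = 1
          rw [mem_centralizer_singleton_iff.1 k.2.2]; group))⟩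
        left_inv := fun k => rfl
        right_inv := fun k => rfl }

theorem card_cent_O_dvd {s g : G} {b : Bool} (h : ∀ x, x * s = s * x ↔ g * x * g⁻¹ ∈ M.grpH b) :
    Nat.card (M.grpO ⊓ centralizer ({s} : Set G) : Subgroup G) ∣ 243 := by
  have hodd : Odd (Nat.card (M.grpO ⊓ centralizer ({s} : Set G) : Subgroup G)) :=
    M.grpO_odd.of_dvd_nat (Subgroup.card_dvd_of_le inf_le_left)
  exact (Nat.Coprime.dvd_mul_left (show Nat.Coprime _ (2 ^ 2) from
    Nat.Coprime.pow_right 2 (Nat.coprime_two_right.2 hodd))).1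
    (show _ ∣ 2 ^ 2 * 243 from (Subgroup.card_dvd_of_le inf_le_right).trans (M.card_real h))

/-- Eight divides the number of nontrivial inverted elements of the core. -/
theorem free_eight : 8 ∣ Nat.card {d : G // (d ∈ M.grpO ∧ z * d * z = d⁻¹) ∧ d ≠ 1} := by
  let K := M.listSub qList qList_closed
  let X := {d : G // (d ∈ M.grpO ∧ z * d * z = d⁻¹) ∧ d ≠ 1}
  have hK : ∀ k : K, (k : G) ∈ M.grpX ∧ (k : G) * z = z * k ∧
      ((k : G) = 1 ∨ (k : G) = z ∨ (k : G) * k = z) := by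
    rintro ⟨_, c, hc, rfl⟩
    have lc := qList_closed.1 c hc
    obtain ⟨h1, -, h3⟩ := qList_facts.1 c hc
    refine ⟨M.mem_grpX.2 ((M.comm_iff lc (by norm_num)).2 h1), M.comm_z lc, ?_⟩
    rcases h3 with rfl | rfl | h
    · exact Or.inl M.one
    · exact Or.inr (Or.inl M.at_z)
    · exact Or.inr (Or.inr (by rw [M.mul c lc c lc, h, M.at_z]))
  have hmem : ∀ (k : K) (d : X), ((k : G) * d * (k : G)⁻¹ ∈ M.grpO ∧
      z * ((k : G) * d * (k : G)⁻¹) * z = ((k : G) * d * (k : G)⁻¹)⁻¹) ∧ (k : G) * d * (k : G)⁻¹ ≠ 1 := by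
    intro k d
    have hc := (hK k).2.1
    refine ⟨⟨M.grpO_conj (hK k).1 d.2.1.1, ?_⟩, fun e => d.2.2 (conj_eq_one_iff.1 e)⟩
    calc z * ((k : G) * d * (k : G)⁻¹) * z = z * k * d * ((k : G)⁻¹ * z) := by group
      _ = k * (z * d * z) * (k : G)⁻¹ := by
          rw [← hc, show (k : G)⁻¹ * z = z * (k : G)⁻¹ from ((show Commute (k : G) z from hc).inv_left).eq]; group
      _ = _ := by rw [d.2.1.2]; group
  letI : MulAction K X :=
    { smul := fun k d => ⟨(k : G) * d * (k : G)⁻¹, hmem k d⟩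
      one_smul := fun d => Subtype.ext (by show (1 : G) * d * (1 : G)⁻¹ = d; group)
      mul_smul := fun k l d => Subtype.ext (by
        show (k : G) * l * d * ((k : G) * l)⁻¹ = k * ((l : G) * d * (l : G)⁻¹) * (k : G)⁻¹
        group) }
  have horb : ∀ d : X, Nat.card (MulAction.orbit K d) = 8 := by
    intro d
    have hst : MulAction.stabilizer K d = ⊥ := by
      refine (Subgroup.eq_bot_iff_forall _).2 fun k hk => ?_
      have he : (k : G) * d * (k : G)⁻¹ = d := congrArg Subtype.val (MulAction.mem_stabilizer_iff.1 hk)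
      have hc : Commute (k : G) (d : G) := mul_inv_eq_iff_eq_mul.1 he
      rcases (hK k).2.2 with h | h | h
      · exact Subtype.ext h
      · exfalso
        rw [h] at hc
        refine d.2.2 (eq_one_of_sq (M.grpO_odd' d.2.1.1) (mul_eq_one_iff_eq_inv.2 ?_))
        rw [← d.2.1.2, hc.eq, mul_assoc, M.zz, mul_one]
      · exfalso
        have hz := hc.mul_left hc
        rw [h] at hz
        refine d.2.2 (eq_one_of_sq (M.grpO_odd' d.2.1.1) (mul_eq_one_iff_eq_inv.2 ?_))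
        rw [← d.2.1.2, hz.eq, mul_assoc, M.zz, mul_one]
    have h := Nat.card_congr (MulAction.orbitEquivQuotientStabilizer K d)
    rw [h, hst, ← Subgroup.index_eq_card, Subgroup.index_bot]
    exact (M.card_list (L := qList) qList_closed.1 qList_facts.2.2).trans qList_facts.2.1
  classical
  haveI : Fintype (MulAction.orbitRel.Quotient K X) := Fintype.ofFinite _
  rw [Nat.card_congr (MulAction.selfEquivSigmaOrbits K X), Nat.card_sigma]
  exact Finset.dvd_sum fun q _ => by rw [horb]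

/-- The inverted elements of the elementary group. -/
theorem card_A_inverted : Nat.card {d : G // d ∈ M.grpA ∧ z * d * z = d⁻¹} = 9 := by
  let f : M.grpP × {d : G // d ∈ M.grpA ∧ z * d * z = d⁻¹} → M.grpA := fun x =>
    ⟨x.1 * x.2, mul_mem (M.grpP_le_grpA x.1.2) x.2.2.1⟩
  have hf : Function.Bijective f := by
    refine ⟨fun x y e => ?_, fun a => ?_⟩
    · have e' : (x.1 : G) * x.2 = y.1 * y.2 := congrArg Subtype.val e
      obtain ⟨h1, h2⟩ := M.inverted_unique_A (mul_mem (inv_mem y.1.2) x.1.2) x.2.2.1 x.2.2.2 y.2.2.2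
        (by rw [mul_assoc, e', inv_mul_cancel_left])
      exact Prod.ext (Subtype.ext (inv_mul_eq_one.1 h1).symm) (Subtype.ext h2.symm)
    · obtain ⟨p, hp, d, hd, e, hdz⟩ := M.split_A a.2
      exact ⟨(⟨p, hp⟩, ⟨d, hd, hdz⟩), Subtype.ext e.symm⟩
  have h := Nat.card_eq_of_bijective f hf
  rw [Nat.card_prod, M.card_grpP, M.card_grpA] at h
  omega

/-- The core has order 243. -/
theorem card_grpO : Nat.card M.grpO = 243 := by
  classical
  have hw : wC false ∈ [wC false, wC' false] := List.mem_cons_self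
  obtain ⟨s, hs, hsz, hs1⟩ := M.side_exists_fix hw
  obtain ⟨b, g, hg⟩ := M.side_real hw hs hsz hs1
  obtain ⟨r, hr, e⟩ := M.O_index (M.A_inverted_memO hs.1 hsz)
  have h729 : Nat.card M.grpO ∣ 729 := by
    rw [e]; exact Nat.mul_dvd_mul (M.card_cent_O_dvd hg) hr
  have hD := M.card_split_O
  set D := {d : G // d ∈ M.grpO ∧ z * d * z = d⁻¹} with hDd
  have h9 : 9 ≤ Nat.card D := by
    rw [← M.card_A_inverted]
    exact Nat.card_le_card_of_injective (fun d => (⟨d.1, M.A_inverted_memO d.2.1 d.2.2, d.2.2⟩ : D))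
      fun d d' h => Subtype.ext (congrArg Subtype.val h :)
  have h8 := M.free_eight
  have hsplit : Nat.card D = Nat.card {d : G // (d ∈ M.grpO ∧ z * d * z = d⁻¹) ∧ d ≠ 1} + 1 := by
    have hone : (1 : G) ∈ M.grpO ∧ z * 1 * z = (1 : G)⁻¹ := ⟨one_mem _, by rw [mul_one, M.zz, inv_one]⟩
    rw [← Finite.card_option]
    refine (Nat.card_eq_of_bijective (fun o : Option {d : G // (d ∈ M.grpO ∧ z * d * z = d⁻¹) ∧ d ≠ 1} =>
      o.elim (⟨1, hone⟩ : D) fun d => ⟨d.1, d.2.1⟩) ⟨?_, ?_⟩).symm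
    · rintro (_ | d) (_ | d') h
      · rfl
      · exact absurd (congrArg Subtype.val h).symm d'.2.2
      · exact absurd (congrArg Subtype.val h) d.2.2
      · exact congrArg some (Subtype.ext (congrArg Subtype.val h :))
    · rintro ⟨d, hd⟩
      by_cases h1 : d = 1
      · exact ⟨none, Subtype.ext h1.symm⟩
      · exact ⟨some ⟨d, hd, h1⟩, rfl⟩
  have hD81 : Nat.card D = 9 ∨ Nat.card D = 81 := by
    have h243 : Nat.card D ∈ Nat.divisors 243 :=
      Nat.mem_divisors.2 ⟨(Nat.mul_dvd_mul_iff_left (by norm_num : 0 < 3)).1 (by rw [← hD]; exact h729), by norm_num⟩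
    have key : ∀ m ∈ Nat.divisors 243, 9 ≤ m → m % 8 = 1 → m = 9 ∨ m = 81 := by decide +kernel
    exact key _ h243 h9 (by omega)
  rcases hD81 with h | h
  · exfalso
    refine M.b_notMemK ⟨M.b_memX.1, fun x hx => ?_⟩
    suffices hxA : x ∈ M.grpA by
      rw [M.grpP_comm_grpA M.b_memX.2 hxA, mul_inv_cancel_right, mul_inv_cancel]
      exact one_mem _
    let i : {d : G // d ∈ M.grpA ∧ z * d * z = d⁻¹} → D := fun d =>
      ⟨d.1, M.A_inverted_memO d.2.1 d.2.2, d.2.2⟩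
    have hi : Function.Bijective i := Function.Injective.bijective_of_nat_card_le
      (fun d d' h => Subtype.ext (congrArg Subtype.val h :)) (by rw [M.card_A_inverted, h])
    obtain ⟨p, hp, d, hd, rfl, hdz⟩ := M.split_O hx
    obtain ⟨d', hd'⟩ := hi.2 ⟨d, hd, hdz⟩
    refine mul_mem (M.grpP_le_grpA (M.a_power hp).1) ?_
    rw [show d = d'.1 from (congrArg Subtype.val hd').symm]
    exact d'.2.1
  · rw [hD, h]

/-- The inverted elements of the core. -/
theorem card_O_inverted : Nat.card {d : G // d ∈ M.grpO ∧ z * d * z = d⁻¹} = 81 := by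
  have h := M.card_split_O
  rw [M.card_grpO] at h
  omega

/-- The 3-group over the core. -/
theorem card_sup_b : Nat.card (M.grpO ⊔ zpowers (ψ 16) : Subgroup G) = 729 := by
  have hb : orderOf (ψ 16) = 3 := orderOf_eq_prime (M.grpP_cube M.b_memX.2)
    (fun e => a_facts.2.2.2.2.2.1 ((M.eq_one_iff (by norm_num)).1 e))
  have hd : Nat.card (M.grpO ⊔ zpowers (ψ 16) : Subgroup G) ∣ 729 := by
    rw [sup_comm]
    refine (Coprime.card_sup_dvd_of_le_normalizer (zpowers_le.2 (mem_normalizer_iff.2 fun x =>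
      ⟨fun hx => M.grpO_conj M.b_memX.1 hx, fun hx => ?_⟩))).trans ?_
    · have h := M.grpO_conj (inv_mem M.b_memX.1) hx
      rwa [show (ψ 16)⁻¹ * (ψ 16 * x * (ψ 16)⁻¹) * (ψ 16)⁻¹⁻¹ = x by group] at h
    · rw [Nat.card_zpowers, hb, M.card_grpO]
  have hlt : Nat.card M.grpO < Nat.card (M.grpO ⊔ zpowers (ψ 16) : Subgroup G) := by
    refine lt_of_le_of_ne (Subgroup.card_le_of_le le_sup_left) fun e => ?_
    have he := Subgroup.eq_of_le_of_card_ge (le_sup_left : M.grpO ≤ M.grpO ⊔ zpowers (ψ 16)) e.ge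
    have hbO : ψ 16 ∈ M.grpO := he.symm ▸ mem_sup_right (mem_zpowers _)
    obtain ⟨i, hi⟩ := mem_zpowers_iff.1 (M.O_fixed hbO (M.comm_z (by norm_num)).symm)
    have hmod : ψ aC ^ (i % 3) = ψ 16 := by
      rw [← hi]
      have := zpow_mod_orderOf (ψ aC) i
      rwa [M.a_order] at this
    obtain ⟨n, hn⟩ := Int.eq_ofNat_of_zero_le (Int.emod_nonneg i (show (3 : ℤ) ≠ 0 by norm_num))
    have hn3 : n < 3 := by
      have := Int.emod_lt_of_pos i (show (0 : ℤ) < 3 by norm_num)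
      omega
    rw [hn, zpow_natCast, M.pow (by norm_num)] at hmod
    exact a_facts.2.2.2.2.2.2.2 n hn3 (M.inj _ (mPow_lt (by norm_num) n) _ (by norm_num) hmod).symm
  rw [M.card_grpO] at hlt
  have h : Nat.card (M.grpO ⊔ zpowers (ψ 16) : Subgroup G) ∈ Nat.divisors 729 := Nat.mem_divisors.2 ⟨hd, by norm_num⟩
  exact (by decide +kernel : ∀ m ∈ Nat.divisors 729, 243 < m → m = 729) _ h hlt

theorem sup_b_le : M.grpO ⊔ zpowers (ψ 16) ≤ M.grpX := sup_le M.grpO_le (zpowers_le.2 M.b_memX.1)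

/-- Not conjugate to the element of a side. -/
theorem a_not_side {c : G} {b : Bool} : ¬ ∀ x, x * ψ aC = ψ aC * x ↔ c * x * c⁻¹ ∈ M.grpH b := by
  intro h
  have hd := (Subgroup.card_dvd_of_le M.sup_b_le).trans (M.card_real h)
  rw [M.card_sup_b] at hd
  norm_num at hd

/-- No involution inverts the element. -/
theorem a_nonreal {t : G} (ht2 : t * t = 1) : t * ψ aC * t ≠ (ψ aC)⁻¹ := by
  intro ht
  have hnorm : ∀ x ∈ M.grpX, t * x * t ∈ M.grpX := fun x hx => by
    refine M.mem_grpX.2 ?_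
    have hc : Commute x (ψ aC)⁻¹ := (show Commute x (ψ aC) from M.mem_grpX.1 hx).inv_right
    have hta : t * (ψ aC)⁻¹ * t = ψ aC := by
      rw [← ht, show t * (t * ψ aC * t) * t = t * t * ψ aC * (t * t) by group, ht2]; group
    calc t * x * t * ψ aC = t * x * t * (t * (ψ aC)⁻¹ * t) := by rw [hta]
      _ = t * x * (t * t) * (ψ aC)⁻¹ * t := by group
      _ = t * (x * (ψ aC)⁻¹) * t := by rw [ht2]; group
      _ = t * ((ψ aC)⁻¹ * x) * t := by rw [hc.eq]
      _ = t * (ψ aC)⁻¹ * (t * t) * x * t := by rw [ht2]; group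
      _ = t * (ψ aC)⁻¹ * t * (t * x * t) := by group
      _ = ψ aC * (t * x * t) := by rw [hta]
  obtain ⟨w, hw, hw2, hw1, hwt⟩ := exists_fixed_invol ht2 M.grpX hnorm (by
    rw [← M.ord]; exact Subgroup.orderOf_dvd_natCard _ M.aX_mem.2.1)
  obtain ⟨b, g, hg⟩ := M.real_pair (M.grpP_cube M.aX_mem.1) M.a_ne hw2 hw1 ht2 hwt (M.mem_grpX.1 hw) ht
  exact M.a_not_side hg

end Model

end

end CfsgLib.Spor.UFourType
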