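import Cfsg.Agent.Lib.Spor.UFourType.Model

/-!
# Calculating in the centralizer by codes
-/

set_option autoImplicit false
set_option linter.unusedSectionVars false

namespace CfsgLib.Spor.UFourType

open Subgroup

noncomputable section

/-- Powers, by codes. -/
def mPow (c : ℕ) : ℕ → ℕ
  | 0 => 0
  | n + 1 => mC (mPow c n) c

theorem mC_lt {c d : ℕ} (hc : c < 1152) (hd : d < 1152) : mC c d < 1152 := mulP_lt true true c d hc hd

theorem mPow_lt {c : ℕ} (hc : c < 1152) : ∀ n, mPow c n < 1152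
  | 0 => by norm_num [mPow]
  | n + 1 => mC_lt (mPow_lt hc n) hc

theorem list_lt : (∀ c ∈ invList, c < 1152) ∧ (∀ c ∈ threeList, c < 1152) ∧ (∀ c ∈ qInvList, c < 1152) := by
  decide +kernel

theorem invList_spec : ∀ c ∈ invList, mC c c = 0 ∧ c ≠ 0 := by decide +kernel

theorem threeList_spec : ∀ c ∈ threeList, mC (mC c c) c = 0 ∧ c ≠ 0 := by decide +kernel

theorem lists_nodup : invList.Nodup ∧ threeList.Nodup ∧ qInvList.Nodup ∧ mList.Nodup := by decide +kernel

namespace Model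

variable {G : Type*} [Group G] {z : G} {Q : Subgroup G} {ψ : ℕ → G} (M : Model z Q ψ)
include M

theorem one : ψ 0 = 1 := by
  have h := M.mul 0 (by norm_num) 0 (by norm_num)
  rw [show mC 0 0 = 0 from by decide +kernel] at h
  exact mul_eq_left.1 h

theorem zz : z * z = 1 := by rw [← pow_two, ← M.ord, pow_orderOf_eq_one]

theorem z_inv : z⁻¹ = z := inv_eq_of_mul_eq_one_right M.zz

theorem z_ne : z ≠ 1 := fun e => by
  have h := M.ord
  rw [e, orderOf_one] at h
  omega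

theorem comm_z {c : ℕ} (hc : c < 1152) : ψ c * z = z * ψ c := mem_centralizer_singleton_iff.1 (M.mem c hc)

theorem pow {c : ℕ} (hc : c < 1152) (n : ℕ) : ψ c ^ n = ψ (mPow c n) := by
  induction n with
  | zero => rw [pow_zero, mPow, M.one]
  | succ n ih => rw [pow_succ, ih, mPow, M.mul _ (mPow_lt hc n) _ hc]

theorem eq_iff {c d : ℕ} (hc : c < 1152) (hd : d < 1152) : ψ c = ψ d ↔ c = d :=
  ⟨M.inj c hc d hd, fun e => e ▸ rfl⟩

theorem eq_one_iff {c : ℕ} (hc : c < 1152) : ψ c = 1 ↔ c = 0 := by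
  rw [← M.one, M.eq_iff hc (by norm_num)]

theorem eq_z_iff {c : ℕ} (hc : c < 1152) : ψ c = z ↔ c = zC := by
  rw [← M.at_z, M.eq_iff hc (by norm_num)]

theorem comm_iff {c d : ℕ} (hc : c < 1152) (hd : d < 1152) : ψ c * ψ d = ψ d * ψ c ↔ mC c d = mC d c := by
  rw [M.mul c hc d hd, M.mul d hd c hc, M.eq_iff (mC_lt hc hd) (mC_lt hd hc)]

theorem conj_eq {k c d : ℕ} (hk : k < 1152) (hc : c < 1152) (hd : d < 1152) (h : mC k c = mC d k) :
    ψ k * ψ c * (ψ k)⁻¹ = ψ d := by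
  rw [M.mul k hk c hc, h, ← M.mul d hd k hk, mul_inv_cancel_right]

theorem conj_iff {k c d : ℕ} (hk : k < 1152) (hc : c < 1152) (hd : d < 1152) :
    ψ k * ψ c * (ψ k)⁻¹ = ψ d ↔ mC k c = mC d k := by
  refine ⟨fun h => ?_, M.conj_eq hk hc hd⟩
  rw [mul_inv_eq_iff_eq_mul, M.mul k hk c hc, M.mul d hd k hk] at h
  exact M.inj _ (mC_lt hk hc) _ (mC_lt hd hk) h

theorem inv_code {g : G} (hg : g ∈ centralizer ({z} : Set G)) (h2 : g * g = 1) (h1 : g ≠ 1) :
    ∃ c ∈ invList, ψ c = g := by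
  obtain ⟨c, hc, rfl⟩ := M.surj g hg
  rw [M.mul c hc c hc, M.eq_one_iff (mC_lt hc hc)] at h2
  rcases invList_complete c hc h2 with rfl | h
  · exact absurd M.one h1
  · exact ⟨c, h, rfl⟩

theorem three_code {g : G} (hg : g ∈ centralizer ({z} : Set G)) (h3 : g ^ 3 = 1) (h1 : g ≠ 1) :
    ∃ c ∈ threeList, ψ c = g := by
  obtain ⟨c, hc, rfl⟩ := M.surj g hg
  rw [pow_succ, pow_two, M.mul c hc c hc, M.mul _ (mC_lt hc hc) c hc, M.eq_one_iff (mC_lt (mC_lt hc hc) hc)] at h3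
  rcases threeList_complete c hc h3 with rfl | h
  · exact absurd M.one h1
  · exact ⟨c, h, rfl⟩

theorem invol {c : ℕ} (hc : c ∈ invList) : ψ c * ψ c = 1 ∧ ψ c ≠ 1 := by
  have l := list_lt.1 c hc
  refine ⟨?_, fun e => (invList_spec c hc).2 ((M.eq_one_iff l).1 e)⟩
  rw [M.mul c l c l, (invList_spec c hc).1, M.one]

/-- A filtered list of codes counts a set of elements. -/
theorem card_list {L : List ℕ} (hL : ∀ c ∈ L, c < 1152) (hn : L.Nodup) :
    Nat.card {g : G // ∃ c ∈ L, ψ c = g} = L.length := by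
  classical
  let f : {c // c ∈ L.toFinset} → {g : G // ∃ c ∈ L, ψ c = g} := fun c =>
    ⟨ψ c, c, List.mem_toFinset.1 c.2, rfl⟩
  have hf : Function.Bijective f := by
    refine ⟨fun c d e => Subtype.ext (M.inj _ (hL _ (List.mem_toFinset.1 c.2)) _
      (hL _ (List.mem_toFinset.1 d.2)) (congrArg Subtype.val e)), ?_⟩
    rintro ⟨g, c, hc, rfl⟩
    exact ⟨⟨c, List.mem_toFinset.2 hc⟩, rfl⟩
  rw [← Nat.card_eq_of_bijective f hf, Nat.card_eq_finsetCard, List.toFinset_card_of_nodup hn]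

/-- The count of the elements of the centralizer with a decidable property. -/
theorem card_pred {P : G → Prop} {p : ℕ → Bool} (h : ∀ c < 1152, (P (ψ c) ↔ p c = true)) :
    Nat.card {g : G // g ∈ centralizer ({z} : Set G) ∧ P g} = ((List.range 1152).filter p).length := by
  rw [← M.card_list (L := (List.range 1152).filter p) (fun c hc => List.mem_range.1 (List.mem_filter.1 hc).1)
    (List.Nodup.filter _ List.nodup_range)]
  refine Nat.card_congr (Equiv.subtypeEquivRight fun g => ⟨fun ⟨hg, hP⟩ => ?_, ?_⟩)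
  · obtain ⟨c, hc, rfl⟩ := M.surj g hg
    exact ⟨c, List.mem_filter.2 ⟨List.mem_range.2 hc, (h c hc).1 hP⟩, rfl⟩
  · rintro ⟨c, hc, rfl⟩
    obtain ⟨hc, hp⟩ := List.mem_filter.1 hc
    exact ⟨M.mem c (List.mem_range.1 hc), (h c (List.mem_range.1 hc)).2 hp⟩

theorem self {g : G} (hg : g ∈ centralizer ({z} : Set G)) (h : ∀ c ∈ qInvList, g * ψ c = ψ c * g) :
    g = 1 ∨ g = z := by
  have key : ∀ c < 1152, (∀ d ∈ qInvList, mC c d = mC d c) → c = 0 ∨ c = zC := by decide +kernel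
  obtain ⟨c, hc, rfl⟩ := M.surj g hg
  rcases key c hc (fun d hd => (M.comm_iff hc (list_lt.2.2 d hd)).1 (h d hd)) with rfl | rfl
  · exact Or.inl M.one
  · exact Or.inr M.at_z

theorem qInv_mem {c : ℕ} (hc : c ∈ qInvList) : ψ c ∈ Q :=
  (M.memQ c (list_lt.2.2 c hc)).2 ((by decide +kernel : ∀ c ∈ qInvList, inQ c = true) c hc)

theorem z_mem : z ∈ Q := M.at_z ▸ M.qInv_mem (by decide)

theorem Q_two : IsPGroup 2 Q := fun g => by
  obtain ⟨c, hc, e⟩ := M.surj _ (M.leQ g.2)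
  have key : ∀ c < 1152, inQ c = true → mPow c 4 = 0 := by decide +kernel
  refine ⟨2, Subtype.ext ?_⟩
  rw [Subgroup.coe_pow, ← e, show 2 ^ 2 = 4 from rfl, M.pow hc, key c hc ((M.memQ c hc).1 (e ▸ g.2)), M.one]
  rfl

end Model

end

end CfsgLib.Spor.UFourType
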